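import Cfsg.Agent.NineTwoQ.Gamma
import Cfsg.Agent.Blocks.AbelianFrobenius.Principal
import Cfsg.Agent.Blocks.LocalDivisibility

/-!
# The two characters lie in the principal 3-block and have degrees prime to three
-/

set_option autoImplicit false
set_option linter.style.haveILetI false

namespace CfsgLib.NineTwoQ

open Cfsg Subgroup CfsgLib.Chars CfsgLib.Blocks CfsgLib.Blocks.HeightZero
open scoped ComplexConjugate

universe u

variable {G : Type u} [Group G] [Fintype G] {R : Sylow 3 G} {K₀ : Subgroup G}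
  {M : Ideal AlgInt}

/-- Transfer gives a normal complement in the centralizer of a freely moved element. -/
theorem exists_free_complement (hR : Nat.card (R : Subgroup G) = 9) {r : G}
    (hr : r ∈ (R : Subgroup G)) (hF : Free R r) :
    ∃ K : Subgroup (centralizer ({r} : Set G)), K.Normal ∧ ¬ 3 ∣ Nat.card K ∧ K.index = 9 ∧
      ∀ s : centralizer ({r} : Set G), ¬ 3 ∣ orderOf s → s ∈ K := by
  haveI : Fact (Nat.Prime 3) := ⟨Nat.prime_three⟩
  have hle : (R : Subgroup G) ≤ centralizer ({r} : Set G) := fun z hz =>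
    mem_centralizer_singleton_iff.mpr (comm_of_card_nine hR z hz r hr)
  set P' := R.subtype hle with hP'
  have hN : normalizer ((P' : Subgroup (centralizer ({r} : Set G))) :
      Set (centralizer ({r} : Set G))) ≤ centralizer (P' : Set (centralizer ({r} : Set G))) := by
    intro c hc
    have hcN : (c : G) ∈ normalizer ((R : Subgroup G) : Set G) := by
      rw [mem_normalizer_iff]
      intro z
      constructor
      · intro hz
        have := (mem_normalizer_iff.mp hc ⟨z, hle hz⟩).1 (by
          rw [hP', Sylow.coe_subtype, mem_subgroupOf]; exact hz)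
        rwa [hP', Sylow.coe_subtype, mem_subgroupOf] at this
      · intro hz
        have hzC : z ∈ centralizer ({r} : Set G) := by
          have := mul_mem (mul_mem (inv_mem c.2) (hle hz)) c.2
          simpa [mul_assoc] using this
        have := (mem_normalizer_iff.mp hc ⟨z, hzC⟩).2 (by
          rw [hP', Sylow.coe_subtype, mem_subgroupOf]; exact hz)
        rwa [hP', Sylow.coe_subtype, mem_subgroupOf] at this
    have hfix := hF c hcN (by rw [mem_centralizer_singleton_iff.mp c.2, mul_inv_cancel_right])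
    refine mem_centralizer_iff.mpr fun z hz => Subtype.ext ?_
    exact (mul_inv_eq_iff_eq_mul.mp (hfix z hz)).symm
  have hcomp := MonoidHom.ker_transferSylow_isComplement' P' hN
  have hidx : (MonoidHom.transferSylow P' hN).ker.index = 9 := by
    rw [hcomp.symm.index_eq_card, hP', Sylow.coe_subtype, ← hR]
    exact Nat.card_congr (Subgroup.subgroupOfEquivOfLe hle).toEquiv
  refine ⟨_, inferInstance, MonoidHom.not_dvd_card_ker_transferSylow P' hN, hidx, fun s hs => ?_⟩
  have h1 : orderOf (QuotientGroup.mk' (MonoidHom.transferSylow P' hN).ker s) ∣ 3 ^ 2 := by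
    rw [show 3 ^ 2 = 9 from rfl, ← hidx, Subgroup.index_eq_card]
    exact _root_.orderOf_dvd_natCard _
  have h2 : orderOf (QuotientGroup.mk' (MonoidHom.transferSylow P' hN).ker s) ∣ orderOf s :=
    orderOf_map_dvd _ s
  have hcop : (orderOf s).Coprime (3 ^ 2) :=
    ((Nat.prime_three.coprime_iff_not_dvd.mpr hs).symm).pow_right 2
  have := Nat.eq_one_of_dvd_coprimes hcop h2 h1
  exact (QuotientGroup.eq_one_iff _).mp (orderOf_eq_one_iff.mp this)

theorem regC_eq_image {r : G} (K : Subgroup (centralizer ({r} : Set G)))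
    (hK3 : ¬ 3 ∣ Nat.card K)
    (hKs : ∀ s : centralizer ({r} : Set G), ¬ 3 ∣ orderOf s → s ∈ K) [Fintype K] :
    regC r = (Finset.univ : Finset K).map
      (⟨fun k : K => ((k : centralizer ({r} : Set G)) : G), fun _ _ e => Subtype.ext (Subtype.ext e)⟩ : K ↪ G) := by
  ext u
  simp only [mem_regC, Finset.mem_map, Finset.mem_univ, true_and, Function.Embedding.coeFn_mk]
  constructor
  · rintro ⟨h, h'⟩
    exact ⟨⟨⟨u, mem_centralizer_singleton_iff.mpr h.eq.symm⟩,
      hKs _ (by rwa [Subgroup.orderOf_mk])⟩, rfl⟩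
  · rintro ⟨k, rfl⟩
    refine ⟨(mem_centralizer_singleton_iff.mp k.1.2).symm, fun h => hK3 (h.trans ?_)⟩
    show orderOf ((k : centralizer ({r} : Set G)) : G) ∣ Nat.card K
    rw [Subgroup.orderOf_coe, Subgroup.orderOf_coe]
    exact _root_.orderOf_dvd_natCard k

theorem card_free (hR : Nat.card (R : Subgroup G) = 9) {r : G} (hr : r ∈ (R : Subgroup G))
    (hF : Free R r) : Nat.card (centralizer ({r} : Set G)) = 9 * (regC r).card := by
  obtain ⟨K, -, hK3, hKi, hKs⟩ := exists_free_complement hR hr hF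
  haveI := Fintype.ofFinite K
  rw [regC_eq_image K hK3 hKs, Finset.card_map, Finset.card_univ, ← Nat.card_eq_fintype_card,
    ← K.card_mul_index, hKi, mul_comm]

theorem regC_nonempty (r : G) : (1 : G) ∈ regC r :=
  mem_regC.mpr ⟨Commute.one_right r, by simp⟩

/-- The section of a free element is a ninth of the group. -/
theorem nine_mul_card_secS (hR : Nat.card (R : Subgroup G) = 9) {r : G}
    (hr : r ∈ (R : Subgroup G)) (hF : Free R r) : 9 * (secS r).card = Nat.card G := by
  have h := card_sec (orderOf_pow_three hR hr)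
  rw [card_free hR hr hF, mul_comm 9, mul_assoc, mul_comm (Nat.card G)] at h
  exact Nat.eq_of_mul_eq_mul_left (Finset.card_pos.mpr ⟨1, regC_nonempty r⟩) h

/-- A normal `3'`-subgroup of the centralizer does not affect the principal block. -/
theorem apply_normal (hM : IsPModular 3 M) {r : G} (hr : ∃ k : ℕ, orderOf r = 3 ^ k)
    (K : Subgroup (centralizer ({r} : Set G))) [K.Normal] (hK : ¬ 3 ∣ Nat.card K)
    {χ : IrrCharacter G} (hχ : χ ∈ principalBlock M G) {s : centralizer ({r} : Set G)}
    (hs : s ∈ K) : (χ : G → ℂ) (r * (s : G)) = (χ : G → ℂ) r := by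
  classical
  have := isMaximal_of_isPModular hM
  haveI := Fintype.ofFinite (centralizer ({r} : Set G))
  have hsreg : ¬ 3 ∣ orderOf s := fun h => hK (h.trans (by
    rw [← Subgroup.orderOf_mk s hs]; exact _root_.orderOf_dvd_natCard _))
  have e1 := apply_section_eq_blockPart hM hr hχ hsreg
  have e2 := apply_section_eq_blockPart hM hr hχ (s := 1) (by simp)
  simp only [Subgroup.coe_one, mul_one] at e2
  refine e1.trans (Eq.trans ?_ e2.symm)
  rw [blockPart_apply_eq, Finset.sum_apply, Finset.sum_apply]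
  refine Finset.sum_congr rfl fun ψ hψ => ?_
  rw [Pi.smul_apply, Pi.smul_apply]
  congr 1
  exact map_eq_map_one_of_mem_charKer
    (le_charKer_of_mem_principalBlock K hM hK ((Set.Finite.mem_toFinset _).1 hψ) hs)

open scoped Classical in
/-- The values in the principal block at a 3-element, zero outside. -/
noncomputable def wB (M : Ideal AlgInt) (r : G) (χ : IrrCharacter G) : ℂ :=
  if χ ∈ principalBlock M G then (χ : G → ℂ) r else 0

/-- The sums over the section of a free element. -/
theorem sum_section_free (hM : IsPModular 3 M) (hR : Nat.card (R : Subgroup G) = 9) {r : G}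
    (hr : r ∈ (R : Subgroup G)) (hF : Free R r) :
    (∀ χ : IrrCharacter G,
      ∑ u ∈ regC r, (χ : G → ℂ) (r * u) = ((regC r).card : ℂ) * wB M r χ) ∧
      ∑ χ : IrrCharacter G, wB M r χ * conj (wB M r χ) = 9 := by
  classical
  have := isMaximal_of_isPModular hM
  have hr3 := orderOf_pow_three hR hr
  obtain ⟨K, hKn, hK3, hKi, hKs⟩ := exists_free_complement hR hr hF
  haveI := Fintype.ofFinite K
  haveI := Fintype.ofFinite (centralizer ({r} : Set G))
  set W : IrrCharacter G → ℂ := fun χ => ∑ s : K, (χ : G → ℂ) (r * ((s : centralizer ({r} : Set G)) : G))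
    with hW
  have hreg : ∀ s : K, IsPRegular 3 (s : centralizer ({r} : Set G)) := fun s h =>
    hK3 (h.trans (by rw [Subgroup.orderOf_coe]; exact _root_.orderOf_dvd_natCard _))
  have hsum : ∀ χ : IrrCharacter G, ∑ u ∈ regC r, (χ : G → ℂ) (r * u) = W χ := fun χ => by
    rw [regC_eq_image K hK3 hKs, Finset.sum_map]
    rfl
  have hk : (regC r).card = Fintype.card K := by
    rw [regC_eq_image K hK3 hKs, Finset.card_map, Finset.card_univ]
  -- the total over all characters
  have htot : ∑ χ : IrrCharacter G, W χ * conj (W χ) =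
      (Fintype.card (centralizer ({r} : Set G)) : ℂ) * (Fintype.card K : ℂ) := by
    simp only [hW, map_sum, Finset.sum_mul_sum]
    rw [Finset.sum_comm]
    have e : ∀ t : K, ∑ χ : IrrCharacter G, ∑ s : K,
        (χ : G → ℂ) (r * ((t : centralizer ({r} : Set G)) : G)) *
          conj ((χ : G → ℂ) (r * ((s : centralizer ({r} : Set G)) : G))) =
        (Fintype.card (centralizer ({r} : Set G)) : ℂ) := by
      intro t
      rw [Finset.sum_comm, Finset.sum_congr rfl fun s _ =>
        sum_irr_section_mul_conj Nat.prime_three rfl hr3 (hreg s) (hreg t), Finset.sum_comm]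
      have : ∀ c : centralizer ({r} : Set G), (∑ s : K,
          if c * (t : centralizer ({r} : Set G)) * c⁻¹ = s then (1 : ℂ) else 0) = 1 := by
        intro c
        rw [Finset.sum_eq_single ⟨_, hKn.conj_mem _ t.2 c⟩]
        · rw [if_pos rfl]
        · intro s _ hs
          rw [if_neg fun e => hs (Subtype.ext e.symm)]
        · intro h; exact absurd (Finset.mem_univ _) h
      rw [Finset.sum_congr rfl fun c _ => this c, Finset.sum_const, Finset.card_univ, nsmul_eq_mul,
        mul_one]
    rw [Finset.sum_congr rfl fun t _ => e t, Finset.sum_const, Finset.card_univ, nsmul_eq_mul]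
    ring
  have hconst : ∀ χ ∈ principalBlock M G, W χ = (Fintype.card K : ℂ) * (χ : G → ℂ) r := by
    intro χ hχ
    simp only [hW]
    rw [Finset.sum_congr rfl fun s _ => apply_normal hM hr3 K hK3 hχ s.2, Finset.sum_const,
      Finset.card_univ, nsmul_eq_mul]
  have hcol : ∑ χ ∈ (principalBlock M G).toFinite.toFinset,
      (χ : G → ℂ) r * conj ((χ : G → ℂ) r) = 9 := by
    have h := sum_principal_section (u := r) hM hr3 (s := 1) (by simp)
    simp only [Subgroup.coe_one, mul_one] at h
    rw [h, show (9 : ℂ) = ((9 : ℕ) : ℂ) by norm_num, ← hKi, ← sum_charDegree_sq_of_le_charKer (N := K),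
      Nat.cast_sum]
    refine Finset.sum_congr ?_ fun ψ _ => ?_
    · ext ψ
      simp only [Set.Finite.mem_toFinset, Finset.mem_filter, Finset.mem_univ, true_and]
      exact ⟨fun h => le_charKer_of_mem_principalBlock K hM hK3 h, fun h =>
        mem_principalBlock_of_le_charKer hM K ⟨2, by rw [hKi]; norm_num⟩ h⟩
    · rw [← coe_charDegree, Complex.conj_natCast, Nat.cast_pow, pow_two]
  have hCK : (Fintype.card (centralizer ({r} : Set G)) : ℂ) = 9 * (Fintype.card K : ℂ) := by
    rw [← Nat.card_eq_fintype_card, ← Nat.card_eq_fintype_card, ← K.card_mul_index, hKi]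
    push_cast; ring
  have hout : ∀ χ ∉ principalBlock M G, W χ = 0 := by
    intro χ hχ
    have hsplit := Finset.sum_filter_add_sum_filter_not (Finset.univ : Finset (IrrCharacter G))
      (fun χ => χ ∈ principalBlock M G) (fun χ => W χ * conj (W χ))
    have hin : ∑ χ ∈ Finset.univ.filter (fun χ => χ ∈ principalBlock M G), W χ * conj (W χ) =
        (Fintype.card K : ℂ) ^ 2 * 9 := by
      rw [← hcol, Finset.mul_sum]
      refine Finset.sum_congr (by ext; simp) fun χ hχ => ?_
      rw [hconst χ ((Set.Finite.mem_toFinset _).mp hχ), map_mul, Complex.conj_natCast]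
      ring
    rw [htot, hin, hCK] at hsplit
    have h0 : ∑ χ ∈ Finset.univ.filter (fun χ => ¬ χ ∈ principalBlock M G), W χ * conj (W χ) = 0 := by
      linear_combination hsplit
    simp only [Complex.mul_conj, ← Complex.ofReal_sum, Complex.ofReal_eq_zero] at h0
    exact Complex.normSq_eq_zero.mp
      ((Finset.sum_eq_zero_iff_of_nonneg fun _ _ => Complex.normSq_nonneg _).mp h0 χ
        (Finset.mem_filter.mpr ⟨Finset.mem_univ _, hχ⟩))
  refine ⟨fun χ => ?_, ?_⟩
  · rw [hsum, hk, wB]
    split_ifs with h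
    · exact hconst χ h
    · rw [hout χ h, mul_zero]
  · rw [← hcol, ← Finset.sum_subset (Finset.subset_univ (principalBlock M G).toFinite.toFinset)
      fun χ _ hχ => by
        rw [Set.Finite.mem_toFinset] at hχ
        simp [wB, if_neg hχ]]
    refine Finset.sum_congr rfl fun χ hχ => ?_
    rw [wB, if_pos ((Set.Finite.mem_toFinset _).mp hχ)]

/-- A nonzero small value in the principal block at a 3-element. -/
theorem good_of_value (hM : IsPModular 3 M) {χ : IrrCharacter G} {r : G}
    (hr : ∃ k : ℕ, orderOf r = 3 ^ k) {w : ℤ} (hv : wB M r χ = w) (hw : w ≠ 0)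
    (hw2 : -2 ≤ w ∧ w ≤ 2) :
    χ ∈ principalBlock M G ∧ ¬ 3 ∣ charDegree (χ : G → ℂ) := by
  have := isMaximal_of_isPModular hM
  by_cases h : χ ∈ principalBlock M G
  · refine ⟨h, fun h3 => ?_⟩
    rw [wB, if_pos h] at hv
    obtain ⟨k, hk⟩ := hr
    have hc := congr_apply_mul hM (isCharacter_coe χ) (Commute.one_right r) hk (y := 1) (by simp)
    rw [mul_one, ← coe_charDegree, hv] at hc
    have hd : (3 : ℤ) ∣ w - charDegree (χ : G → ℂ) := by
      have h' : MemLocalIdeal M (((w - charDegree (χ : G → ℂ) : ℤ) : ℂ)) := by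
        push_cast; exact hc
      rw [show (3 : ℤ) = ((3 : ℕ) : ℤ) from rfl, ← intCast_mem_iff hM, ← memLocalIdeal_coe_iff]
      convert h' using 1
      push_cast
      rfl
    omega
  · rw [wB, if_neg h] at hv
    exact absurd (by exact_mod_cast hv.symm) hw

/-- The values of a pair at a free element. -/
theorem Pair.values (P : Pair R K₀) (hM : IsPModular 3 M) (hR : Nat.card (R : Subgroup G) = 9)
    {r : G} (hr : r ∈ (R : Subgroup G)) (hr0 : r ∉ K₀) (hF : Free R r) :
    ∃ wp wm : ℤ, wB M r P.χp = wp ∧ wB M r P.χm = wm ∧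
      (wp = 2 ∧ wm = 0 ∨ wp = 1 ∧ wm = -1 ∨ wp = 0 ∧ wm = -2) := by
  classical
  obtain ⟨hsum, hnorm⟩ := sum_section_free hM hR hr hF
  have hint : ∀ χ : IrrCharacter G, (∃ m : ℤ, (χ : G → ℂ) r = m) → ∃ w : ℤ, wB M r χ = w := by
    rintro χ ⟨m, hm⟩
    by_cases h : χ ∈ principalBlock M G
    · exact ⟨m, by rw [wB, if_pos h, hm]⟩
    · exact ⟨0, by rw [wB, if_neg h, Int.cast_zero]⟩
  obtain ⟨wp, hp⟩ := hint _ (P.ratp r)
  obtain ⟨wm, hm⟩ := hint _ (P.ratm r)
  have hrel : wp - wm = 2 := by
    have h3 : ∀ u ∈ regC r, gam R K₀ (r * u) = 3 := fun u hu => by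
      rw [gam, if_pos]
      refine ⟨r, hr, hr0, ?_⟩
      rw [p3_mul (orderOf_pow_three hR hr) (mem_regC.mp hu).1 (mem_regC.mp hu).2]
    have h := Finset.sum_congr rfl fun u hu => (P.expand (r * u)).symm.trans (h3 u hu)
    rw [Finset.sum_sub_distrib, Finset.sum_add_distrib, hsum, hsum, hp, hm, Finset.sum_const,
      Finset.sum_const, nsmul_eq_mul, nsmul_eq_mul] at h
    have hne : ((regC r).card : ℂ) ≠ 0 :=
      Nat.cast_ne_zero.mpr (Finset.card_pos.mpr ⟨1, regC_nonempty r⟩).ne'
    have h2 : ((regC r).card : ℂ) * ((wp : ℂ) - wm) = ((regC r).card : ℂ) * 2 := by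
      linear_combination h
    exact_mod_cast mul_left_cancel₀ hne h2
  have hdiff : P.χp ≠ P.χm := fun e => by
    have := P.deg
    rw [e] at this
    omega
  have hp1 : P.χp ≠ oneChar G := fun e => by
    have h := P.one_lt
    rw [e, charDegree_eq_of_map_one (n := 1) (by simp)] at h
    omega
  have hm1 : P.χm ≠ oneChar G := fun e => by
    have h := P.deg
    have := P.one_lt
    rw [e, charDegree_eq_of_map_one (n := 1) (by simp)] at h
    omega
  have := isMaximal_of_isPModular hM
  have h9 : 1 + wp ^ 2 + wm ^ 2 ≤ 9 := by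
    have h := congrArg Complex.re hnorm
    simp only [Complex.mul_conj, Complex.re_sum, Complex.ofReal_re, Complex.re_ofNat] at h
    have hsub := Finset.sum_le_sum_of_subset_of_nonneg
      (f := fun χ => Complex.normSq (wB M r χ))
      (Finset.subset_univ ({oneChar G, P.χp, P.χm} : Finset (IrrCharacter G)))
      (fun _ _ _ => Complex.normSq_nonneg _)
    rw [h, Finset.sum_insert (by simp [hp1.symm, hm1.symm]), Finset.sum_pair hdiff, hp, hm, wB,
      if_pos oneChar_mem_principalBlock, oneChar_apply] at hsub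
    simp only [map_one, Complex.normSq_intCast] at hsub
    have : ((1 + wp ^ 2 + wm ^ 2 : ℤ) : ℝ) ≤ 9 := by push_cast; linarith
    exact_mod_cast this
  refine ⟨wp, wm, hp, hm, ?_⟩
  obtain rfl : wp = wm + 2 := by omega
  have h1 : -2 ≤ wm := by nlinarith
  have h2 : wm ≤ 0 := by nlinarith
  omega

theorem Pair.sum_setS_eq_zero (hR : Nat.card (R : Subgroup G) = 9) (χ : IrrCharacter G)
    (h : ∀ r ∈ setT R K₀, ∑ u ∈ regC r, (χ : G → ℂ) (r * u) = 0) :
    ∑ g ∈ setS R K₀, (χ : G → ℂ) g = 0 := by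
  classical
  rw [← Finset.sum_fiberwise_of_maps_to (g := fun g => ConjClasses.mk (p3 g))
    (t := (setT R K₀).image ConjClasses.mk) (fun g hg => ?_)]
  · refine Finset.sum_eq_zero fun C hC => ?_
    obtain ⟨r, hr, rfl⟩ := Finset.mem_image.mp hC
    have e : (setS R K₀).filter (fun g => ConjClasses.mk (p3 g) = ConjClasses.mk r) = secS r := by
      ext g
      simp only [Finset.mem_filter, mem_setS, mem_secS, ConjClasses.mk_eq_mk_iff_isConj]
      exact ⟨fun h => h.2.symm,
        fun h => ⟨⟨r, (mem_setT.mp hr).1, (mem_setT.mp hr).2, h⟩, h.symm⟩⟩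
    rw [e]
    have hs := sum_sec (orderOf_pow_three hR (mem_setT.mp hr).1) (fun g => (χ : G → ℂ) g)
      (fun g x => isClassFunction_coe χ g x)
    rw [h r hr, mul_zero] at hs
    exact (mul_eq_zero.mp hs).resolve_left (Nat.cast_ne_zero.mpr Nat.card_pos.ne')
  · obtain ⟨r, hr, hr0, hc⟩ := mem_setS.mp hg
    exact Finset.mem_image.mpr ⟨r, mem_setT.mpr ⟨hr, hr0⟩, ConjClasses.mk_eq_mk_iff_isConj.mpr hc⟩

/-- A pair of characters of the principal block with degrees prime to three. -/
def GoodPair (M : Ideal AlgInt) (P : Pair R K₀) : Prop :=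
  (P.χp ∈ principalBlock M G ∧ ¬ 3 ∣ charDegree (P.χp : G → ℂ)) ∧
    (P.χm ∈ principalBlock M G ∧ ¬ 3 ∣ charDegree (P.χm : G → ℂ))

/-- When all elements are free both members are good. -/
theorem Pair.good_of_free (P : Pair R K₀) (hM : IsPModular 3 M)
    (hR : Nat.card (R : Subgroup G) = 9) (hF : ∀ r ∈ (R : Subgroup G), r ≠ 1 → Free R r) :
    GoodPair M P := by
  classical
  have key : ∀ (χ : IrrCharacter G) (c : ℤ), c ≠ 0 →
      classInner (gam R K₀) (χ : G → ℂ) = c →
      (∀ r ∈ setT R K₀, ∃ w : ℤ, wB M r χ = w ∧ -2 ≤ w ∧ w ≤ 2) →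
      χ ∈ principalBlock M G ∧ ¬ 3 ∣ charDegree (χ : G → ℂ) := by
    intro χ c hc hinner hall
    by_contra hbad
    have h0 := Pair.sum_setS_eq_zero hR χ (K₀ := K₀) fun r hr => by
      obtain ⟨hr1, hr2⟩ := mem_setT.mp hr
      have hne : r ≠ 1 := fun e => hr2 (e ▸ one_mem K₀)
      obtain ⟨w, hw, hw2⟩ := hall r hr
      have : w = 0 := by
        by_contra hw0
        exact hbad (good_of_value hM (orderOf_pow_three hR hr1) hw hw0 hw2)
      rw [(sum_section_free hM hR hr1 (hF r hr1 hne)).1, hw, this, Int.cast_zero, mul_zero]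
    have : classInner (gam R K₀) (χ : G → ℂ) = 0 := by
      simp only [classInner, gam, ite_mul, zero_mul]
      rw [← Finset.sum_filter, ← Finset.mul_sum, ← map_sum]
      change (Nat.card G : ℂ)⁻¹ * (3 * conj (∑ g ∈ setS R K₀, (χ : G → ℂ) g)) = 0
      rw [h0]
      simp
    rw [hinner] at this
    exact hc (by exact_mod_cast this)
  have hexp : gam R K₀ = (oneChar G : G → ℂ) + (P.χp : G → ℂ) - (P.χm : G → ℂ) := by
    funext g
    rw [P.expand g]
    simp [oneChar_apply]
  have hdiff : P.χp ≠ P.χm := fun e => by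
    have := P.deg
    rw [e] at this
    omega
  have hp1 : P.χp ≠ oneChar G := fun e => by
    have h := P.one_lt
    rw [e, charDegree_eq_of_map_one (n := 1) (by simp)] at h
    omega
  have hm1 : P.χm ≠ oneChar G := fun e => by
    have h := P.deg
    have := P.one_lt
    rw [e, charDegree_eq_of_map_one (n := 1) (by simp)] at h
    omega
  have hadd := classInner_add_left (oneChar G : G → ℂ) (P.χp : G → ℂ)
  refine ⟨key P.χp 1 one_ne_zero ?_ fun r hr => ?_, key P.χm (-1) (by norm_num) ?_ fun r hr => ?_⟩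
  · rw [hexp, classInner_sub_left, hadd, classInner_self, classInner_of_ne hp1.symm,
      classInner_of_ne hdiff.symm]
    norm_num
  · obtain ⟨hr1, hr2⟩ := mem_setT.mp hr
    obtain ⟨wp, wm, h, -, h'⟩ := P.values hM hR hr1 hr2 (hF r hr1 fun e => hr2 (e ▸ one_mem K₀))
    exact ⟨wp, h, by omega⟩
  · rw [hexp, classInner_sub_left, hadd, classInner_self, classInner_of_ne hm1.symm,
      classInner_of_ne hdiff]
    norm_num
  · obtain ⟨hr1, hr2⟩ := mem_setT.mp hr
    obtain ⟨wp, wm, -, h, h'⟩ := P.values hM hR hr1 hr2 (hF r hr1 fun e => hr2 (e ▸ one_mem K₀))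
    exact ⟨wm, h, by omega⟩

section TwoAxes

variable {K₁ : Subgroup G}

open scoped Classical in
theorem card_axis_part (hK : AxisSub R K₀) (hK' : AxisSub R K₁) (hdis : K₀ ⊓ K₁ = ⊥) :
    ((setT R K₀).filter fun r => r ∈ K₁).card = 2 := by
  classical
  have e : (setT R K₀).filter (fun r => r ∈ K₁) = ((K₁ : Set G).toFinset).erase 1 := by
    ext r
    simp only [Finset.mem_filter, mem_setT, Finset.mem_erase, Set.mem_toFinset, SetLike.mem_coe]
    refine ⟨fun h => ⟨fun e => h.1.2 (e ▸ one_mem K₀), h.2⟩, fun h => ⟨⟨hK'.le h.2, fun h0 => h.1 ?_⟩, h.2⟩⟩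
    exact Subgroup.mem_bot.mp (hdis ▸ Subgroup.mem_inf.mpr ⟨h0, h.2⟩)
  rw [e, Finset.card_erase_of_mem (by simp [one_mem]), Set.toFinset_card, ← Nat.card_eq_fintype_card]
  simp only [SetLike.coe_sort_coe]
  rw [hK'.card]

theorem bound_two_axes (hR : Nat.card (R : Subgroup G) = 9) (hK : AxisSub R K₀)
    (hK' : AxisSub R K₁) (hdis : K₀ ⊓ K₁ = ⊥)
    (hF : ∀ r ∈ (R : Subgroup G), r ∉ K₀ → r ∉ K₁ → Free R r) :
    ∑ r ∈ setT R K₀, 3 * (secS r).card < 4 * Nat.card G := by
  classical
  have h : ∀ r ∈ setT R K₀, 9 * (secS r).card ≤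
      (if r ∈ K₁ then 3 * Nat.card G else Nat.card G) := by
    intro r hr
    obtain ⟨hr1, hr0⟩ := mem_setT.mp hr
    split_ifs with h1
    · have ho : orderOf r = 3 := by
        haveI : Fact (Nat.Prime 3) := ⟨Nat.prime_three⟩
        refine orderOf_eq_prime ?_ (fun e => hr0 (e ▸ one_mem K₀))
        have := pow_card_eq_one' (x := (⟨r, h1⟩ : K₁))
        rw [hK'.card] at this
        exact congrArg Subtype.val this
      obtain ⟨t, ht, htr⟩ : ∃ t ∈ (R : Subgroup G), t ∉ zpowers r := by
        by_contra hcon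
        push Not at hcon
        have := Subgroup.card_le_of_le (show (R : Subgroup G) ≤ zpowers r from hcon)
        rw [hR, Nat.card_zpowers, ho] at this
        omega
      have h3 := three_mul_card_regC_lt ho (orderOf_pow_three hR ht)
        (comm_of_card_nine hR r hr1 t ht) htr
      have hs := card_sec (orderOf_pow_three hR hr1)
      have hC : 0 < Nat.card (centralizer ({r} : Set G)) := Nat.card_pos
      have : Nat.card (centralizer ({r} : Set G)) * (3 * (secS r).card) ≤
          Nat.card (centralizer ({r} : Set G)) * Nat.card G := by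
        calc _ = Nat.card G * (3 * (regC r).card) := by rw [mul_left_comm, hs]; ring
          _ ≤ Nat.card G * Nat.card (centralizer ({r} : Set G)) := Nat.mul_le_mul_left _ h3.le
          _ = _ := mul_comm _ _
      have := Nat.le_of_mul_le_mul_left this hC
      omega
    · exact (nine_mul_card_secS hR hr1 (hF r hr1 hr0 h1)).le
  have h' := Finset.sum_le_sum h
  rw [← Finset.mul_sum, Finset.sum_ite, Finset.sum_const, Finset.sum_const, smul_eq_mul,
    smul_eq_mul, card_axis_part hK hK' hdis] at h'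
  have hc := Finset.card_filter_add_card_filter_not (s := setT R K₀) (fun r => r ∈ K₁)
  rw [card_axis_part hK hK' hdis, card_setT hR hK] at hc
  rw [show ((setT R K₀).filter fun r => ¬ r ∈ K₁).card = 4 by omega] at h'
  rw [← Finset.mul_sum]
  have := Nat.card_pos (α := G)
  omega

/-- The two pairs share no member. -/
theorem pairs_disjoint (hR : Nat.card (R : Subgroup G) = 9) (hK : AxisSub R K₀)
    (hK' : AxisSub R K₁) (P : Pair R K₀) (P' : Pair R K₁) {c : G} (hc : c ∈ (R : Subgroup G))
    (hc0 : c ∉ K₀) (hc1 : c ∉ K₁) (hFc : Free R c) (hdis : K₀ ⊓ K₁ = ⊥)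
    (htr : ∀ r ∈ (R : Subgroup G), r ∉ K₀ → r ∉ K₁ → IsConj c r) :
    P.χp ≠ P'.χp ∧ P.χp ≠ P'.χm ∧ P.χm ≠ P'.χp ∧ P.χm ≠ P'.χm := by
  classical
  have hinner : classInner (gam R K₀) (gam R K₁) = 1 := by
    have e : (Finset.univ.filter fun g => InS R K₀ g ∧ InS R K₁ g) = secS c := by
      ext g
      simp only [Finset.mem_filter, Finset.mem_univ, true_and, mem_secS]
      refine ⟨fun ⟨⟨r, hr, hr0, h⟩, ⟨r', hr', hr1, h'⟩⟩ => (htr r hr hr0 ?_).trans h,
        fun h => ⟨⟨c, hc, hc0, h⟩, ⟨c, hc, hc1, h⟩⟩⟩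
      exact fun hmem => hr1 (isConj_mem hR hK' hr' hr (h'.trans h.symm) hmem)
    simp only [classInner, gam]
    rw [Finset.sum_congr rfl fun g _ => show
      (if InS R K₀ g then (3 : ℂ) else 0) * conj (if InS R K₁ g then (3 : ℂ) else 0) =
        if InS R K₀ g ∧ InS R K₁ g then 9 else 0 by
      split_ifs <;> simp_all [Complex.conj_ofNat] <;> norm_num,
      ← Finset.sum_filter, e, Finset.sum_const, nsmul_eq_mul,
      inv_mul_eq_iff_eq_mul₀ natCard_ne_zero, mul_one, ← nine_mul_card_secS hR hc hFc]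
    push_cast; ring
  have hexp : ∀ {K : Subgroup G} (Q : Pair R K),
      gam R K = (oneChar G : G → ℂ) + (Q.χp : G → ℂ) - (Q.χm : G → ℂ) := fun {K} Q => by
    funext g
    rw [Q.expand g]
    simp [oneChar_apply]
  have hone : ∀ χ : IrrCharacter G, 1 < charDegree (χ : G → ℂ) → oneChar G ≠ χ := fun χ h e => by
    rw [← e, charDegree_eq_of_map_one (n := 1) (by simp)] at h
    omega
  have d1 := P.deg
  have d2 := P'.deg
  have o1 := P.one_lt
  have o2 := P'.one_lt
  have a := hone P.χp o1
  have b := hone P.χm (by omega)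
  have a' := hone P'.χp o2
  have b' := hone P'.χm (by omega)
  have hco : ∀ χ : IrrCharacter G, classInner (χ : G → ℂ) (gam R K₁) =
      (if oneChar G = χ then 1 else 0) + (if P'.χp = χ then 1 else 0) -
        (if P'.χm = χ then (1 : ℂ) else 0) := by
    intro χ
    rw [← classInner_conj_symm, hexp P', classInner_sub_left, classInner_add_left, classInner_irr,
      classInner_irr, classInner_irr]
    simp only [map_sub, map_add, apply_ite (starRingEnd ℂ), map_one, map_zero]
  rw [hexp P, classInner_sub_left, classInner_add_left, hco, hco, hco, if_pos rfl, if_neg a, if_neg b,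
    if_neg a'.symm, if_neg b'.symm] at hinner
  have dP : P.χp ≠ P.χm := fun e => by rw [e] at d1; omega
  have dP' : P'.χp ≠ P'.χm := fun e => by rw [e] at d2; omega
  have k1 : ¬ (P'.χp = P.χp ∧ P'.χm = P.χp) := fun h => dP' (h.1.trans h.2.symm)
  have k2 : ¬ (P'.χm = P.χp ∧ P'.χp = P.χm) := fun h => by rw [h.1, h.2] at d2; omega
  refine ⟨fun e => ?_, fun e => ?_, fun e => ?_, fun e => ?_⟩
  · have n2 : P'.χm ≠ P.χp := fun h => k1 ⟨e.symm, h⟩
    have n3 : P'.χp ≠ P.χm := fun h => dP (e.trans h)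
    rw [if_pos e.symm, if_neg n2, if_neg n3] at hinner
    split_ifs at hinner <;> norm_num at hinner
  · have n1 : P'.χp ≠ P.χp := fun h => k1 ⟨h, e.symm⟩
    have n3 : P'.χp ≠ P.χm := fun h => k2 ⟨e.symm, h⟩
    have n4 : P'.χm ≠ P.χm := fun h => dP (e.trans h)
    rw [if_pos e.symm, if_neg n1, if_neg n3, if_neg n4] at hinner
    norm_num at hinner
  · have n1 : P'.χp ≠ P.χp := fun h => dP (h.symm.trans e.symm)
    have n2 : P'.χm ≠ P.χp := fun h => k2 ⟨h, e.symm⟩
    have n4 : P'.χm ≠ P.χm := fun h => dP' (e.symm.trans h.symm)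
    rw [if_pos e.symm, if_neg n1, if_neg n2, if_neg n4] at hinner
    norm_num at hinner
  · have n2 : P'.χm ≠ P.χp := fun h => dP (h.symm.trans e.symm)
    have n3 : P'.χp ≠ P.χm := fun h => dP' (h.trans e)
    rw [if_pos e.symm, if_neg n2, if_neg n3] at hinner
    split_ifs at hinner <;> norm_num at hinner

/-- One of the two pairs is good. -/
theorem good_two_axes (hM : IsPModular 3 M) (hR : Nat.card (R : Subgroup G) = 9)
    (hK : AxisSub R K₀) (hK' : AxisSub R K₁) (hdis : K₀ ⊓ K₁ = ⊥)
    (hF : ∀ r ∈ (R : Subgroup G), r ∉ K₀ → r ∉ K₁ → Free R r)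
    (htr : ∀ r ∈ (R : Subgroup G), ∀ r' ∈ (R : Subgroup G), r ∉ K₀ → r ∉ K₁ → r' ∉ K₀ → r' ∉ K₁ →
      IsConj r r')
    (P : Pair R K₀) (P' : Pair R K₁) : GoodPair M P ∨ GoodPair M P' := by
  classical
  have := isMaximal_of_isPModular hM
  have hc4 : ((setT R K₀).filter fun r => ¬ r ∈ K₁).card = 4 := by
    have hc := Finset.card_filter_add_card_filter_not (s := setT R K₀) (fun r => r ∈ K₁)
    rw [card_axis_part hK hK' hdis, card_setT hR hK] at hc
    omega
  obtain ⟨c, hc⟩ := Finset.card_pos.mp (hc4 ▸ (by norm_num : 0 < 4))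
  simp only [Finset.mem_filter, mem_setT] at hc
  obtain ⟨⟨hcR, hc0⟩, hc1⟩ := hc
  have hFc := hF c hcR hc0 hc1
  have hc3 := orderOf_pow_three hR hcR
  obtain ⟨d1, d2, d3, d4⟩ := pairs_disjoint hR hK hK' P P' hcR hc0 hc1 hFc hdis
    fun r hr h0 h1 => htr c hcR r hr hc0 hc1 h0 h1
  obtain ⟨wp, wm, hp, hm, hw⟩ := P.values hM hR hcR hc0 hFc
  obtain ⟨wp', wm', hp', hm', hw'⟩ := P'.values hM hR hcR hc1 hFc
  by_cases h1 : wp = 1 ∧ wm = -1
  · exact Or.inl ⟨good_of_value hM hc3 hp (by omega) (by omega),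
      good_of_value hM hc3 hm (by omega) (by omega)⟩
  by_cases h1' : wp' = 1 ∧ wm' = -1
  · exact Or.inr ⟨good_of_value hM hc3 hp' (by omega) (by omega),
      good_of_value hM hc3 hm' (by omega) (by omega)⟩
  exfalso
  have hone : ∀ χ : IrrCharacter G, 1 < charDegree (χ : G → ℂ) → oneChar G ≠ χ := fun χ h e => by
    rw [← e, charDegree_eq_of_map_one (n := 1) (by simp)] at h
    omega
  have e1 := P.deg
  have e2 := P'.deg
  have o1 := P.one_lt
  have o2 := P'.one_lt
  have dP : P.χp ≠ P.χm := fun e => by rw [e] at e1; omega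
  have dP' : P'.χp ≠ P'.χm := fun e => by rw [e] at e2; omega
  set five : Finset (IrrCharacter G) := {oneChar G, P.χp, P.χm, P'.χp, P'.χm} with hfive
  have hn1 : oneChar G ∉ ({P.χp, P.χm, P'.χp, P'.χm} : Finset (IrrCharacter G)) := by
    simp [hone _ o1, hone _ o2, hone P.χm (by omega), hone P'.χm (by omega)]
  have hn2 : P.χp ∉ ({P.χm, P'.χp, P'.χm} : Finset (IrrCharacter G)) := by simp [dP, d1, d2]
  have hn3 : P.χm ∉ ({P'.χp, P'.χm} : Finset (IrrCharacter G)) := by simp [d3, d4]
  have hw1 : wB M c (oneChar G) = 1 := by rw [wB, if_pos oneChar_mem_principalBlock, oneChar_apply]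
  obtain ⟨-, hnorm⟩ := sum_section_free hM hR hcR hFc
  have hre := congrArg Complex.re hnorm
  simp only [Complex.mul_conj, Complex.re_sum, Complex.ofReal_re, Complex.re_ofNat] at hre
  have h4 : wp ^ 2 + wm ^ 2 = 4 ∧ wp' ^ 2 + wm' ^ 2 = 4 := by
    constructor <;> [rcases hw with ⟨a, b⟩ | h | ⟨a, b⟩; rcases hw' with ⟨a, b⟩ | h | ⟨a, b⟩]
    all_goals first | exact absurd h h1 | exact absurd h h1' | (rw [a, b]; norm_num)
  have hfive9 : ∑ χ ∈ five, Complex.normSq (wB M c χ) = 9 := by
    rw [hfive, Finset.sum_insert hn1, Finset.sum_insert hn2, Finset.sum_insert hn3,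
      Finset.sum_pair dP', hw1, hp, hm, hp', hm']
    simp only [map_one, Complex.normSq_intCast]
    have h1r : (wp : ℝ) ^ 2 + (wm : ℝ) ^ 2 = 4 := by exact_mod_cast h4.1
    have h2r : (wp' : ℝ) ^ 2 + (wm' : ℝ) ^ 2 = 4 := by exact_mod_cast h4.2
    linarith
  have hzero : ∀ χ ∉ five, wB M c χ = 0 := by
    intro χ hχ
    have hsum := Finset.sum_add_sum_compl five (fun χ => Complex.normSq (wB M c χ))
    rw [hre, hfive9] at hsum
    refine Complex.normSq_eq_zero.mp ((Finset.sum_eq_zero_iff_of_nonneg fun _ _ =>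
      Complex.normSq_nonneg _).mp (by linarith) χ (Finset.mem_compl.mpr hχ))
  have hrel : ∑ χ : IrrCharacter G, wB M c χ * (charDegree (χ : G → ℂ) : ℂ) = 0 := by
    have h := sum_mul_inv_eq_zero_of_regular_of_singular hM
      (isIntegralSet_block hM isPBlock_principalBlock) (x := (1 : G)) (y := c⁻¹) (by simp)
      (by
        rw [orderOf_inv]
        obtain ⟨k, hk⟩ := hc3
        rcases k with _ | k
        · rw [pow_zero, orderOf_eq_one_iff] at hk
          exact absurd (hk ▸ one_mem K₀) hc0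
        · rw [hk]; exact dvd_pow_self 3 k.succ_ne_zero)
    rw [inv_inv] at h
    rw [← h, ← Finset.sum_subset (Finset.subset_univ (principalBlock M G).toFinite.toFinset)
      fun χ _ hχ => by
        rw [Set.Finite.mem_toFinset] at hχ
        simp [wB, if_neg hχ]]
    refine Finset.sum_congr rfl fun χ hχ => ?_
    rw [wB, if_pos ((Set.Finite.mem_toFinset _).mp hχ), coe_charDegree, mul_comm]
  rw [← Finset.sum_subset (Finset.subset_univ five) fun χ _ hχ => by rw [hzero χ hχ, zero_mul],
    hfive, Finset.sum_insert hn1, Finset.sum_insert hn2, Finset.sum_insert hn3,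
    Finset.sum_pair dP', hw1, hp, hm, hp', hm', charDegree_eq_of_map_one (n := 1) (χ := (oneChar G : G → ℂ))
      (by simp)] at hrel
  have hI : 1 + (wp * charDegree (P.χp : G → ℂ) + (wm * charDegree (P.χm : G → ℂ) +
      (wp' * charDegree (P'.χp : G → ℂ) + wm' * charDegree (P'.χm : G → ℂ)))) = (0 : ℤ) := by
    push_cast at hrel
    rw [one_mul] at hrel
    exact_mod_cast hrel
  rcases hw with ⟨a, b⟩ | h | ⟨a, b⟩
  rotate_left
  · exact h1 h
  all_goals
    rcases hw' with ⟨a', b'⟩ | h | ⟨a', b'⟩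
    rotate_left
    · exact h1' h
    all_goals
      rw [a, b, a', b'] at hI
      omega

end TwoAxes

/-- There is a good pair. -/
theorem exists_good [IsSimpleGroup G] (hM : IsPModular 3 M) (hG : ¬ IsMulCommutative G)
    (hR : Nat.card (R : Subgroup G) = 9)
    (h3 : 3 ≤ Nat.card {C : ConjClasses G // ∃ g ∈ C.carrier, g ≠ 1 ∧ orderOf g ∣ 9}) :
    ∃ (K : Subgroup G) (P : Pair R K), GoodPair M P := by
  classical
  obtain ⟨K, hK, hcase⟩ := exists_config hG hR h3
  rcases hcase with hF | ⟨K', hK', hdis, hF, htr⟩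
  · obtain ⟨P⟩ := exists_pair hG hR hK (card_setS hG hR hK (by
      have h : ∀ r ∈ setT R K, 9 * (secS r).card = Nat.card G := fun r hr =>
        nine_mul_card_secS hR (mem_setT.mp hr).1 (hF r (mem_setT.mp hr).1
          fun e => (mem_setT.mp hr).2 (e ▸ one_mem K))
      have h' := Finset.sum_congr rfl h
      rw [← Finset.mul_sum, Finset.sum_const, smul_eq_mul, card_setT hR hK] at h'
      rw [← Finset.mul_sum]
      have := Nat.card_pos (α := G)
      omega))
    exact ⟨K, P, P.good_of_free hM hR hF⟩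
  · obtain ⟨P⟩ := exists_pair hG hR hK (card_setS hG hR hK (bound_two_axes hR hK hK' hdis hF))
    have hF' : ∀ r ∈ (R : Subgroup G), r ∉ K' → r ∉ K → Free R r := fun r hr h h' => hF r hr h' h
    obtain ⟨P'⟩ := exists_pair hG hR hK' (card_setS hG hR hK'
      (bound_two_axes hR hK' hK (by rw [inf_comm]; exact hdis) hF'))
    rcases good_two_axes hM hR hK hK' hdis hF htr P P' with h | h
    · exact ⟨K, P, h⟩
    · exact ⟨K', P', h⟩

end CfsgLib.NineTwoQ
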