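import Cfsg.Agent.NineTwoQ.Centralizer

/-!
# The bound on the exponent of two
-/

set_option autoImplicit false
set_option linter.style.haveILetI false

namespace CfsgLib.NineTwoQ

open Cfsg Subgroup CfsgLib.Chars CfsgLib.Blocks
open scoped ComplexConjugate

universe u

/-- If all stabilizers have order dividing `2 ^ γ`, the cofactor divides the size of the set. -/
theorem dvd_card_of_stabilizer {H X : Type*} [Group H] [MulAction H X] [Finite H] [Finite X]
    {n γ : ℕ} (hH : Nat.card H = 2 ^ n)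
    (hstab : ∀ x : X, Nat.card (MulAction.stabilizer H x) ∣ 2 ^ γ) :
    2 ^ (n - γ) ∣ Nat.card X := by
  classical
  haveI := Fintype.ofFinite (MulAction.orbitRel.Quotient H X)
  rw [Nat.card_congr (MulAction.selfEquivSigmaOrbits H X), Nat.card_sigma]
  refine Finset.dvd_sum fun ω _ => ?_
  have h1 : Nat.card (MulAction.orbit H ω.out) * Nat.card (MulAction.stabilizer H ω.out) = 2 ^ n := by
    rw [← hH, ← Nat.card_prod]
    exact Nat.card_congr (MulAction.orbitProdStabilizerEquivGroup H ω.out)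
  obtain ⟨j, hj, hs⟩ := (Nat.dvd_prime_pow Nat.prime_two).mp (hstab ω.out)
  obtain ⟨k, -, ho⟩ := (Nat.dvd_prime_pow Nat.prime_two).mp (Dvd.intro _ h1)
  rw [hs, ho, ← pow_add] at h1
  have := Nat.pow_right_injective le_rfl h1
  show 2 ^ (n - γ) ∣ Nat.card (MulAction.orbit H ω.out)
  rw [ho]
  exact pow_dvd_pow 2 (by omega)

variable {G : Type u} [Group G] [Fintype G] {M : Ideal AlgInt}

/-- The exponent of two is bounded. -/
theorem Core.a_le [IsSimpleGroup G] (C : Core G M) (hG : ¬ IsMulCommutative G) {γ : ℕ}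
    (hγ : ∀ r ∈ (C.R : Subgroup G), r ≠ 1 →
      ∃ c, c ≤ γ ∧ Nat.card (centralizer ({r} : Set G)) = 9 * 2 ^ c) :
    C.a ≤ C.α + γ := by
  classical
  haveI : Fact (Nat.Prime 2) := ⟨Nat.prime_two⟩
  have hq5 := C.q5
  have ha : 0 < C.a := by
    have := two_le_a C
    have := C.hα
    omega
  have hm2 : ¬ 2 ∣ 9 * C.q := by
    intro h
    have := Nat.odd_iff.mp (C.hq.odd_of_ne_two (by omega))
    omega
  obtain ⟨s, hs, hsodd, S, hS⟩ := exists_two_central ha (m := 9 * C.q) (by rw [C.card]; ring) hm2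
  have hSc : Nat.card (S : Subgroup G) = 2 ^ C.a :=
    SylowToolkit.card_sylow_subgroup_eq (by rw [C.card]; ring) hm2 S
  have hs3 : ¬ 3 ∣ orderOf s := by rw [hs]; norm_num
  have hs1 : s ≠ 1 := fun e => by rw [e, orderOf_one] at hs; omega
  -- the values at `s`
  have hrel : 1 + (C.P.χp : G → ℂ) s - (C.P.χm : G → ℂ) s = 0 :=
    (C.P.expand s).symm.trans (gam_of_regular hs3)
  have hzero : ∀ χ : IrrCharacter G, charDegree (χ : G → ℂ) = 2 ^ C.α → (χ : G → ℂ) s = 0 := by
    intro χ hχ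
    refine HerzogThree.apply_eq_zero_of_coprime hG ?_ hs1 ?_
    · rw [hχ]; exact Nat.one_lt_pow (by have := C.hα; omega) one_lt_two
    · rw [hχ]
      exact Nat.Coprime.pow_right _ ((Nat.prime_two.coprime_iff_not_dvd.mpr hsodd).symm)
  set V : Finset G := Finset.univ.filter fun g => InS C.R C.K₀ (s * (g * s * g⁻¹)) with hV
  have hcount : 3 * (C.q : ℂ) * (V.card : ℂ) = (Nat.card G : ℂ) * (2 : ℂ) ^ C.α := by
    have h1 : ∑ g : G, gam C.R C.K₀ (s * (g * s * g⁻¹)) = 3 * (V.card : ℂ) := by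
      simp only [gam]
      rw [← Finset.sum_filter, Finset.sum_const, nsmul_eq_mul, hV, mul_comm]
    have h2 : ∑ g : G, gam C.R C.K₀ (s * (g * s * g⁻¹)) = (Nat.card G : ℂ) * (1 +
        (C.P.χp : G → ℂ) s * (C.P.χp : G → ℂ) s / (C.P.χp : G → ℂ) 1 -
        (C.P.χm : G → ℂ) s * (C.P.χm : G → ℂ) s / (C.P.χm : G → ℂ) 1) := by
      rw [Finset.sum_congr rfl fun g _ => C.P.expand _, Finset.sum_sub_distrib, Finset.sum_add_distrib,
        sum_map_mul_conjugate, sum_map_mul_conjugate, Finset.sum_const, Finset.card_univ,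
        nsmul_eq_mul, mul_one, ← Nat.card_eq_fintype_card]
      ring
    rw [← coe_charDegree, ← coe_charDegree] at h2
    have hq0 : (C.q : ℂ) ≠ 0 := Nat.cast_ne_zero.mpr C.hq.ne_zero
    have h12 := h1.symm.trans h2
    rcases C.deg with ⟨hp, hm⟩ | ⟨hp, hm⟩
    · have e0 := hzero _ hp
      have e1 : (C.P.χm : G → ℂ) s = 1 := by rw [e0] at hrel; linear_combination -hrel
      have hd : (C.q : ℂ) = (2 : ℂ) ^ C.α + 1 := by
        have := C.P.deg
        rw [hp, hm] at this
        exact_mod_cast this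
      rw [e0, e1, hm] at h12
      have h : (V.card : ℂ) * 3 * (C.q : ℂ) = (Nat.card G : ℂ) * ((C.q : ℂ) - 1) := by
        rw [mul_comm (V.card : ℂ) 3, h12]
        field_simp
        ring
      linear_combination h + (Nat.card G : ℂ) * hd
    · have e0 := hzero _ hm
      have e1 : (C.P.χp : G → ℂ) s = -1 := by rw [e0] at hrel; linear_combination hrel
      have hd : (C.q : ℂ) + 1 = (2 : ℂ) ^ C.α := by
        have := C.P.deg
        rw [hp, hm] at this
        exact_mod_cast this.symm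
      rw [e0, e1, hp] at h12
      have h : (V.card : ℂ) * 3 * (C.q : ℂ) = (Nat.card G : ℂ) * ((C.q : ℂ) + 1) := by
        rw [mul_comm (V.card : ℂ) 3, h12]
        field_simp
        ring
      linear_combination h + (Nat.card G : ℂ) * hd
  have hVcard : V.card = 3 * 2 ^ (C.a + C.α) := by
    rw [C.card] at hcount
    have hN : 3 * C.q * V.card = 9 * 2 ^ C.a * C.q * 2 ^ C.α := by exact_mod_cast hcount
    refine Nat.eq_of_mul_eq_mul_left (show 0 < 3 * C.q by omega) ?_
    rw [hN, pow_add]; ring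
  -- two copies of a Sylow subgroup act
  let X := {g : G // InS C.R C.K₀ (s * (g * s * g⁻¹))}
  have hX : Nat.card X = V.card := by
    rw [Nat.card_eq_fintype_card, Fintype.card_subtype]
  have hmem : ∀ (x y : (S : Subgroup G)) (g : G),
      s * ((x : G) * g * (y : G)⁻¹ * s * ((x : G) * g * (y : G)⁻¹)⁻¹) =
        (x : G) * (s * (g * s * g⁻¹)) * (x : G)⁻¹ := by
    intro x y g
    calc s * ((x : G) * g * (y : G)⁻¹ * s * ((x : G) * g * (y : G)⁻¹)⁻¹)
        = s * ((x : G) * g * ((y : G)⁻¹ * s * (y : G)) * g⁻¹ * (x : G)⁻¹) := by group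
      _ = s * ((x : G) * g * s * g⁻¹ * (x : G)⁻¹) := by
          rw [mul_assoc ((y : G)⁻¹), ← (hS y y.2).eq, inv_mul_cancel_left]
      _ = (s * (x : G)) * (g * s * g⁻¹) * (x : G)⁻¹ := by group
      _ = ((x : G) * s) * (g * s * g⁻¹) * (x : G)⁻¹ := by rw [(hS x x.2).eq]
      _ = _ := by group
  letI act : MulAction (↥(S : Subgroup G) × ↥(S : Subgroup G)) X :=
    { smul := fun p g => ⟨(p.1 : G) * g.1 * (p.2 : G)⁻¹, by
        show InS C.R C.K₀ (s * _)
        rw [hmem, inS_conj]
        exact g.2⟩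
      one_smul := fun g => Subtype.ext (by
        show ((1 : (S : Subgroup G)) : G) * g.1 * ((1 : (S : Subgroup G)) : G)⁻¹ = g.1
        simp)
      mul_smul := fun p p' g => Subtype.ext (by
        show ((p.1 * p'.1 : (S : Subgroup G)) : G) * g.1 * ((p.2 * p'.2 : (S : Subgroup G)) : G)⁻¹ =
          (p.1 : G) * ((p'.1 : G) * g.1 * (p'.2 : G)⁻¹) * (p.2 : G)⁻¹
        push_cast
        group) }
  have hstab : ∀ g : X, Nat.card (MulAction.stabilizer (↥(S : Subgroup G) × ↥(S : Subgroup G)) g) ∣ 2 ^ γ := by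
    intro g
    obtain ⟨r, hr, hr0, hc⟩ := g.2
    obtain ⟨c, hcγ, hcard⟩ := hγ r hr fun e => hr0 (e ▸ one_mem _)
    set w := s * (g.1 * s * g.1⁻¹) with hw
    have hcard' : Nat.card (centralizer ({p3 w} : Set G)) = 9 * 2 ^ c := by
      have h1 := Chars.card_isConj_mul_card_centralizer r
      have h2 := Chars.card_isConj_mul_card_centralizer (p3 w)
      have e : Nat.card {x : G // IsConj r x} = Nat.card {x : G // IsConj (p3 w) x} :=
        Nat.card_congr (Equiv.subtypeEquivRight fun x => ⟨fun h => hc.symm.trans h, fun h => hc.trans h⟩)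
      haveI : Nonempty {x : G // IsConj (p3 w) x} := ⟨⟨p3 w, IsConj.refl _⟩⟩
      rw [e] at h1
      rw [← hcard]
      exact Nat.eq_of_mul_eq_mul_left (Nat.card_pos) (h2.trans h1.symm)
    let f : MulAction.stabilizer (↥(S : Subgroup G) × ↥(S : Subgroup G)) g →*
        centralizer ({p3 w} : Set G) :=
      { toFun := fun p => ⟨(p.1.1 : G), mem_centralizer_singleton_iff.mpr (commute_p3 (by
          have hfix : (p.1.1 : G) * g.1 * (p.1.2 : G)⁻¹ = g.1 :=
            congrArg Subtype.val (MulAction.mem_stabilizer_iff.mp p.2)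
          have h := hmem p.1.1 p.1.2 g.1
          rw [hfix, ← hw] at h
          exact eq_mul_inv_iff_mul_eq.mp h |>.symm)).eq⟩
        map_one' := rfl
        map_mul' := fun _ _ => rfl }
    have hf : Function.Injective f := by
      intro p p' h
      have h1 : (p.1.1 : G) = p'.1.1 := congrArg (fun x : centralizer ({p3 w} : Set G) => (x : G)) h
      have hfix : (p.1.1 : G) * g.1 * (p.1.2 : G)⁻¹ = g.1 :=
        congrArg Subtype.val (MulAction.mem_stabilizer_iff.mp p.2)
      have hfix' : (p'.1.1 : G) * g.1 * (p'.1.2 : G)⁻¹ = g.1 :=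
        congrArg Subtype.val (MulAction.mem_stabilizer_iff.mp p'.2)
      rw [← h1] at hfix'
      have h2 : (p.1.2 : G) = p'.1.2 := inv_injective (mul_left_cancel (hfix.trans hfix'.symm))
      exact Subtype.ext (Prod.ext (Subtype.ext h1) (Subtype.ext h2))
    have hd := Subgroup.card_dvd_of_injective f hf
    rw [hcard'] at hd
    obtain ⟨j, -, hj⟩ := (Nat.dvd_prime_pow Nat.prime_two).mp
      ((Subgroup.card_subgroup_dvd_card (MulAction.stabilizer (↥(S : Subgroup G) × ↥(S : Subgroup G)) g)).trans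
        (show Nat.card (↥(S : Subgroup G) × ↥(S : Subgroup G)) ∣ 2 ^ (C.a + C.a) by
          rw [Nat.card_prod, hSc, pow_add]))
    rw [hj] at hd ⊢
    exact ((Nat.Coprime.pow_left j (by norm_num : Nat.Coprime 2 9)).dvd_of_dvd_mul_left hd).trans
      (pow_dvd_pow 2 hcγ)
  have h := dvd_card_of_stabilizer (H := ↥(S : Subgroup G) × ↥(S : Subgroup G)) (X := X)
    (n := C.a + C.a) (γ := γ) (by rw [Nat.card_prod, hSc, pow_add]) hstab
  rw [hX, hVcard] at h
  have h' := (Nat.Coprime.pow_left _ (by norm_num : Nat.Coprime 2 3)).dvd_of_dvd_mul_left h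
  have := (Nat.pow_dvd_pow_iff_le_right (by norm_num : 1 < 2)).mp h'
  omega

end CfsgLib.NineTwoQ
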