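import Cfsg.Agent.SylowToolkit.Basic
import Mathlib

/-!
# Groups of order `9 * 2 ^ c` with a central element of order three
-/

set_option autoImplicit false
set_option linter.style.haveILetI false

namespace CfsgLib.NineTwoQ

open Subgroup

universe u

/-- The largest normal two-subgroup has index at most eighteen and contains the two-elements
centralizing a Sylow three-subgroup. -/
theorem exists_two_core {H : Type u} [Group H] [Finite H] {c : ℕ} (hH : Nat.card H = 9 * 2 ^ c)
    {z : H} (hz : orderOf z = 3) (hcen : ∀ x : H, Commute z x) :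
    ∃ K : Subgroup H, K.Normal ∧ (∃ e, Nat.card K = 2 ^ e) ∧ K.index ≤ 18 ∧
      ∀ R' : Subgroup H, Nat.card R' = 9 → ∀ y : H, (∃ j, orderOf y = 2 ^ j) →
        (∀ x ∈ R', Commute y x) → y ∈ K := by
  classical
  haveI : Fact (Nat.Prime 2) := ⟨Nat.prime_two⟩
  have h2 : ¬ 2 ∣ 9 := by norm_num
  obtain ⟨S⟩ : Nonempty (Sylow 2 H) := inferInstance
  have hS : Nat.card (S : Subgroup H) = 2 ^ c :=
    SylowToolkit.card_sylow_subgroup_eq (k := c) (m := 9) (by rw [hH]; ring) h2 S
  set Z := zpowers z with hZdef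
  have hZc : ∀ u ∈ Z, ∀ x : H, Commute u x := fun u hu x => by
    obtain ⟨i, rfl⟩ := mem_zpowers_iff.mp hu
    exact (hcen x).zpow_left i
  have hZ3 : Nat.card Z = 3 := by rw [hZdef, Nat.card_zpowers, hz]
  haveI : Z.Normal := ⟨fun u hu g => by
    rw [← (hZc u hu g).eq, mul_inv_cancel_right]; exact hu⟩
  have hcopz : Nat.Coprime (2 ^ c) 3 := Nat.Coprime.pow_left _ (by norm_num)
  -- the preimage of a Sylow subgroup modulo the central element
  set T := (S : Subgroup H) ⊔ Z with hTdef
  have hTmem : ∀ x : H, x ∈ T ↔ ∃ s ∈ (S : Subgroup H), ∃ u ∈ Z, s * u = x := fun x => by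
    rw [← SetLike.mem_coe, hTdef, Subgroup.mul_normal, Set.mem_mul]
    simp only [SetLike.mem_coe]
  have hTcard : 3 * 2 ^ c ≤ Nat.card T := by
    let f : ↥(S : Subgroup H) × ↥Z → ↥T := fun p =>
      ⟨(p.1 : H) * p.2, (hTmem _).mpr ⟨_, p.1.2, _, p.2.2, rfl⟩⟩
    have hf : Function.Injective f := by
      intro p p' e
      have e' : (p.1 : H) * p.2 = (p'.1 : H) * p'.2 := congrArg Subtype.val e
      have h1 : (p'.1 : H)⁻¹ * p.1 = (p'.2 : H) * (p.2 : H)⁻¹ :=
        inv_mul_eq_iff_eq_mul.mpr (by rw [← mul_assoc, ← e', mul_inv_cancel_right])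
      have h2 : (p'.1 : H)⁻¹ * p.1 = 1 := orderOf_eq_one_iff.mp (Nat.eq_one_of_dvd_coprimes hcopz
        (by rw [← hS]; exact Subgroup.orderOf_dvd_natCard _ (mul_mem (inv_mem p'.1.2) p.1.2))
        (by
          rw [h1]
          have := Subgroup.orderOf_dvd_natCard Z (mul_mem p'.2.2 (inv_mem p.2.2))
          exact this.trans hZ3.dvd))
      have h3 : (p.1 : H) = p'.1 := (inv_mul_eq_one.mp h2).symm
      rw [h3] at e'
      exact Prod.ext (Subtype.ext h3) (Subtype.ext (mul_left_cancel e'))
    have := Nat.card_le_card_of_injective f hf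
    rwa [Nat.card_prod, hS, hZ3, mul_comm] at this
  have hTidx : T.index ≤ 3 := by
    have h := T.card_mul_index
    rw [hH] at h
    by_contra hgt
    have := Nat.mul_le_mul hTcard (show 4 ≤ T.index by omega)
    have : 0 < 2 ^ c := by positivity
    nlinarith
  set M := T.normalCore with hMdef
  have hMidx : M.index ≤ 6 := by
    have h : M.index ∣ T.index.factorial := by
      rw [hMdef, Subgroup.normalCore_eq_ker, Subgroup.index_ker, Subgroup.index_eq_card,
        ← Nat.card_perm]
      exact Subgroup.card_subgroup_dvd_card _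
    have := Nat.le_of_dvd (Nat.factorial_pos _) h
    exact this.trans ((Nat.factorial_le hTidx).trans (le_of_eq rfl))
  have hMT : M ≤ T := T.normalCore_le
  set K := (S : Subgroup H).normalCore with hKdef
  have hcore : ∀ m ∈ M, ∀ s ∈ (S : Subgroup H), ∀ u ∈ Z, s * u = m → s ∈ K := by
    intro m hm s hs u hu he
    -- a two-element of `M` stays in `S` under conjugation
    intro g
    have hsM : g * s * g⁻¹ ∈ T := by
      have hu' : u ∈ M := fun k => by
        rw [← (hZc u hu k).eq, mul_inv_cancel_right]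
        exact le_sup_right (a := (S : Subgroup H)) hu
      have hs' : s ∈ M := by
        have := mul_mem hm (inv_mem hu')
        rwa [← he, mul_inv_cancel_right] at this
      exact hMT (T.normalCore_normal.conj_mem _ hs' g)
    obtain ⟨s', hs', u', hu', e⟩ := (hTmem _).mp hsM
    have hso : orderOf s ∣ 2 ^ c := hS ▸ Subgroup.orderOf_dvd_natCard _ hs
    have hso' : orderOf s' ∣ 2 ^ c := hS ▸ Subgroup.orderOf_dvd_natCard _ hs'
    have hu1 : u' = 1 := by
      refine orderOf_eq_one_iff.mp (Nat.eq_one_of_dvd_coprimes hcopz ?_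
        (by
          have := Subgroup.orderOf_dvd_natCard Z hu'
          exact this.trans hZ3.dvd))
      refine orderOf_dvd_of_pow_eq_one ?_
      have h1 : (g * s * g⁻¹) ^ 2 ^ c = 1 := by
        rw [conj_pow, orderOf_dvd_iff_pow_eq_one.mp hso, mul_one, mul_inv_cancel]
      rwa [← e, (hZc u' hu' s').symm.mul_pow, orderOf_dvd_iff_pow_eq_one.mp hso', one_mul] at h1
    rw [← e, hu1, mul_one]
    exact hs'
  have hMcard : Nat.card M ≤ 3 * Nat.card K := by
    choose s hs u hu he using fun m : M => (hTmem m).mp (hMT m.2)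
    let f : M → K × Z := fun m => (⟨s m, hcore m m.2 _ (hs m) _ (hu m) (he m)⟩, ⟨u m, hu m⟩)
    have hf : Function.Injective f := fun m m' e => by
      have e1 := congrArg (fun p : K × Z => (p.1 : H)) e
      have e2 := congrArg (fun p : K × Z => (p.2 : H)) e
      exact Subtype.ext ((he m).symm.trans ((congrArg₂ (· * ·) e1 e2).trans (he m')))
    have := Nat.card_le_card_of_injective f hf
    rwa [Nat.card_prod, hZ3, mul_comm] at this
  have hKidx : K.index ≤ 18 := by
    have h1 := M.card_mul_index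
    have h2 := K.card_mul_index
    by_contra hgt
    have h3 := Nat.mul_le_mul hMcard hMidx
    have h4 := Nat.mul_le_mul (le_refl (Nat.card K)) (show 19 ≤ K.index by omega)
    have := Nat.card_pos (α := K)
    nlinarith
  obtain ⟨e, -, he⟩ := (Nat.dvd_prime_pow Nat.prime_two).mp
    (show Nat.card K ∣ 2 ^ c by rw [← hS]; exact card_dvd_of_le (S : Subgroup H).normalCore_le)
  refine ⟨K, (S : Subgroup H).normalCore_normal, ⟨e, he⟩, hKidx, fun R' hR' y hy hyR => ?_⟩
  by_contra hyK
  obtain ⟨j, hj⟩ := hy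
  haveI : K.Normal := (S : Subgroup H).normalCore_normal
  set L := K ⊔ zpowers y with hLdef
  have hLp : IsPGroup 2 L :=
    (S.2.to_le (S : Subgroup H).normalCore_le).to_sup_of_normal_left
      (IsPGroup.of_card (n := j) (by rw [Nat.card_zpowers, hj]))
  obtain ⟨l, hl⟩ := IsPGroup.iff_card.mp hLp
  obtain ⟨i, -, hi⟩ := (Nat.dvd_prime_pow Nat.prime_two).mp
    (hl ▸ (show K.relIndex L ∣ Nat.card L from (K.subgroupOf L).index_dvd_card))
  have hi1 : 1 ≤ i := by
    rcases i with _ | i
    · exfalso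
      rw [pow_zero, Subgroup.relIndex_eq_one] at hi
      exact hyK (hi (le_sup_right (a := K) (mem_zpowers y)))
    · omega
  have hLidx : L.index ∣ 9 := by
    have h1 := relIndex_mul_index (H := K) (K := L) le_sup_left
    rw [hi] at h1
    have h2 : Nat.card K * K.index = 9 * 2 ^ c := K.card_mul_index.trans hH
    have h9 : K.index ∣ 9 * 2 ^ c := ⟨Nat.card K, by rw [← h2, mul_comm]⟩
    obtain ⟨x, w, hx, hw, hxw⟩ := Nat.dvd_mul.mp h9
    obtain ⟨k, -, rfl⟩ := (Nat.dvd_prime_pow Nat.prime_two).mp hw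
    have h29 : Nat.Coprime (2 ^ e) 9 := Nat.Coprime.pow_left _ (by norm_num)
    have hx9 : x = 9 := by
      rw [he, ← hxw] at h2
      have hd : 9 ∣ 2 ^ e * (x * 2 ^ k) := h2 ▸ dvd_mul_right 9 _
      have hd' := h29.symm.dvd_of_dvd_mul_left hd
      exact Nat.dvd_antisymm hx
        ((Nat.Coprime.pow_right k (by norm_num : Nat.Coprime 9 2)).dvd_of_dvd_mul_right hd')
    subst hx9
    have hk1 : k ≤ 1 := by
      by_contra hgt
      have : 2 ^ 2 ≤ 2 ^ k := Nat.pow_le_pow_right (by norm_num) (by omega)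
      omega
    rcases (by omega : k = 0 ∨ k = 1) with rfl | rfl
    · exfalso
      have : 2 ∣ 2 ^ i * L.index := dvd_mul_of_dvd_left (dvd_pow_self 2 (by omega)) _
      rw [h1, ← hxw] at this
      norm_num at this
    · rcases (by omega : i = 1 ∨ 2 ≤ i) with rfl | h
      · exact ⟨1, by omega⟩
      · exfalso
        have : 4 ∣ 2 ^ i * L.index :=
          dvd_mul_of_dvd_left (Nat.dvd_trans (by norm_num) (pow_dvd_pow 2 h)) _
        rw [h1, ← hxw] at this
        norm_num at this
  -- `L` is normalized by `R'`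
  have hRN : R' ≤ normalizer (L : Set H) := by
    have hdir : ∀ x ∈ R', ∀ v ∈ L, x * v * x⁻¹ ∈ L := by
      intro x hx v hv
      rw [← SetLike.mem_coe, hLdef, Subgroup.normal_mul] at hv
      obtain ⟨k, hk, w, hw, rfl⟩ := hv
      obtain ⟨t, rfl⟩ := mem_zpowers_iff.mp hw
      have e : x * (k * y ^ t) * x⁻¹ = (x * k * x⁻¹) * y ^ t := by
        calc x * (k * y ^ t) * x⁻¹ = (x * k * x⁻¹) * (x * y ^ t * x⁻¹) := by group
          _ = _ := by
            congr 1
            rw [mul_inv_eq_iff_eq_mul]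
            exact ((hyR x hx).zpow_left t).eq.symm
      rw [e]
      exact mul_mem (le_sup_left (b := zpowers y) (‹K.Normal›.conj_mem k hk x))
        (le_sup_right (a := K) (zpow_mem (mem_zpowers y) t))
    intro x hx
    refine mem_normalizer_iff.mpr fun v => ⟨hdir x hx v, fun h => ?_⟩
    have := hdir x⁻¹ (inv_mem hx) _ h
    simpa [mul_assoc] using this
  have hN : normalizer (L : Set H) = ⊤ := by
    rw [← Subgroup.index_eq_one]
    refine Nat.eq_one_of_dvd_coprimes ?_ (Subgroup.index_dvd_of_le hRN)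
      ((Subgroup.index_dvd_of_le le_normalizer).trans hLidx)
    have hR := R'.card_mul_index
    rw [hR', hH] at hR
    have : R'.index = 2 ^ c := by omega
    rw [this]
    exact Nat.Coprime.pow_left _ (by norm_num)
  haveI : L.Normal := Subgroup.normalizer_eq_top_iff.mp hN
  have hLS : L ≤ (S : Subgroup H) := by
    have h := S.3 (hLp.to_sup_of_normal_left S.2) le_sup_right
    exact h ▸ le_sup_left
  exact hyK ((Subgroup.normal_le_normalCore.mpr hLS) (le_sup_right (a := K) (mem_zpowers y)))

end CfsgLib.NineTwoQ
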