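import Cfsg.Agent.NineTwoQ.Local
import Cfsg.Agent.NineTwoQ.TwoCore

/-!
# Centralizers of three-elements
-/

set_option autoImplicit false
set_option linter.style.haveILetI false

namespace CfsgLib.NineTwoQ

open Cfsg Subgroup CfsgLib.Chars CfsgLib.Blocks
open scoped ComplexConjugate

universe u

variable {G : Type u} [Group G] [Fintype G] {M : Ideal AlgInt}

theorem Core.le_centralizer (C : Core G M) {r : G} (hr : r ∈ (C.R : Subgroup G)) :
    (C.R : Subgroup G) ≤ centralizer ({r} : Set G) := fun x hx =>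
  mem_centralizer_singleton_iff.mpr (comm_of_card_nine C.hR x hx r hr)

/-- The two-core of the centralizer of a nontrivial element of `R`. -/
theorem Core.exists_core_at (C : Core G M) {r : G} (hr : r ∈ (C.R : Subgroup G)) (hr1 : r ≠ 1) :
    ∃ K : Subgroup (centralizer ({r} : Set G)), K.Normal ∧ (∃ e, Nat.card K = 2 ^ e) ∧
      ¬ 3 ∣ Nat.card K ∧ K.index ≤ 18 ∧
      (∃ c, c ≤ C.a ∧ Nat.card (centralizer ({r} : Set G)) = 9 * 2 ^ c) ∧
      ∀ y : centralizer ({r} : Set G), (∃ j, orderOf y = 2 ^ j) →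
        (∀ x ∈ (C.R : Subgroup G), Commute (y : G) x) → y ∈ K := by
  haveI : Fact (Nat.Prime 3) := ⟨Nat.prime_three⟩
  have hq5 := C.q5
  have hle := C.le_centralizer hr
  obtain ⟨k, hk⟩ := orderOf_pow_three C.hR hr
  have hnq : ¬ C.q ∣ orderOf r := by
    rw [hk]
    intro h
    have := (Nat.prime_dvd_prime_iff_eq C.hq Nat.prime_three).mp (C.hq.dvd_of_dvd_pow h)
    omega
  have h9 : 9 ∣ Nat.card (centralizer ({r} : Set G)) := C.hR ▸ Subgroup.card_dvd_of_le hle
  have hd : Nat.card (centralizer ({r} : Set G)) ∣ 9 * 2 ^ C.a :=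
    ((C.hq.coprime_iff_not_dvd.mpr (C.not_dvd_centralizer hr1 hnq)).symm).dvd_of_dvd_mul_right
      (C.card ▸ Subgroup.card_subgroup_dvd_card _)
  obtain ⟨m, hm⟩ := h9
  rw [hm] at hd
  obtain ⟨c, hca, rfl⟩ := (Nat.dvd_prime_pow Nat.prime_two).mp
    (Nat.dvd_of_mul_dvd_mul_left (by norm_num) hd)
  obtain ⟨z, hz⟩ := exists_prime_orderOf_dvd_card' (G := zpowers r) 3 (by
    rw [Nat.card_zpowers, hk]
    rcases k with _ | k
    · rw [pow_zero, orderOf_eq_one_iff] at hk
      exact absurd hk hr1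
    · exact dvd_pow_self 3 k.succ_ne_zero)
  have hzc : ∀ x : centralizer ({r} : Set G), Commute (z : G) x := fun x => by
    obtain ⟨i, hi⟩ := mem_zpowers_iff.mp z.2
    rw [← hi]
    exact (show Commute r x from (mem_centralizer_singleton_iff.mp x.2).symm).zpow_left i
  have hzmem : (z : G) ∈ centralizer ({r} : Set G) :=
    (zpowers_le.mpr (mem_centralizer_singleton_iff.mpr rfl)) z.2
  obtain ⟨K, hKn, ⟨e, he⟩, hKi, hK⟩ := exists_two_core hm (z := ⟨z, hzmem⟩)
    (by rw [Subgroup.orderOf_mk, orderOf_coe, hz]) (fun x => Subtype.ext (hzc x))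
  refine ⟨K, hKn, ⟨e, he⟩, ?_, hKi, ⟨c, hca, hm⟩, fun y hy hyR => ?_⟩
  · rw [he]
    intro h
    have := (Nat.prime_dvd_prime_iff_eq Nat.prime_three Nat.prime_two).mp
      (Nat.prime_three.dvd_of_dvd_pow h)
    omega
  · exact hK ((C.R : Subgroup G).subgroupOf _)
      ((Nat.card_congr (Subgroup.subgroupOfEquivOfLe hle).toEquiv).trans C.hR) y hy
      fun x hx => Subtype.ext (hyR x (mem_subgroupOf.mp hx))

theorem Core.chi_ne_one (C : Core G M) : C.P.χp ≠ oneChar G := fun e => by
  have h := C.P.one_lt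
  rw [e, charDegree_eq_of_map_one (n := 1) (by simp)] at h
  omega

/-- `R` is its own centralizer. -/
theorem Core.centralizer_sylow [IsSimpleGroup G] (C : Core G M) (hM : IsPModular 3 M)
    (hG : ¬ IsMulCommutative G) (hd : charDegree (C.P.χp : G → ℂ) ≤ 16) :
    centralizer ((C.R : Subgroup G) : Set G) = (C.R : Subgroup G) := by
  classical
  haveI : Fact (Nat.Prime 2) := ⟨Nat.prime_two⟩
  haveI : Fact (Nat.Prime 3) := ⟨Nat.prime_three⟩
  set D := centralizer ((C.R : Subgroup G) : Set G) with hD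
  have hRD : (C.R : Subgroup G) ≤ D := fun x hx =>
    mem_centralizer_iff.mpr fun y hy => comm_of_card_nine C.hR y hy x hx
  by_contra hne
  -- an element of `R` of order at least three
  haveI : Nontrivial (C.R : Subgroup G) := Finite.one_lt_card_iff_nontrivial.mp (by rw [C.hR]; norm_num)
  obtain ⟨⟨r₀, hr₀⟩, hr₀1⟩ := exists_ne (1 : (C.R : Subgroup G))
  have hr₀1' : r₀ ≠ 1 := fun e => hr₀1 (Subtype.ext e)
  obtain ⟨-, -, -, -, -, ⟨c, -, hc⟩, -⟩ := C.exists_core_at hr₀ hr₀1'
  have hD9 : Nat.card D ∣ 9 * 2 ^ c := hc ▸ Subgroup.card_dvd_of_le (fun x hx =>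
    mem_centralizer_singleton_iff.mpr (mem_centralizer_iff.mp hx r₀ hr₀).symm)
  have hD2 : 2 ∣ Nat.card D := by
    by_contra h2
    have h : Nat.card D ∣ 9 :=
      ((Nat.prime_two.coprime_iff_not_dvd.mpr h2).symm.pow_right c).dvd_of_dvd_mul_right hD9
    exact hne (eq_of_le_of_card_ge hRD (by rw [C.hR]; exact Nat.le_of_dvd (by norm_num) h)).symm
  obtain ⟨y, hy⟩ := exists_prime_orderOf_dvd_card' (G := D) 2 hD2
  rw [← Subgroup.orderOf_coe] at hy
  have hyR : ∀ x ∈ (C.R : Subgroup G), Commute (y : G) x := fun x hx =>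
    (mem_centralizer_iff.mp y.2 x hx).symm
  set χ := C.P.χp
  have hconst : ∀ r ∈ (C.R : Subgroup G), r ≠ 1 → (χ : G → ℂ) (r * (y : G)) = (χ : G → ℂ) r := by
    intro r hr hr1
    obtain ⟨K, hKn, -, hK3, -, -, hKy⟩ := C.exists_core_at hr hr1
    haveI := hKn
    exact apply_normal hM (orderOf_pow_three C.hR hr) K hK3 C.good.1.1
      (s := ⟨y, mem_centralizer_singleton_iff.mpr (hyR r hr).eq⟩)
      (hKy _ ⟨1, by rw [Subgroup.orderOf_mk, hy, pow_one]⟩ fun x hx => hyR x hx)
  have hy1 : (y : G) ≠ 1 := fun e => by rw [e, orderOf_one] at hy; omega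
  have hy2 : (y : G) * y = 1 := by rw [← pow_two, ← hy, pow_orderOf_eq_one]
  haveI := Fintype.ofFinite (C.R : Subgroup G)
  haveI := Fintype.ofFinite (zpowers (y : G))
  have hRY : ∀ (s : (C.R : Subgroup G)) (t : zpowers (y : G)), Commute (s : G) (t : G) := fun s t => by
    obtain ⟨i, hi⟩ := mem_zpowers_iff.mp t.2
    rw [← hi]
    exact ((hyR s s.2).symm).zpow_right i
  let φ : ↥(C.R : Subgroup G) × ↥(zpowers (y : G)) →* G :=
    { toFun := fun p => (p.1 : G) * (p.2 : G)
      map_one' := by simp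
      map_mul' := fun p p' => by
        simp only [Prod.fst_mul, Prod.snd_mul, Subgroup.coe_mul]
        rw [mul_assoc, ← mul_assoc (p'.1 : G), (hRY p'.1 p.2).eq]
        simp only [mul_assoc] }
  obtain ⟨n₁, hn₁⟩ := PrimeGram.exists_nat_sum_hom (isCharacter_coe χ) φ 1
  obtain ⟨n₂, hn₂⟩ := PrimeGram.exists_nat_sum_hom (isCharacter_coe χ) (C.R : Subgroup G).subtype 1
  simp only [MonoidHom.one_apply, Units.val_one, map_one, mul_one] at hn₁ hn₂
  have huniv : (Finset.univ : Finset (zpowers (y : G))) = {1, ⟨y, mem_zpowers _⟩} := by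
    refine (Finset.eq_univ_of_card _ ?_).symm
    rw [Finset.card_pair (fun e => hy1 (congrArg Subtype.val e).symm), ← Nat.card_eq_fintype_card,
      Nat.card_zpowers, hy]
  have hsplit : ∑ p : ↥(C.R : Subgroup G) × ↥(zpowers (y : G)), (χ : G → ℂ) (φ p) =
      ∑ s : (C.R : Subgroup G), (χ : G → ℂ) s +
        ((χ : G → ℂ) y + ∑ s ∈ Finset.univ.erase (1 : (C.R : Subgroup G)), (χ : G → ℂ) s) := by
    rw [Fintype.sum_prod_type,
      Finset.sum_congr rfl fun s _ => show
        (∑ t : zpowers (y : G), (χ : G → ℂ) (φ (s, t))) =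
          (χ : G → ℂ) (s : G) + (χ : G → ℂ) ((s : G) * y) by
        rw [huniv, Finset.sum_pair (fun e => hy1 (congrArg Subtype.val e).symm)]
        simp [φ], Finset.sum_add_distrib]
    congr 1
    rw [← Finset.add_sum_erase _ _ (Finset.mem_univ (1 : (C.R : Subgroup G))), OneMemClass.coe_one,
      one_mul]
    congr 1
    exact Finset.sum_congr rfl fun s hs =>
      hconst s s.2 fun e => Finset.ne_of_mem_erase hs (Subtype.ext e)
  rw [hsplit, Nat.card_prod, C.hR, Nat.card_zpowers, hy] at hn₁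
  rw [C.hR] at hn₂
  simp only [Subgroup.subtype_apply] at hn₂
  rw [← Finset.add_sum_erase _ _ (Finset.mem_univ (1 : (C.R : Subgroup G)))] at hn₁ hn₂
  simp only [OneMemClass.coe_one] at hn₁ hn₂
  obtain ⟨i, j, h1, hy', heven⟩ := PrimeGram.exists_even_neg
    (fun l : G →* ℂˣ => PrimeGram.linear_trivial_of_simple hG l) hy2 (isCharacter_coe χ)
  rw [hy', h1] at hn₁
  rw [h1] at hn₂
  have hj : (2 * (j : ℤ)) = 18 * ((n₂ : ℤ) - n₁) := by
    have : ((2 * (j : ℤ) : ℤ) : ℂ) = ((18 * ((n₂ : ℤ) - n₁) : ℤ) : ℂ) := by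
      push_cast at hn₁ hn₂ ⊢
      linear_combination -hn₁ + 2 * hn₂
    exact_mod_cast this
  have hij : i + j = charDegree (χ : G → ℂ) := by
    rw [← coe_charDegree] at h1
    exact_mod_cast h1.symm
  have hj0 : j ≠ 0 := fun e => hy1 (PrimeGram.eq_one_of_value_eq_degree C.chi_ne_one (by
    show (χ : G → ℂ) (y : G) = (χ : G → ℂ) 1
    rw [hy', h1, e]; simp))
  obtain ⟨k, hk⟩ := heven
  omega

theorem sum_range_three : ∑ i ∈ Finset.range (3 + 1), 3 / ((2 - 1) * 2 ^ i) = 4 := by decide

/-- A bound for the centralizers of three-elements. -/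
theorem Core.card_centralizer_le [IsSimpleGroup G] (C : Core G M) (hM : IsPModular 3 M)
    (hG : ¬ IsMulCommutative G) (hd : charDegree (C.P.χp : G → ℂ) ≤ 8 ∨ charDegree (C.P.χp : G → ℂ) = 16)
    {γ : ℕ} (hγ : if charDegree (C.P.χp : G → ℂ) ≤ 8 then γ = 1 else γ = 5) {r : G}
    (hr : r ∈ (C.R : Subgroup G)) (hr1 : r ≠ 1) :
    ∃ c, c ≤ γ ∧ Nat.card (centralizer ({r} : Set G)) = 9 * 2 ^ c := by
  classical
  haveI : Fact (Nat.Prime 3) := ⟨Nat.prime_three⟩
  have hD := C.centralizer_sylow hM hG (by omega)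
  set χ := C.P.χp
  obtain ⟨K, hKn, ⟨e, he⟩, hK3, hKi, ⟨c, -, hc⟩, -⟩ := C.exists_core_at hr hr1
  haveI := hKn
  refine ⟨c, ?_, hc⟩
  have hle := C.le_centralizer hr
  by_cases hgen : zpowers r = (C.R : Subgroup G)
  · have h : centralizer ({r} : Set G) ≤ (C.R : Subgroup G) := by
      intro x hx
      rw [← hD, mem_centralizer_iff]
      intro y hy
      obtain ⟨i, rfl⟩ := mem_zpowers_iff.mp (hgen.symm ▸ hy)
      exact ((show Commute r x from (mem_centralizer_singleton_iff.mp hx).symm).zpow_left i).eq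
    have h' := Subgroup.card_le_of_le h
    rw [hc, C.hR] at h'
    rcases Nat.eq_zero_or_pos c with h0 | h0
    · omega
    · have : 2 ^ 1 ≤ 2 ^ c := Nat.pow_le_pow_right (by norm_num) h0
      omega
  have hr3 : orderOf r = 3 := by
    obtain ⟨k, hk⟩ := orderOf_pow_three C.hR hr
    have hlt : Nat.card (zpowers r) < 9 := by
      rw [← C.hR]
      refine lt_of_le_of_ne (Subgroup.card_le_of_le (zpowers_le.mpr hr)) fun e' => hgen
        (eq_of_le_of_card_ge (zpowers_le.mpr hr) e'.ge)
    rw [Nat.card_zpowers, hk] at hlt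
    rcases (by omega : k = 0 ∨ k = 1 ∨ 2 ≤ k) with h | h | h
    · rw [h, pow_zero, orderOf_eq_one_iff] at hk; exact absurd hk hr1
    · rw [hk, h, pow_one]
    · have : 3 ^ 2 ≤ 3 ^ k := Nat.pow_le_pow_right (by norm_num) h
      omega
  -- elements outside the cyclic subgroup act without fixed points on `K`
  have hfree : ∀ t ∈ (C.R : Subgroup G), t ∉ zpowers r → ∀ v : K,
      Commute t ((v : centralizer ({r} : Set G)) : G) → v = 1 := by
    intro t ht htr v hv
    set w : G := ((v : centralizer ({r} : Set G)) : G) with hw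
    have hW : (C.R : Subgroup G) ⊓ centralizer ({w} : Set G) = (C.R : Subgroup G) := by
      refine eq_of_le_of_card_ge inf_le_left ?_
      have hsub : zpowers r ≤ (C.R : Subgroup G) ⊓ centralizer ({w} : Set G) :=
        zpowers_le.mpr ⟨hr, mem_centralizer_singleton_iff.mpr
          ((mem_centralizer_singleton_iff.mp (v : centralizer ({r} : Set G)).2).symm)⟩
      have hd' := Subgroup.card_dvd_of_le
        (inf_le_left : (C.R : Subgroup G) ⊓ centralizer ({w} : Set G) ≤ (C.R : Subgroup G))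
      rw [C.hR] at hd' ⊢
      obtain ⟨k, hk2, hk⟩ := (Nat.dvd_prime_pow Nat.prime_three).mp (show _ ∣ 3 ^ 2 from hd')
      rcases (by omega : k ≤ 1 ∨ k = 2) with h | h
      · exfalso
        refine htr ((eq_of_le_of_card_ge hsub ?_).symm ▸
          (⟨ht, mem_centralizer_singleton_iff.mpr hv.eq⟩ : t ∈ (C.R : Subgroup G) ⊓ centralizer ({w} : Set G)))
        rw [hk, Nat.card_zpowers, hr3]
        calc 3 ^ k ≤ 3 ^ 1 := Nat.pow_le_pow_right (by norm_num) h
          _ = 3 := pow_one 3
      · rw [hk, h]; norm_num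
    have hwR : w ∈ (C.R : Subgroup G) := by
      rw [← hD, mem_centralizer_iff]
      intro y hy
      have := (hW.symm ▸ hy : y ∈ (C.R : Subgroup G) ⊓ centralizer ({w} : Set G)).2
      exact mem_centralizer_singleton_iff.mp this
    have h2 := _root_.orderOf_dvd_natCard v
    have h9 := Subgroup.orderOf_dvd_natCard _ hwR
    rw [he] at h2
    rw [C.hR, hw, Subgroup.orderOf_coe, Subgroup.orderOf_coe] at h9
    exact orderOf_eq_one_iff.mp (Nat.eq_one_of_dvd_coprimes
      (Nat.Coprime.pow_left e (by norm_num)) h2 h9)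
  have hsec : ∀ v ∈ K, (χ : G → ℂ) (r * (v : G)) = (χ : G → ℂ) r := fun v hv =>
    apply_normal hM (orderOf_pow_three C.hR hr) K hK3 C.good.1.1 hv
  have hreal : ∀ g : G, (χ : G → ℂ) g⁻¹ = (χ : G → ℂ) g := fun g => by
    obtain ⟨m, hm⟩ := C.P.ratp g
    rw [map_inv_eq_conj (isCharacter_coe χ), hm, map_intCast]
  -- constancy on the cosets `t K` for `t ∈ R`, `t ≠ 1`
  have hcoset : ∀ t ∈ (C.R : Subgroup G), t ≠ 1 → ∀ v : K,
      (χ : G → ℂ) (t * ((v : centralizer ({r} : Set G)) : G)) = (χ : G → ℂ) t := by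
    intro t ht ht1 v
    by_cases htr : t ∈ zpowers r
    · have hvr : Commute r ((v : centralizer ({r} : Set G)) : G) :=
        (mem_centralizer_singleton_iff.mp (v : centralizer ({r} : Set G)).2).symm
      obtain ⟨i, hi⟩ : ∃ i : ℕ, r ^ i = t := mem_powers_iff_mem_zpowers.mpr htr
      rw [← pow_mod_orderOf, hr3] at hi
      rcases (by omega : i % 3 = 0 ∨ i % 3 = 1 ∨ i % 3 = 2) with h | h | h <;> rw [h] at hi
      · exact absurd (by rw [← hi, pow_zero]) ht1
      · rw [pow_one] at hi
        rw [← hi]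
        exact hsec _ v.2
      · have hinv : t = r⁻¹ := by
          rw [← hi]
          refine eq_inv_of_mul_eq_one_left ?_
          rw [← pow_succ]
          exact orderOf_dvd_iff_pow_eq_one.mp (dvd_of_eq hr3)
        rw [hinv, ← hreal (r⁻¹ * _), hreal r, mul_inv_rev, inv_inv, hvr.inv_right.eq.symm]
        exact hsec _ (inv_mem v.2)
    · have htC : t ∈ centralizer ({r} : Set G) := hle ht
      let f : K → K := fun u => ⟨(⟨t, htC⟩ : centralizer ({r} : Set G))⁻¹ * u * ⟨t, htC⟩ * (u : centralizer ({r} : Set G))⁻¹,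
        mul_mem (by simpa [mul_assoc] using hKn.conj_mem _ u.2 (⟨t, htC⟩ : centralizer ({r} : Set G))⁻¹) (inv_mem u.2)⟩
      have hf : Function.Injective f := by
        intro u u' h
        have h' := congrArg (fun x : K => ((x : centralizer ({r} : Set G)) : G)) h
        simp only [f, Subgroup.coe_mul, Subgroup.coe_inv] at h'
        set U : G := ((u : centralizer ({r} : Set G)) : G)
        set U' : G := ((u' : centralizer ({r} : Set G)) : G)
        have := hfree t ht htr (u'⁻¹ * u) (by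
          show t * (((u'⁻¹ * u : K) : centralizer ({r} : Set G)) : G) =
            (((u'⁻¹ * u : K) : centralizer ({r} : Set G)) : G) * t
          simp only [Subgroup.coe_mul, Subgroup.coe_inv]
          calc t * (U'⁻¹ * U) = U'⁻¹ * (t * (t⁻¹ * U' * t * U'⁻¹)) * U := by group
            _ = U'⁻¹ * (t * (t⁻¹ * U * t * U⁻¹)) * U := by rw [h']
            _ = U'⁻¹ * U * t := by group)
        exact (inv_mul_eq_one.mp this).symm
      obtain ⟨u, hu⟩ := (Finite.injective_iff_surjective.mp hf) v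
      rw [← hu]
      show (χ : G → ℂ) (t * (t⁻¹ * _ * t * _⁻¹)) = _
      rw [← mul_assoc, ← mul_assoc, mul_inv_cancel_left]
      exact isClassFunction_coe χ t _
  haveI := Fintype.ofFinite K
  haveI := Fintype.ofFinite (C.R : Subgroup G)
  set ι : K →* G := (centralizer ({r} : Set G)).subtype.comp K.subtype with hι
  obtain ⟨cf, hcf, hcf'⟩ := exists_nat_coeff (isCharacter_comp (isCharacter_coe χ) ι)
  set n₀ := cf (oneChar K) with hn₀
  have hKsum : ∑ u : K, (χ : G → ℂ) (ι u) = (Nat.card K : ℂ) * n₀ := by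
    have h := hcf' (oneChar K)
    rw [classInner, inv_mul_eq_iff_eq_mul₀ natCard_ne_zero] at h
    simpa using h
  -- the congruence modulo nine
  have hmod : (9 : ℤ) ∣ (n₀ : ℤ) - charDegree (χ : G → ℂ) := by
    set R' := (C.R : Subgroup G).subgroupOf (centralizer ({r} : Set G)) with hR'
    set H := R' ⊔ K with hH
    haveI := Fintype.ofFinite H
    obtain ⟨m, hm⟩ := PrimeGram.exists_nat_sum_hom (isCharacter_coe χ)
      ((centralizer ({r} : Set G)).subtype.comp H.subtype) 1
    obtain ⟨m₂, hm₂⟩ := PrimeGram.exists_nat_sum_hom (isCharacter_coe χ) (C.R : Subgroup G).subtype 1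
    simp only [MonoidHom.one_apply, Units.val_one, map_one, mul_one, MonoidHom.comp_apply,
      Subgroup.subtype_apply] at hm hm₂
    let F : ↥(C.R : Subgroup G) × ↥K → ↥H := fun p =>
      ⟨⟨p.1, hle p.1.2⟩ * (p.2 : centralizer ({r} : Set G)),
        mul_mem (le_sup_left (b := K) (mem_subgroupOf.mpr p.1.2)) (le_sup_right (a := R') p.2.2)⟩
    have hF : Function.Bijective F := by
      refine ⟨fun p p' h => ?_, fun x => ?_⟩
      · have h' : (p.1 : G) * ((p.2 : centralizer ({r} : Set G)) : G) =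
            (p'.1 : G) * ((p'.2 : centralizer ({r} : Set G)) : G) :=
          congrArg (fun x : H => ((x : centralizer ({r} : Set G)) : G)) h
        have h1 : (p'.1 : G)⁻¹ * p.1 =
            ((p'.2 : centralizer ({r} : Set G)) : G) * ((p.2 : centralizer ({r} : Set G)) : G)⁻¹ :=
          inv_mul_eq_iff_eq_mul.mpr (by rw [← mul_assoc, ← h', mul_inv_cancel_right])
        have h2 : (p'.1 : G)⁻¹ * p.1 = 1 := by
          refine orderOf_eq_one_iff.mp (Nat.eq_one_of_dvd_coprimes
            (Nat.Coprime.pow_left e (by norm_num : Nat.Coprime 2 9)) ?_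
            (C.hR ▸ Subgroup.orderOf_dvd_natCard _ (mul_mem (inv_mem p'.1.2) p.1.2)))
          rw [h1, ← he, ← Subgroup.coe_inv, ← Subgroup.coe_mul, Subgroup.orderOf_coe]
          exact Subgroup.orderOf_dvd_natCard K (mul_mem p'.2.2 (inv_mem p.2.2))
        have h3 : (p.1 : G) = p'.1 := (inv_mul_eq_one.mp h2).symm
        rw [h3] at h'
        exact Prod.ext (Subtype.ext h3) (Subtype.ext (Subtype.ext (mul_left_cancel h')))
      · have hx := x.2
        rw [← SetLike.mem_coe] at hx
        simp only [hH, Subgroup.mul_normal] at hx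
        obtain ⟨a, ha, b, hb, hab⟩ := hx
        exact ⟨(⟨a, mem_subgroupOf.mp ha⟩, ⟨b, hb⟩), Subtype.ext hab⟩
    have hsumH : ∑ x : H, (χ : G → ℂ) ((x : centralizer ({r} : Set G)) : G) =
        ∑ p : ↥(C.R : Subgroup G) × ↥K, (χ : G → ℂ) ((p.1 : G) * ι p.2) :=
      (Fintype.sum_bijective F hF _ _ fun _ => rfl).symm
    have hne : ∀ t : (C.R : Subgroup G), t ≠ 1 →
        ∑ u : K, (χ : G → ℂ) ((t : G) * ι u) = (Nat.card K : ℂ) * (χ : G → ℂ) t := by
      intro t ht
      rw [Finset.sum_congr rfl fun u _ => show (χ : G → ℂ) ((t : G) * ι u) = (χ : G → ℂ) t from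
        hcoset t t.2 (fun e' => ht (Subtype.ext e')) u, Finset.sum_const, Finset.card_univ,
        nsmul_eq_mul, Nat.card_eq_fintype_card]
    rw [hsumH, ← Nat.card_eq_of_bijective F hF, Fintype.sum_prod_type,
      ← Finset.add_sum_erase _ _ (Finset.mem_univ (1 : (C.R : Subgroup G))),
      Finset.sum_congr rfl fun t ht => hne t (Finset.ne_of_mem_erase ht), ← Finset.mul_sum] at hm
    rw [← Finset.add_sum_erase _ _ (Finset.mem_univ (1 : (C.R : Subgroup G))), OneMemClass.coe_one,
      C.hR] at hm₂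
    simp only [OneMemClass.coe_one, one_mul, hKsum, Nat.card_prod, C.hR] at hm
    rw [← coe_charDegree] at hm₂
    push_cast at hm hm₂
    refine ⟨(m : ℤ) - m₂, ?_⟩
    have hK0 : (Nat.card K : ℂ) ≠ 0 := natCard_ne_zero
    have h : (Nat.card K : ℂ) * (((n₀ : ℤ) - charDegree (χ : G → ℂ) : ℤ) : ℂ) =
        (Nat.card K : ℂ) * ((9 * ((m : ℤ) - m₂) : ℤ) : ℂ) := by
      push_cast
      linear_combination hm - (Nat.card K : ℂ) * hm₂
    exact_mod_cast mul_left_cancel₀ hK0 h
  have hdegK : (charDegree (χ : G → ℂ) : ℂ) = ∑ ψ : IrrCharacter K, (cf ψ : ℂ) * (ψ : K → ℂ) 1 := by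
    have h := congrFun hcf 1
    simpa [coe_charDegree] using h
  have hdegK' : charDegree (χ : G → ℂ) = ∑ ψ : IrrCharacter K, cf ψ * charDegree (ψ : K → ℂ) := by
    have h := hdegK
    simp only [← coe_charDegree] at h
    exact_mod_cast h
  have hn₀le : n₀ ≤ charDegree (χ : G → ℂ) := by
    rw [hdegK']
    have := Finset.single_le_sum (f := fun ψ : IrrCharacter K => cf ψ * charDegree (ψ : K → ℂ))
      (fun _ _ => Nat.zero_le _) (Finset.mem_univ (oneChar K))
    rwa [charDegree_eq_of_map_one (n := 1) (χ := (oneChar K : K → ℂ)) (by simp), mul_one] at this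
  have htriv : n₀ = charDegree (χ : G → ℂ) → Nat.card K = 1 := by
    intro h
    rw [Nat.card_eq_one_iff_exists]
    refine ⟨1, fun u => ?_⟩
    have hzero : ∀ ψ ∈ Finset.univ.erase (oneChar K), cf ψ = 0 := by
      have hs := Finset.add_sum_erase Finset.univ
        (fun ψ : IrrCharacter K => cf ψ * charDegree (ψ : K → ℂ)) (Finset.mem_univ (oneChar K))
      rw [← hdegK', charDegree_eq_of_map_one (n := 1) (χ := (oneChar K : K → ℂ)) (by simp), mul_one,
        ← hn₀, h] at hs
      intro ψ hψ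
      have h0 : ∑ ψ ∈ Finset.univ.erase (oneChar K), cf ψ * charDegree (ψ : K → ℂ) = 0 := by omega
      exact (Nat.mul_eq_zero.mp ((Finset.sum_eq_zero_iff.mp h0) ψ hψ)).resolve_right
        (charDegree_pos ψ).ne'
    have hu := congrFun hcf u
    simp only [Finset.sum_apply, Pi.smul_apply, smul_eq_mul] at hu
    rw [← Finset.add_sum_erase _ _ (Finset.mem_univ (oneChar K)),
      Finset.sum_eq_zero (fun ψ hψ => by rw [hzero ψ hψ, Nat.cast_zero, zero_mul]), add_zero,
      oneChar_apply, mul_one, ← hn₀, h, coe_charDegree] at hu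
    exact Subtype.ext (Subtype.ext (PrimeGram.eq_one_of_value_eq_degree C.chi_ne_one hu))
  have hidx := K.card_mul_index
  rw [hc] at hidx
  obtain ⟨k, hk⟩ := hmod
  rcases hd with h8 | h16
  · rw [if_pos h8] at hγ
    have hn : n₀ = charDegree (χ : G → ℂ) := by
      have : k = 0 := by omega
      omega
    rw [htriv hn, one_mul] at hidx
    by_contra hlt
    have : 2 ^ 2 ≤ 2 ^ c := Nat.pow_le_pow_right (by norm_num) (by omega)
    omega
  · rw [if_neg (by omega)] at hγ
    suffices hK16 : Nat.card K ≤ 16 by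
      by_contra hlt
      have : 2 ^ 6 ≤ 2 ^ c := Nat.pow_le_pow_right (by norm_num) (by omega)
      have := Nat.mul_le_mul hK16 hKi
      omega
    rcases (by omega : k = 0 ∨ k = -1) with h | h
    · rw [htriv (by omega)]; norm_num
    have hn7 : n₀ = 7 := by omega
    -- the coefficients of nontrivial characters are divisible by three
    have h3 : ∀ ψ : IrrCharacter K, ψ ≠ oneChar K → 3 ∣ cf ψ := by
      intro ψ hψ
      haveI := Fintype.ofFinite (zpowers r)
      have hcom : ∀ (s : zpowers r) (t : K), Commute (s : G) (ι t) := fun s t => by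
        obtain ⟨i, hi⟩ := mem_zpowers_iff.mp s.2
        rw [← hi]
        exact ((show Commute r (ι t) from
          (mem_centralizer_singleton_iff.mp (t : centralizer ({r} : Set G)).2).symm)).zpow_left i
      let φ : zpowers r × K →* G :=
        { toFun := fun p => (p.1 : G) * ι p.2
          map_one' := by simp
          map_mul' := fun p p' => by
            simp only [Prod.fst_mul, Prod.snd_mul, map_mul, Subgroup.coe_mul]
            rw [mul_assoc, ← mul_assoc (p'.1 : G), (hcom p'.1 p.2).eq]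
            simp only [mul_assoc] }
      obtain ⟨m, hm⟩ := exists_nat_classInner' (isCharacter_comp (isCharacter_coe χ) φ)
        (isCharacter_comp (isCharacter_coe ψ) (MonoidHom.snd (zpowers r) K))
      refine ⟨m, ?_⟩
      have hψsum : ∑ u : K, conj ((ψ : K → ℂ) u) = 0 := by
        have h := classInner_of_ne (χ := oneChar K) (ψ := ψ) hψ.symm
        rw [classInner, inv_mul_eq_iff_eq_mul₀ natCard_ne_zero, mul_zero] at h
        simpa using h
      rw [classInner, inv_mul_eq_iff_eq_mul₀ natCard_ne_zero, Fintype.sum_prod_type,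
        ← Finset.add_sum_erase _ _ (Finset.mem_univ (1 : zpowers r)),
        Finset.sum_eq_zero (s := Finset.univ.erase (1 : zpowers r)) (fun t ht => by
          rw [Finset.sum_congr rfl fun u _ => show
            (χ : G → ℂ) (φ (t, u)) * conj ((ψ : K → ℂ) ((MonoidHom.snd (zpowers r) K) (t, u))) =
              (χ : G → ℂ) (t : G) * conj ((ψ : K → ℂ) u) by
            show (χ : G → ℂ) ((t : G) * ι u) * _ = _
            congr 1
            exact hcoset t (zpowers_le.mpr hr t.2) (fun e' => Finset.ne_of_mem_erase ht (Subtype.ext e')) u,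
            ← Finset.mul_sum, hψsum, mul_zero]), add_zero, Nat.card_prod, Nat.card_zpowers, hr3] at hm
      have h := hcf' ψ
      rw [classInner, inv_mul_eq_iff_eq_mul₀ natCard_ne_zero] at h
      simp only [φ, MonoidHom.coe_mk, OneHom.coe_mk, MonoidHom.coe_snd, OneMemClass.coe_one, one_mul] at hm
      rw [h] at hm
      have : (Nat.card K : ℂ) * (cf ψ : ℂ) = (Nat.card K : ℂ) * ((3 * m : ℕ) : ℂ) := by
        push_cast at hm ⊢
        linear_combination hm
      exact_mod_cast mul_left_cancel₀ natCard_ne_zero this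
    choose mm hmm using h3
    let f : K → ℂ := ∑ ψ : IrrCharacter K, if h : ψ = oneChar K then 0 else (mm ψ h) • (ψ : K → ℂ)
    have hfc : IsCharacter K f := by
      refine Finset.sum_induction _ (IsCharacter K) (fun _ _ => isCharacter_add) isCharacter_zero ?_
      intro ψ _
      split_ifs with h'
      · exact isCharacter_zero
      · exact isCharacter_nsmul _ (isCharacter_coe ψ)
    have hfval : ∀ u : K, (χ : G → ℂ) (ι u) = 7 + 3 * f u := by
      intro u
      have hu := congrFun hcf u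
      simp only [Finset.sum_apply, Pi.smul_apply, smul_eq_mul] at hu
      have hf1 : f u = ∑ ψ ∈ Finset.univ.erase (oneChar K),
          (if h : ψ = oneChar K then (0 : K → ℂ) else (mm ψ h) • (ψ : K → ℂ)) u := by
        simp only [f, Finset.sum_apply]
        rw [← Finset.sum_erase (a := oneChar K) Finset.univ]
        rw [dif_pos rfl, Pi.zero_apply]
      have hu1 : (χ : G → ℂ) (ι u) = 7 + ∑ ψ ∈ Finset.univ.erase (oneChar K),
          (cf ψ : ℂ) * (ψ : K → ℂ) u := by
        rw [hu, ← Finset.add_sum_erase _ _ (Finset.mem_univ (oneChar K)), oneChar_apply, mul_one,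
          ← hn₀, hn7]
        norm_num
      rw [hu1, hf1, Finset.mul_sum]
      congr 1
      refine Finset.sum_congr rfl fun ψ hψ => ?_
      rw [dif_neg (Finset.ne_of_mem_erase hψ), hmm ψ (Finset.ne_of_mem_erase hψ)]
      simp only [Pi.smul_apply, nsmul_eq_mul]
      push_cast; ring
    have h1f : f 1 = 3 := by
      have h := hfval 1
      rw [map_one, ← coe_charDegree, h16] at h
      push_cast at h
      linear_combination (-1 / 3 : ℂ) * h
    have hfaith : ∀ u : K, f u = f 1 → u = 1 := by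
      intro u hu
      refine Subtype.ext (Subtype.ext (PrimeGram.eq_one_of_value_eq_degree C.chi_ne_one ?_))
      show (χ : G → ℂ) (ι u) = _
      rw [hfval, hu, h1f, ← coe_charDegree, h16]
      norm_num
    have hb := SchurBound.factorization_le Nat.prime_two hfc hfaith (n := 3)
      (by rw [h1f]; norm_num) one_pos (by norm_num) (fun u => by
        obtain ⟨m, hm⟩ := C.P.ratp (ι u)
        have : f u = ((m : ℂ) - 7) / 3 := by
          rw [← hm, hfval]; ring
        rw [this]
        exact div_mem (sub_mem (intCast_mem _ m) (ofNat_mem _ 7)) (ofNat_mem _ 3))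
    rw [sum_range_three, he, Nat.prime_two.factorization_pow, Finsupp.single_eq_same] at hb
    rw [he]
    calc 2 ^ e ≤ 2 ^ 4 := Nat.pow_le_pow_right (by norm_num) hb
      _ = 16 := by norm_num

end CfsgLib.NineTwoQ
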