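import Cfsg.Agent.NineTwoQ.Block
import Cfsg.Agent.Chars.SchurBound.Basic
import Cfsg.Agent.Chars.Brauer.Defect
import Cfsg.Agent.HerzogThree.Arith
import Cfsg.Agent.Blocks.PrimeGram.Involution

/-!
# The degrees are a power of two and the prime `q`, and `q` divides the order exactly once
-/

set_option autoImplicit false
set_option linter.style.haveILetI false

namespace CfsgLib.NineTwoQ

open Cfsg Subgroup CfsgLib.Chars CfsgLib.Blocks
open scoped ComplexConjugate

universe u

/-- A power of an odd prime other than three next to a power of two is the prime. -/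
theorem exponent_eq_one {q j α : ℕ} (hq : q.Prime) (hq2 : q ≠ 2) (hq3 : q ≠ 3) (hj : 0 < j)
    (h : 2 ^ α = q ^ j + 1 ∨ q ^ j = 2 ^ α + 1) : j = 1 := by
  have hodd : q % 2 = 1 := Nat.odd_iff.mp (hq.odd_of_ne_two hq2)
  have h5 : 5 ≤ q := by
    have := hq.two_le
    have : q ≠ 4 := fun e => absurd (e ▸ hq) (by norm_num)
    omega
  rcases Nat.even_or_odd j with ⟨t, rfl⟩ | hjo
  · exfalso
    rw [← two_mul, mul_comm, pow_mul] at h
    set m := q ^ t
    have hm5 : 5 ≤ m := h5.trans (Nat.le_self_pow (by omega) q)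
    have hmo : m % 2 = 1 := by rw [Nat.pow_mod, hodd, one_pow, Nat.one_mod]
    rcases h with h | h
    · have hm4 : (m ^ 2 + 1) % 4 = 2 := by
        rcases (by omega : m % 4 = 1 ∨ m % 4 = 3) with e | e <;>
          simp [Nat.add_mod, Nat.pow_mod, e]
      have h8 : 4 ≤ α := by
        by_contra hlt
        have : 2 ^ α ≤ 2 ^ 3 := Nat.pow_le_pow_right (by norm_num) (by omega)
        nlinarith
      have : 4 ∣ 2 ^ α := Dvd.intro (2 ^ (α - 2)) (by
        rw [show (4 : ℕ) = 2 ^ 2 from rfl, ← pow_add]; congr 1; omega)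
      omega
    · obtain ⟨c, hc⟩ : ∃ c, m = c + 1 := ⟨m - 1, by omega⟩
      have hprod : c * (c + 2) = 2 ^ α := by
        have : (c + 1) ^ 2 = 2 ^ α + 1 := hc ▸ h
        linarith
      obtain ⟨i, -, hi⟩ := (Nat.dvd_prime_pow Nat.prime_two).mp (Dvd.intro _ hprod)
      obtain ⟨k, -, hk⟩ := (Nat.dvd_prime_pow Nat.prime_two).mp (Dvd.intro_left _ hprod)
      have hi2 : 2 ≤ i := by
        by_contra hlt
        have : 2 ^ i ≤ 2 ^ 1 := Nat.pow_le_pow_right (by norm_num) (by omega)
        omega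
      have hk2 : 2 ≤ k := by
        by_contra hlt
        have : 2 ^ k ≤ 2 ^ 1 := Nat.pow_le_pow_right (by norm_num) (by omega)
        omega
      have hi4 : 4 ∣ 2 ^ i := Dvd.intro (2 ^ (i - 2)) (by
        rw [show (4 : ℕ) = 2 ^ 2 from rfl, ← pow_add]; congr 1; omega)
      have hk4 : 4 ∣ 2 ^ k := Dvd.intro (2 ^ (k - 2)) (by
        rw [show (4 : ℕ) = 2 ^ 2 from rfl, ← pow_add]; congr 1; omega)
      omega
  · rcases h with h | h
    · have hgs := geom_sum_mul (-(q : ℤ)) j
      rw [hjo.neg_pow] at hgs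
      set s := ∑ i ∈ Finset.range j, (-(q : ℤ)) ^ i with hs
      have hdvd : s.natAbs ∣ 2 ^ α := by
        rw [← Int.natCast_dvd_natCast, Int.natAbs_dvd, h]
        exact ⟨(q : ℤ) + 1, by push_cast; linear_combination hgs⟩
      have hsodd : s % 2 = 1 := by
        have : (s : ZMod 2) = 1 := by
          rw [hs]
          push_cast
          have e : ((q : ℕ) : ZMod 2) = 1 := by
            rw [← ZMod.natCast_mod, hodd, Nat.cast_one]
          simp only [e, ZMod.neg_eq_self_mod_two, one_pow, Finset.sum_const, Finset.card_range,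
            nsmul_eq_mul, mul_one]
          rw [← ZMod.natCast_mod, Nat.odd_iff.mp hjo, Nat.cast_one]
        have e2 := (ZMod.intCast_eq_intCast_iff' s 1 2).mp (by simpa using this)
        simpa using e2
      have h1 : s.natAbs = 1 := by
        obtain ⟨i, -, hi⟩ := (Nat.dvd_prime_pow Nat.prime_two).mp hdvd
        rcases i with _ | i
        · simpa using hi
        · have : 2 ∣ s.natAbs := hi ▸ dvd_pow_self 2 i.succ_ne_zero
          omega
      have hq1 : (q : ℤ) ^ j = q := by
        rcases Int.natAbs_eq s with e | e <;> rw [h1] at e <;> rw [e] at hgs <;>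
          push_cast at hgs
        · linarith
        · have : (0 : ℤ) ≤ (q : ℤ) ^ j := by positivity
          linarith [show (5 : ℤ) ≤ q by exact_mod_cast h5]
      have : q ^ j = q ^ 1 := by rw [pow_one]; exact_mod_cast hq1
      exact Nat.pow_right_injective hq.two_le this
    · have hgs := geom_sum_mul (q : ℤ) j
      set s := ∑ i ∈ Finset.range j, (q : ℤ) ^ i with hs
      have hdvd : s.natAbs ∣ 2 ^ α := by
        rw [← Int.natCast_dvd_natCast, Int.natAbs_dvd]
        refine ⟨(q : ℤ) - 1, ?_⟩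
        rw [hgs]
        have : (q : ℤ) ^ j = 2 ^ α + 1 := by exact_mod_cast h
        push_cast
        linarith
      have hsodd : s % 2 = 1 := by
        have : (s : ZMod 2) = 1 := by
          rw [hs]
          push_cast
          have e : ((q : ℕ) : ZMod 2) = 1 := by
            rw [← ZMod.natCast_mod, hodd, Nat.cast_one]
          simp only [e, one_pow, Finset.sum_const, Finset.card_range, nsmul_eq_mul, mul_one]
          rw [← ZMod.natCast_mod, Nat.odd_iff.mp hjo, Nat.cast_one]
        have e2 := (ZMod.intCast_eq_intCast_iff' s 1 2).mp (by simpa using this)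
        simpa using e2
      have h1 : s.natAbs = 1 := by
        obtain ⟨i, -, hi⟩ := (Nat.dvd_prime_pow Nat.prime_two).mp hdvd
        rcases i with _ | i
        · simpa using hi
        · have : 2 ∣ s.natAbs := hi ▸ dvd_pow_self 2 i.succ_ne_zero
          omega
      have hs0 : 0 ≤ s := Finset.sum_nonneg fun i _ => by positivity
      have hs1 : s = 1 := by omega
      rw [hs1, one_mul] at hgs
      have hq1 : (q : ℤ) ^ j = q := by linarith
      have : q ^ j = q ^ 1 := by rw [pow_one]; exact_mod_cast hq1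
      exact Nat.pow_right_injective hq.two_le this

variable {G : Type u} [Group G] [Fintype G]

/-- An element of order prime to `q` commuting with an element of order `q` is trivial when there
is a faithful character of degree `q` of defect zero. -/
theorem eq_one_of_commute [IsSimpleGroup G] (hG : ¬ IsMulCommutative G) {q : ℕ} (hq : q.Prime)
    {χ : IrrCharacter G} (hd : charDegree (χ : G → ℂ) = q)
    (hvan : ∀ g : G, q ∣ orderOf g → (χ : G → ℂ) g = 0) {z y : G} (hz : orderOf z = q)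
    (hc : Commute y z) (hy : ¬ q ∣ orderOf y) : y = 1 := by
  classical
  set Y := zpowers y
  set Z := zpowers z
  haveI := Fintype.ofFinite Y
  haveI := Fintype.ofFinite Z
  have hYZ : ∀ (s : Y) (t : Z), Commute (s : G) (t : G) := fun s t => by
    obtain ⟨i, hi⟩ := mem_zpowers_iff.mp s.2
    obtain ⟨j, hj⟩ := mem_zpowers_iff.mp t.2
    rw [← hi, ← hj]
    exact hc.zpow_zpow i j
  let φ : Y × Z →* G :=
    { toFun := fun p => (p.1 : G) * (p.2 : G)
      map_one' := by simp
      map_mul' := fun p p' => by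
        simp only [Prod.fst_mul, Prod.snd_mul, Subgroup.coe_mul]
        rw [mul_assoc, ← mul_assoc (p'.1 : G), (hYZ p'.1 p.2).eq]
        simp only [mul_assoc] }
  have hres : IsCharacter Y (fun s : Y => (χ : G → ℂ) s) := isCharacter_restrict (isCharacter_coe χ) Y
  obtain ⟨c, hc', hcc⟩ := exists_nat_coeff hres
  have hlin : ∀ ψ : IrrCharacter Y, (ψ : Y → ℂ) 1 = 1 := map_one_eq_one_of_isMulCommutative
  have hdvd : ∀ ψ : IrrCharacter Y, q ∣ c ψ := by
    intro ψ
    obtain ⟨l, hl⟩ := exists_linChar_eq ψ (hlin ψ)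
    obtain ⟨n, hn⟩ := PrimeGram.exists_nat_sum_hom (isCharacter_coe χ) φ
      (l.comp (MonoidHom.fst Y Z))
    have hsum : ∑ p : Y × Z, (χ : G → ℂ) (φ p) * conj (((l.comp (MonoidHom.fst Y Z)) p : ℂˣ) : ℂ) =
        ∑ s : Y, (χ : G → ℂ) (s : G) * conj ((ψ : Y → ℂ) s) := by
      rw [Fintype.sum_prod_type]
      refine Finset.sum_congr rfl fun s _ => ?_
      rw [Finset.sum_eq_single (1 : Z)]
      · simp [φ, ← hl]
      · intro t _ ht
        have hord : q ∣ orderOf ((s : G) * (t : G)) := by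
          have ht1 : (t : G) ≠ 1 := fun e => ht (Subtype.ext e)
          have hto : orderOf (t : G) = q := by
            have h := orderOf_dvd_natCard t
            rw [Nat.card_zpowers, hz, Nat.dvd_prime hq] at h
            rw [orderOf_coe]
            exact h.resolve_left fun e => ht (orderOf_eq_one_iff.mp e)
          have hcop : (orderOf (s : G)).Coprime (orderOf (t : G)) := by
            rw [hto]
            refine (hq.coprime_iff_not_dvd.mpr fun h => hy (h.trans ?_)).symm
            obtain ⟨i, hi⟩ := mem_zpowers_iff.mp s.2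
            rw [← hi]
            exact orderOf_dvd_of_pow_eq_one (by
              rw [← zpow_natCast, ← zpow_mul, mul_comm, zpow_mul, zpow_natCast,
                pow_orderOf_eq_one, one_zpow])
          rw [(hYZ s t).orderOf_mul_eq_mul_orderOf_of_coprime hcop, hto]
          exact dvd_mul_left _ _
        show (χ : G → ℂ) ((s : G) * (t : G)) * _ = 0
        rw [hvan _ hord, zero_mul]
      · intro h; exact absurd (Finset.mem_univ _) h
    have h1 := hcc ψ
    rw [classInner, inv_mul_eq_iff_eq_mul₀ natCard_ne_zero] at h1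
    rw [hsum, h1, Nat.card_prod, Nat.card_zpowers (a := z), hz, Nat.cast_mul, mul_assoc] at hn
    refine ⟨n, ?_⟩
    have hn' := mul_left_cancel₀ natCard_ne_zero hn
    exact_mod_cast hn'
  have hsumc : ∑ ψ : IrrCharacter Y, c ψ = q := by
    have h := congrFun hc' 1
    simp only [Finset.sum_apply, Pi.smul_apply, smul_eq_mul, hlin, mul_one, Subgroup.coe_one,
      ← coe_charDegree, hd] at h
    exact_mod_cast h.symm
  obtain ⟨ψ₀, -, hψ₀⟩ : ∃ ψ ∈ (Finset.univ : Finset (IrrCharacter Y)), c ψ ≠ 0 :=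
    Finset.exists_ne_zero_of_sum_ne_zero (by rw [hsumc]; exact hq.ne_zero)
  have hge := Nat.le_of_dvd (Nat.pos_of_ne_zero hψ₀) (hdvd ψ₀)
  have hsplit := Finset.add_sum_erase Finset.univ c (Finset.mem_univ ψ₀)
  have hrest : ∀ ψ ∈ (Finset.univ : Finset (IrrCharacter Y)).erase ψ₀, c ψ = 0 := by
    have : ∑ ψ ∈ (Finset.univ : Finset (IrrCharacter Y)).erase ψ₀, c ψ = 0 := by omega
    simpa using this
  have hq0 : c ψ₀ = q := by
    rw [Finset.sum_eq_zero hrest] at hsplit
    omega
  have hnorm : ‖(χ : G → ℂ) y‖ = q := by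
    have h := congrFun hc' ⟨y, mem_zpowers y⟩
    simp only [Finset.sum_apply, Pi.smul_apply, smul_eq_mul] at h
    rw [h, ← Finset.add_sum_erase _ _ (Finset.mem_univ ψ₀),
      Finset.sum_eq_zero (fun ψ hψ => by rw [hrest ψ hψ]; simp), add_zero, hq0, norm_mul,
      Complex.norm_natCast]
    obtain ⟨l, hl⟩ := exists_linChar_eq ψ₀ (hlin ψ₀)
    rw [← hl, linChar_apply]
    have : ‖((l ⟨y, mem_zpowers y⟩ : ℂˣ) : ℂ)‖ = 1 := by
      refine norm_eq_one_of_pow_orderOf (g := (⟨y, mem_zpowers y⟩ : Y)) ?_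
      rw [← Units.val_pow_eq_pow_val, ← map_pow, pow_orderOf_eq_one, map_one, Units.val_one]
    rw [this, mul_one]
  -- so `y` is central
  obtain ⟨n, ρ, hρ, hρc⟩ := χ.2
  have hn : (χ : G → ℂ) 1 = (n : ℂ) := by
    rw [← hρc, Representation.char_one, Module.finrank_fin_fun]
  have hnq : n = q := by rw [← hd, charDegree_eq_of_map_one hn]
  subst hnq
  rw [← hρc] at hnorm
  obtain ⟨s, hs⟩ := Chars.Apps.exists_smul_of_norm_char_eq ρ y hnorm
  have hker : charKer (χ : G → ℂ) = ⊥ :=
    HerzogThree.charKer_eq_bot (by rw [hd]; exact hq.one_lt)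
  have hcen : y ∈ center G := mem_center_iff.mpr fun x => by
    have h1 : y * x * y⁻¹ * x⁻¹ ∈ charKer (χ : G → ℂ) := by
      rw [← hρc, Chars.mem_charKer_iff_rep, map_mul, map_mul, map_mul]
      have : ρ y * ρ x = ρ x * ρ y := by rw [hs]; simp
      rw [this, mul_assoc (ρ x), ← map_mul, mul_inv_cancel, map_one, mul_one, ← map_mul,
        mul_inv_cancel, map_one]
    rw [hker, Subgroup.mem_bot] at h1
    calc x * y = y * x * y⁻¹ * x⁻¹ * (x * y) := by rw [h1, one_mul]
      _ = y * x := by group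
  rwa [HerzogThree.center_eq_bot hG, Subgroup.mem_bot] at hcen

/-- The data after the first reductions. -/
structure Core (G : Type u) [Group G] [Fintype G] (M : Ideal AlgInt) where
  /-- the prime -/
  q : ℕ
  /-- the exponent of two in the order -/
  a : ℕ
  /-- the exponent of two in the degree -/
  α : ℕ
  hq : q.Prime
  q5 : 5 ≤ q
  hα : 2 ≤ α
  card : Nat.card G = 9 * 2 ^ a * q
  /-- a Sylow 3-subgroup -/
  R : Sylow 3 G
  hR : Nat.card (R : Subgroup G) = 9
  /-- the omitted subgroup -/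
  K₀ : Subgroup G
  /-- the pair -/
  P : Pair R K₀
  good : GoodPair M P
  deg : (charDegree (P.χp : G → ℂ) = 2 ^ α ∧ charDegree (P.χm : G → ℂ) = q) ∨
    (charDegree (P.χp : G → ℂ) = q ∧ charDegree (P.χm : G → ℂ) = 2 ^ α)
  selfCent : ∀ z y : G, orderOf z = q → Commute y z → y ∈ zpowers z

theorem exists_core [IsSimpleGroup G] {M : Ideal AlgInt} (hM : IsPModular 3 M)
    (hG : ¬ IsMulCommutative G) {q a b : ℕ} (hq : q.Prime) (hq2 : q ≠ 2) (hq3 : q ≠ 3)
    (hcard : Nat.card G = 9 * 2 ^ a * q ^ b)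
    (h3 : 3 ≤ Nat.card {C : ConjClasses G // ∃ g ∈ C.carrier, g ≠ 1 ∧ orderOf g ∣ 9}) :
    ∃ C : Core G M, C.q = q ∧ C.a = a := by
  classical
  haveI : Fact (Nat.Prime 3) := ⟨Nat.prime_three⟩
  haveI : Fact q.Prime := ⟨hq⟩
  have h5 : 5 ≤ q := by
    have := hq.two_le
    have : q ≠ 4 := fun e => absurd (e ▸ hq) (by norm_num)
    omega
  have h3n : ¬ 3 ∣ 2 ^ a * q ^ b := by
    intro h
    rcases Nat.prime_three.dvd_mul.mp h with h | h
    · exact absurd ((Nat.prime_dvd_prime_iff_eq Nat.prime_three Nat.prime_two).mp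
        (Nat.prime_three.dvd_of_dvd_pow h)) (by norm_num)
    · exact hq3 ((Nat.prime_dvd_prime_iff_eq Nat.prime_three hq).mp
        (Nat.prime_three.dvd_of_dvd_pow h)).symm
  obtain ⟨R⟩ : Nonempty (Sylow 3 G) := inferInstance
  have hR : Nat.card (R : Subgroup G) = 9 := by
    rw [SylowToolkit.card_sylow_subgroup_eq (k := 2) (m := 2 ^ a * q ^ b) (by rw [hcard]; ring) h3n R]
    norm_num
  obtain ⟨K, P, hgood⟩ := exists_good (R := R) hM hG hR h3
  obtain ⟨hdp, hdm⟩ := And.intro hgood.1.2 hgood.2.2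
  have h1p := P.one_lt
  have hdeg := P.deg
  have hsupp : ∀ χ : IrrCharacter G, ¬ 3 ∣ charDegree (χ : G → ℂ) →
      HerzogThree.TwoSupp 2 q (charDegree (χ : G → ℂ)) := by
    intro χ hχ t ht htd
    have h := htd.trans (charDegree_dvd_card χ)
    rw [hcard] at h
    rcases (Nat.Prime.dvd_mul ht).mp h with h | h
    · rcases (Nat.Prime.dvd_mul ht).mp h with h | h
      · exfalso
        have : t = 3 := (Nat.prime_dvd_prime_iff_eq ht Nat.prime_three).mp
          (ht.dvd_of_dvd_pow (n := 2) (by norm_num; exact h))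
        exact hχ (this ▸ htd)
      · exact Or.inl ((Nat.prime_dvd_prime_iff_eq ht Nat.prime_two).mp (ht.dvd_of_dvd_pow h))
    · exact Or.inr ((Nat.prime_dvd_prime_iff_eq ht hq).mp (ht.dvd_of_dvd_pow h))
  obtain ⟨r, s, i, j, hr, hs, hrs, hi, hj, hi0, hj0, hcov⟩ := HerzogThree.exists_prime_pows
    (hsupp _ hdp) (hsupp _ hdm) h1p (by omega) (by rw [hdeg]; simp)
  -- which is which
  have h2mem := hcov 2 (Or.inl rfl)
  have hqmem := hcov q (Or.inr rfl)
  obtain ⟨α, j', hpow⟩ : ∃ α j' : ℕ, 0 < j' ∧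
      ((charDegree (P.χp : G → ℂ) = 2 ^ α ∧ charDegree (P.χm : G → ℂ) = q ^ j') ∨
        (charDegree (P.χp : G → ℂ) = q ^ j' ∧ charDegree (P.χm : G → ℂ) = 2 ^ α)) := by
    rcases h2mem with e | e
    · have e' : q = s := hqmem.resolve_left fun e' => hq2 (e'.trans e.symm)
      exact ⟨i, j, hj0, Or.inl ⟨by rw [hi, e], by rw [hj, e']⟩⟩
    · have e' : q = r := hqmem.resolve_right fun e' => hq2 (e'.trans e.symm)
      exact ⟨j, i, hi0, Or.inr ⟨by rw [hi, e'], by rw [hj, e]⟩⟩
  obtain rfl : j' = 1 := by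
    refine exponent_eq_one hq hq2 hq3 hpow.1 ?_ (α := α)
    rcases hpow.2 with ⟨e1, e2⟩ | ⟨e1, e2⟩ <;> rw [e1, e2] at hdeg <;> omega
  simp only [pow_one] at hpow
  obtain ⟨-, hpow⟩ := hpow
  have hα : 2 ≤ α := by
    by_contra hlt
    have : 2 ^ α ≤ 2 ^ 1 := Nat.pow_le_pow_right (by norm_num) (by omega)
    rcases hpow with ⟨e1, e2⟩ | ⟨e1, e2⟩ <;> rw [e1, e2] at hdeg <;> omega
  -- the character of degree `q`
  obtain ⟨χ, hχd, hχr, hχne⟩ : ∃ χ : IrrCharacter G, charDegree (χ : G → ℂ) = q ∧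
      (∀ g, ∃ m : ℤ, (χ : G → ℂ) g = m) ∧ χ ≠ oneChar G := by
    have hne : ∀ χ : IrrCharacter G, charDegree (χ : G → ℂ) = q → χ ≠ oneChar G := fun χ h e => by
      rw [e, charDegree_eq_of_map_one (n := 1) (by simp)] at h
      omega
    rcases hpow with ⟨-, e⟩ | ⟨e, -⟩
    · exact ⟨_, e, P.ratm, hne _ e⟩
    · exact ⟨_, e, P.ratp, hne _ e⟩
  have hb1 : b ≤ 1 := by
    have h := SchurBound.factorization_le hq (isCharacter_coe χ) (n := q)
      (fun g hg => PrimeGram.eq_one_of_value_eq_degree hχne hg)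
      (by rw [← hχd, coe_charDegree]) one_pos (fun h => hq.ne_one (Nat.dvd_one.mp h)) (fun g => by
        obtain ⟨m, hm⟩ := hχr g
        rw [hm]; exact intCast_mem _ m)
    have hqn : ¬ q ∣ 9 * 2 ^ a := by
      intro hd
      rcases hq.dvd_mul.mp hd with hd | hd
      · exact hq3 ((Nat.prime_dvd_prime_iff_eq hq Nat.prime_three).mp
          (hq.dvd_of_dvd_pow (n := 2) (by norm_num; exact hd)))
      · exact hq2 ((Nat.prime_dvd_prime_iff_eq hq Nat.prime_two).mp (hq.dvd_of_dvd_pow hd))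
    rw [hcard, Nat.factorization_mul (by positivity) (pow_ne_zero _ hq.ne_zero), Finsupp.add_apply,
      Nat.factorization_eq_zero_of_not_dvd hqn, hq.factorization_pow, Finsupp.single_eq_same,
      zero_add] at h
    refine h.trans (le_of_eq ?_)
    rw [Finset.sum_eq_single 0]
    · rw [pow_zero, mul_one]
      exact Nat.div_eq_of_lt_le (by omega) (by omega)
    · intro i _ hi
      refine Nat.div_eq_of_lt ?_
      have : q ≤ q ^ i := Nat.le_self_pow hi q
      have : 2 * q ^ i ≤ (q - 1) * q ^ i := Nat.mul_le_mul_right _ (by omega)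
      omega
    · simp
  have hb : b = 1 := by
    by_contra hne
    have hb0 : b = 0 := by omega
    have h := charDegree_dvd_card χ
    rw [hχd, hcard, hb0, pow_zero, mul_one] at h
    rcases hq.dvd_mul.mp h with hd | hd
    · exact hq3 ((Nat.prime_dvd_prime_iff_eq hq Nat.prime_three).mp
        (hq.dvd_of_dvd_pow (n := 2) (by norm_num; exact hd)))
    · exact hq2 ((Nat.prime_dvd_prime_iff_eq hq Nat.prime_two).mp (hq.dvd_of_dvd_pow hd))
  subst hb
  rw [pow_one] at hcard
  have hqn : ¬ q ∣ 9 * 2 ^ a := by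
    intro hd
    rcases hq.dvd_mul.mp hd with hd | hd
    · exact hq3 ((Nat.prime_dvd_prime_iff_eq hq Nat.prime_three).mp
        (hq.dvd_of_dvd_pow (n := 2) (by norm_num; exact hd)))
    · exact hq2 ((Nat.prime_dvd_prime_iff_eq hq Nat.prime_two).mp (hq.dvd_of_dvd_pow hd))
  have hvan : ∀ g : G, q ∣ orderOf g → (χ : G → ℂ) g = 0 := fun g hg =>
    Chars.Brauer.eq_zero_of_defect_zero hq χ (a := 1) (m := 9 * 2 ^ a) (by rw [hcard]; ring) hqn
      (by rw [hχd, pow_one]) hg
  refine ⟨⟨q, a, α, hq, h5, hα, hcard, R, hR, K, P, hgood, hpow, fun z y hz hc => ?_⟩, rfl, rfl⟩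
  -- the centralizer of an element of order `q`
  set C := centralizer ({z} : Set G)
  have hyC : y ∈ C := mem_centralizer_singleton_iff.mpr hc.eq
  have hyq : y ^ q = 1 := by
    refine eq_one_of_commute hG hq hχd hvan hz (hc.pow_left q) ?_
    intro h
    have h2 : q * q ∣ Nat.card G := by
      have h3 : orderOf (y ^ q) * q ∣ orderOf y := by
        have hqy : q ∣ orderOf y := h.trans (orderOf_pow_dvd q)
        rw [orderOf_pow_of_dvd hq.ne_zero hqy, Nat.div_mul_cancel hqy]
      exact ((Nat.mul_dvd_mul_right h q).trans h3).trans (_root_.orderOf_dvd_natCard y)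
    rw [hcard] at h2
    exact hqn (Nat.dvd_of_mul_dvd_mul_right hq.pos h2)
  haveI hnorm : ((zpowers z).subgroupOf C).Normal := ⟨fun x hx w => by
    have hw := mem_centralizer_singleton_iff.mp w.2
    obtain ⟨i, hi⟩ := mem_zpowers_iff.mp (mem_subgroupOf.mp hx)
    refine mem_subgroupOf.mpr (mem_zpowers_iff.mpr ⟨i, ?_⟩)
    push_cast
    rw [← hi, ((show Commute (w : G) z from hw).zpow_right i).eq, mul_inv_cancel_right]⟩
  have hle : zpowers z ≤ C := zpowers_le.mpr (mem_centralizer_singleton_iff.mpr rfl)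
  have hidx : ¬ q ∣ ((zpowers z).subgroupOf C).index := by
    intro h
    have h2 := ((zpowers z).subgroupOf C).card_mul_index
    rw [Nat.card_congr (Subgroup.subgroupOfEquivOfLe hle).toEquiv, Nat.card_zpowers, hz] at h2
    have h3 := (Nat.mul_dvd_mul_left q h).trans ((dvd_of_eq h2).trans C.card_subgroup_dvd_card)
    rw [hcard] at h3
    exact hqn (Nat.dvd_of_mul_dvd_mul_right hq.pos h3)
  have h1 : orderOf (QuotientGroup.mk' ((zpowers z).subgroupOf C) ⟨y, hyC⟩) ∣
      ((zpowers z).subgroupOf C).index := by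
    rw [Subgroup.index_eq_card]; exact _root_.orderOf_dvd_natCard _
  have h2 : orderOf (QuotientGroup.mk' ((zpowers z).subgroupOf C) ⟨y, hyC⟩) ∣ q := by
    refine (orderOf_map_dvd _ _).trans ?_
    rw [Subgroup.orderOf_mk]
    exact orderOf_dvd_of_pow_eq_one hyq
  have h1' := Nat.eq_one_of_dvd_coprimes (hq.coprime_iff_not_dvd.mpr hidx) h2 h1
  exact mem_subgroupOf.mp ((QuotientGroup.eq_one_iff _).mp (orderOf_eq_one_iff.mp h1'))

/-- No element of order `q` centralizes a nontrivial element of order prime to `q`. -/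
theorem Core.not_dvd_centralizer {M : Ideal AlgInt} (C : Core G M) {r : G} (hr : r ≠ 1)
    (hrq : ¬ C.q ∣ orderOf r) : ¬ C.q ∣ Nat.card (centralizer ({r} : Set G)) := by
  haveI : Fact C.q.Prime := ⟨C.hq⟩
  intro h
  obtain ⟨z, hz⟩ := exists_prime_orderOf_dvd_card' (G := centralizer ({r} : Set G)) C.q h
  rw [← Subgroup.orderOf_coe] at hz
  have hmem := C.selfCent (z : G) r hz (mem_centralizer_singleton_iff.mp z.2).symm
  refine hr (orderOf_eq_one_iff.mp ?_)
  have h1 : orderOf r ∣ C.q := by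
    obtain ⟨i, hi⟩ := mem_zpowers_iff.mp hmem
    rw [← hi]
    exact orderOf_dvd_of_pow_eq_one (by
      rw [← zpow_natCast, ← zpow_mul, mul_comm, zpow_mul, zpow_natCast, ← hz,
        pow_orderOf_eq_one, one_zpow])
  exact ((Nat.dvd_prime C.hq).mp h1).resolve_right fun e => hrq (e ▸ dvd_rfl)

/-- A 2-central involution exists. -/
theorem two_le_a {M : Ideal AlgInt} [IsSimpleGroup G] (C : Core G M) : C.α ≤ C.a := by
  have hchi : ∃ χ : IrrCharacter G, charDegree (χ : G → ℂ) = 2 ^ C.α := by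
    rcases C.deg with ⟨e, -⟩ | ⟨-, e⟩ <;> exact ⟨_, e⟩
  obtain ⟨χ, hχ⟩ := hchi
  have h := charDegree_dvd_card χ
  rw [hχ, C.card] at h
  have hq2 : Nat.Coprime (2 ^ C.α) C.q :=
    Nat.Coprime.pow_left _ ((Nat.coprime_primes Nat.prime_two C.hq).mpr (by have := C.q5; omega))
  have h2 : Nat.Coprime (2 ^ C.α) 9 := Nat.Coprime.pow_left _ (by norm_num)
  exact (Nat.pow_dvd_pow_iff_le_right (by norm_num)).mp
    (h2.dvd_of_dvd_mul_left (hq2.dvd_of_dvd_mul_right h))

end CfsgLib.NineTwoQ
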