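import Cfsg.Agent.NineTwoQ.Bound
import Cfsg.Agent.S0497
import Cfsg.Agent.S1011
import Cfsg.Agent.S1020
import Cfsg.Agent.Sieve.Order1092

/-!
# The groups of order `9 * 2 ^ a * q ^ b` with three classes of three-elements
-/

set_option autoImplicit false
set_option linter.style.haveILetI false

namespace CfsgLib.NineTwoQ

open Cfsg Subgroup CfsgLib.Chars CfsgLib.Blocks Equiv

universe u

/-- Conjugacy in the alternating group when an odd permutation centralizes. -/
theorem isConj_alternating {a : alternatingGroup (Fin 6)} {τ : Perm (Fin 6)}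
    (hτ : Perm.sign τ = -1) (hc : τ * (a : Perm (Fin 6)) = (a : Perm (Fin 6)) * τ)
    {g : alternatingGroup (Fin 6)}
    (h : (a : Perm (Fin 6)).cycleType = (g : Perm (Fin 6)).cycleType) : IsConj a g := by
  obtain ⟨σ, hσ⟩ := isConj_iff.mp (Equiv.Perm.isConj_iff_cycleType_eq.mpr h)
  rcases Int.units_eq_one_or (Perm.sign σ) with hs | hs
  · exact isConj_iff.mpr ⟨⟨σ, Equiv.Perm.mem_alternatingGroup.mpr hs⟩, Subtype.ext hσ⟩
  · refine isConj_iff.mpr ⟨⟨σ * τ, Equiv.Perm.mem_alternatingGroup.mpr ?_⟩, Subtype.ext ?_⟩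
    · rw [map_mul, hs, hτ]; rfl
    · show σ * τ * (a : Perm (Fin 6)) * (σ * τ)⁻¹ = (g : Perm (Fin 6))
      rw [mul_assoc σ τ, hc, ← hσ]
      group

/-- Two classes of three-elements in the alternating group of degree six. -/
theorem exists_two_of_alternating : ∃ a b : alternatingGroup (Fin 6),
    ∀ g : alternatingGroup (Fin 6), g ≠ 1 → orderOf g ∣ 9 → IsConj a g ∨ IsConj b g := by
  let a₀ : Perm (Fin 6) := swap 0 1 * swap 1 2
  let b₀ : Perm (Fin 6) := swap 0 1 * swap 1 2 * (swap 3 4 * swap 4 5)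
  refine ⟨⟨a₀, Equiv.Perm.mem_alternatingGroup.mpr (by decide)⟩,
    ⟨b₀, Equiv.Perm.mem_alternatingGroup.mpr (by decide)⟩, fun g hg hg9 => ?_⟩
  have hca : a₀.cycleType = {3} := by decide +kernel
  have hcb : b₀.cycleType = {3, 3} := by decide +kernel
  set σ := (g : Perm (Fin 6)) with hσ
  have hsum : σ.cycleType.sum ≤ 6 := by
    rw [Equiv.Perm.sum_cycleType]
    exact σ.support.card_le_univ.trans (le_of_eq (Fintype.card_fin 6))
  have hall : ∀ m ∈ σ.cycleType, m = 3 := by
    intro m hm
    have h1 : m ∣ 3 ^ 2 := by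
      refine (Equiv.Perm.dvd_of_mem_cycleType hm).trans ?_
      rw [hσ, Subgroup.orderOf_coe]
      exact hg9
    have h2 := Equiv.Perm.two_le_of_mem_cycleType hm
    have h3 : m ≤ 6 := (Multiset.le_sum_of_mem hm).trans hsum
    obtain ⟨k, hk2, rfl⟩ := (Nat.dvd_prime_pow Nat.prime_three).mp h1
    interval_cases k <;> omega
  have hrep := Multiset.eq_replicate_card.mpr hall
  have hcard : Multiset.card σ.cycleType ≤ 2 := by
    rw [hrep, Multiset.sum_replicate, smul_eq_mul] at hsum
    omega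
  have hpos : 0 < Multiset.card σ.cycleType := by
    rw [Nat.pos_iff_ne_zero, Ne, Multiset.card_eq_zero, Equiv.Perm.cycleType_eq_zero]
    exact fun e => hg (Subtype.ext e)
  rcases (by omega : Multiset.card σ.cycleType = 1 ∨ Multiset.card σ.cycleType = 2) with h | h
  · refine Or.inl (isConj_alternating (τ := swap 3 4) (by decide) (by decide) ?_)
    show a₀.cycleType = σ.cycleType
    rw [hca, hrep, h]
    rfl
  · refine Or.inr (isConj_alternating (τ := swap 0 3 * swap 1 4 * swap 2 5) (by decide) (by decide) ?_)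
    show b₀.cycleType = σ.cycleType
    rw [hcb, hrep, h]
    rfl

variable {G : Type u} [Group G] [Finite G]

theorem card_ne_360 [IsSimpleGroup G] (R : Sylow 3 G)
    (h3 : 3 ≤ Nat.card {C : ConjClasses G // ∃ g ∈ C.carrier, g ≠ 1 ∧ orderOf g ∣ 9}) :
    Nat.card G ≠ 360 := by
  intro h
  obtain ⟨e⟩ := Cfsg.Agent.S0497.result h
  obtain ⟨a, b, hab⟩ := exists_two_of_alternating
  obtain ⟨r, hr, hr1, h1, h2⟩ := not_two_classes (R := R) h3 (e.symm a) (e.symm b)
  have h9 : orderOf r ∣ 9 := by
    obtain ⟨k, hk⟩ := R.2 ⟨r, hr⟩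
    have hd : orderOf r ∣ 3 ^ k := orderOf_dvd_of_pow_eq_one (congrArg Subtype.val hk)
    obtain ⟨i, -, hi⟩ := (Nat.dvd_prime_pow Nat.prime_three).mp hd
    have hG : orderOf r ∣ 360 := h ▸ _root_.orderOf_dvd_natCard r
    rw [hi] at hG ⊢
    have : i ≤ 2 := by
      by_contra hlt
      have h27 : 27 ∣ 360 := (show 27 ∣ 3 ^ i from Nat.dvd_trans (by norm_num) (pow_dvd_pow 3 (show 3 ≤ i by omega))).trans hG
      norm_num at h27
    exact pow_dvd_pow 3 this
  rcases hab (e r) (fun h0 => hr1 (e.injective (by rw [h0, map_one])))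
    (by rw [MulEquiv.orderOf_eq]; exact h9) with hc | hc
  · refine h1 ?_
    have := MonoidHom.map_isConj e.symm.toMonoidHom hc.symm
    simpa using this
  · refine h2 ?_
    have := MonoidHom.map_isConj e.symm.toMonoidHom hc.symm
    simpa using this

theorem seventeen_exponents : ∀ x : Fin 10, 9 * 2 ^ (x : ℕ) % 17 = 1 → (x : ℕ) = 1 ∨ (x : ℕ) = 9 := by
  decide

theorem order_cases_five : ∀ a < 4, 2 ≤ a → 9 * 2 ^ a * 5 = 180 ∨ 9 * 2 ^ a * 5 = 360 := by decide

theorem order_cases_seven : ∀ a < 5, 3 ≤ a → 9 * 2 ^ a * 7 = 504 ∨ 9 * 2 ^ a * 7 = 1008 := by decide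

/-- The exponent for `q = 17`. -/
theorem Core.a_eq_four [Fintype G] [IsSimpleGroup G] {M : Ideal AlgInt} (C : Core G M)
    (hG : ¬ IsMulCommutative G) (hq : C.q = 17) (h4 : 4 ≤ C.a) (h9 : C.a ≤ 9) : C.a = 4 := by
  classical
  haveI : Fact C.q.Prime := ⟨C.hq⟩
  obtain ⟨Q⟩ : Nonempty (Sylow C.q G) := inferInstance
  obtain ⟨hQ, hcent, -, hne, hdvd, hmod, -⟩ := C.exists_normalizer hG Q
  replace hdvd : Nat.card (AbelianFrobenius.autP Q) ∣ 2 ^ 4 := hdvd.trans (by rw [hq]; norm_num)
  obtain ⟨k, hk4, hk⟩ := (Nat.dvd_prime_pow Nat.prime_two).mp hdvd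
  rw [hk] at hne
  obtain ⟨x, hx9, hx⟩ : ∃ x, x ≤ 9 ∧ Nat.card (Sylow C.q G) = 9 * 2 ^ x := by
    have h1 : 9 ∣ Nat.card (Sylow C.q G) :=
      (Nat.Coprime.pow_right k (by norm_num : Nat.Coprime 9 2)).dvd_of_dvd_mul_right
        (hne ▸ dvd_mul_right 9 _)
    obtain ⟨m, hm⟩ := h1
    rw [hm, mul_assoc] at hne
    obtain ⟨x, hxa, rfl⟩ := (Nat.dvd_prime_pow Nat.prime_two).mp
      (Dvd.intro _ (Nat.eq_of_mul_eq_mul_left (by norm_num) hne))
    exact ⟨x, by omega, hm⟩
  rw [hx] at hne hmod
  have hxk : x + k = C.a := by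
    rw [mul_assoc, ← pow_add] at hne
    exact Nat.pow_right_injective le_rfl (Nat.eq_of_mul_eq_mul_left (by norm_num) hne)
  rw [hq] at hmod
  rcases seventeen_exponents ⟨x, by omega⟩ hmod with h | h <;> simp only at h <;> subst h
  · -- eighteen Sylow subgroups
    by_contra hne4
    have hk16 : k = 4 := by omega
    subst hk16
    haveI : IsCyclic (Q : Subgroup G) := isCyclic_of_prime_card hQ
    haveI : IsCyclic (MulAut (Q : Subgroup G)) := by
      haveI : Fact (Nat.Prime (Nat.card (Q : Subgroup G))) := ⟨by rw [hQ]; exact C.hq⟩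
      exact isCyclic_of_surjective (IsCyclic.mulAutMulEquiv (Q : Subgroup G)).symm.toMonoidHom
        (IsCyclic.mulAutMulEquiv (Q : Subgroup G)).symm.surjective
    obtain ⟨γ, hγ⟩ := IsCyclic.exists_generator (α := AbelianFrobenius.autP Q)
    have hγo : orderOf γ = 16 := by rw [orderOf_eq_card_of_forall_mem_zpowers hγ, hk]; norm_num
    obtain ⟨n, hn⟩ := γ.2
    have hdn : 16 ∣ orderOf (n : G) := by
      rw [← hγo, ← Subgroup.orderOf_coe γ, ← hn, Subgroup.orderOf_coe]
      exact orderOf_map_dvd _ n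
    have hNcard : Nat.card (normalizer ((Q : Subgroup G) : Set G)) = 17 * 16 := by
      have h := SylowToolkit.card_normalizer_mul Q
      have hG17 : Nat.card G = 9 * 2 ^ (1 + 4) * 17 := by rw [C.card, hq, ← hxk]
      rw [hx, hG17] at h
      norm_num at h ⊢
      omega
    have hno : orderOf (n : G) = 16 := by
      have h := hdn
      have h2 : orderOf (n : G) ∣ 17 * 16 := by
        rw [Subgroup.orderOf_coe, ← hNcard]; exact _root_.orderOf_dvd_natCard n
      obtain ⟨t, ht⟩ := h
      rw [ht, mul_comm 17] at h2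
      rcases (Nat.dvd_prime (by norm_num : Nat.Prime 17)).mp
        (Nat.dvd_of_mul_dvd_mul_left (by norm_num) h2) with e1 | e1
      · rw [ht, e1]
      · exfalso
        rw [e1] at ht
        have hz : orderOf ((n : G) ^ 16) = C.q := by
          rw [orderOf_pow_of_dvd (by norm_num) (Dvd.intro _ ht.symm), ht, hq]
        have hmem := C.selfCent _ (n : G) hz (Commute.self_pow _ _)
        have := Subgroup.orderOf_dvd_natCard _ hmem
        rw [Nat.card_zpowers, hz, ht] at this
        have := Nat.le_of_dvd C.hq.pos this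
        omega
    haveI := Fintype.ofFinite (Sylow C.q G)
    haveI : Fact (Nat.Prime 2) := ⟨Nat.prime_two⟩
    have hP2 : IsPGroup 2 (zpowers (n : G)) :=
      IsPGroup.of_card (n := 4) (by rw [Nat.card_zpowers, hno]; norm_num)
    have hmodfix := hP2.card_modEq_card_fixedPoints (Sylow C.q G)
    rw [hx] at hmodfix
    have hfixQ : Q ∈ MulAction.fixedPoints (zpowers (n : G)) (Sylow C.q G) := fun g => by
      show (g : G) • Q = Q
      exact Sylow.smul_eq_iff_mem_normalizer.mpr ((zpowers_le.mpr n.2) g.2)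
    haveI : Nonempty (MulAction.fixedPoints (zpowers (n : G)) (Sylow C.q G)) := ⟨⟨Q, hfixQ⟩⟩
    have h2fix : 2 ≤ Nat.card (MulAction.fixedPoints (zpowers (n : G)) (Sylow C.q G)) := by
      have hpos := Nat.card_pos (α := MulAction.fixedPoints (zpowers (n : G)) (Sylow C.q G))
      unfold Nat.ModEq at hmodfix
      omega
    set f := MulAction.toPermHom G (Sylow C.q G) with hf
    have hcq : C.q ∣ Nat.card G := by rw [C.card]; exact dvd_mul_left _ _
    have hinj : Function.Injective f := SylowToolkit.toPermHom_sylow_injective hG hcq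
    have hσo : orderOf (f (n : G)) = 16 := by rw [orderOf_injective f hinj, hno]
    set σ := f (n : G) with hσ
    have hsupp : σ.support.card ≤ 16 := by
      haveI := Finite.one_lt_card_iff_nontrivial.mp h2fix
      obtain ⟨⟨P₂, hP₂⟩, hne2⟩ := exists_ne (⟨Q, hfixQ⟩ :
        MulAction.fixedPoints (zpowers (n : G)) (Sylow C.q G))
      have hsub : σ.support ⊆ (Finset.univ.erase Q).erase P₂ := by
        intro P hP
        have hnf : P ∉ MulAction.fixedPoints (zpowers (n : G)) (Sylow C.q G) := fun h =>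
          Equiv.Perm.mem_support.mp hP (h ⟨n, mem_zpowers _⟩)
        rw [Finset.mem_erase, Finset.mem_erase]
        exact ⟨fun e => hnf (e ▸ hP₂), fun e => hnf (e ▸ hfixQ), Finset.mem_univ _⟩
      refine (Finset.card_le_card hsub).trans ?_
      rw [Finset.card_erase_of_mem (Finset.mem_erase.mpr ⟨fun e => hne2 (Subtype.ext e), Finset.mem_univ _⟩),
        Finset.card_erase_of_mem (Finset.mem_univ _), Finset.card_univ, ← Nat.card_eq_fintype_card, hx]
      norm_num
    have hone : σ.cycleType = {16} := by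
      have hmem : 16 ∈ σ.cycleType := by
        by_contra hno16
        have h8 : σ.cycleType.lcm ∣ 8 := Multiset.lcm_dvd.mpr fun m hm => by
          have hd := Equiv.Perm.dvd_of_mem_cycleType hm
          rw [hσo] at hd
          obtain ⟨i, hi, rfl⟩ := (Nat.dvd_prime_pow Nat.prime_two).mp (show m ∣ 2 ^ 4 from hd)
          have : i ≠ 4 := fun e => hno16 (by rw [e] at hm; exact hm)
          exact Nat.dvd_trans (pow_dvd_pow 2 (show i ≤ 3 by omega)) (by norm_num)
        rw [Equiv.Perm.lcm_cycleType, hσo] at h8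
        norm_num at h8
      obtain ⟨t, ht⟩ := Multiset.exists_cons_of_mem hmem
      have hs := Equiv.Perm.sum_cycleType σ
      rw [ht, Multiset.sum_cons] at hs
      have ht0 : t = 0 := by
        refine Multiset.eq_zero_of_forall_notMem fun m hm => ?_
        have h1 := Multiset.le_sum_of_mem hm
        have h2 := Equiv.Perm.two_le_of_mem_cycleType (show m ∈ σ.cycleType by rw [ht]; simp [hm])
        omega
      rw [ht, ht0]; rfl
    have hsign := SylowToolkit.sign_eq_one hG f (n : G)
    rw [← hσ, Equiv.Perm.sign_of_cycleType, hone] at hsign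
    simp at hsign
    exact absurd hsign (by decide)
  · -- the Sylow subgroup would be central in its normalizer
    exfalso
    have hk0 : k = 0 := by omega
    subst hk0
    rw [pow_zero, AbelianFrobenius.card_autP, Subgroup.relIndex_eq_one] at hk
    haveI : Nontrivial (Q : Subgroup G) := Finite.one_lt_card_iff_nontrivial.mp (by rw [hQ]; exact C.hq.one_lt)
    haveI : IsMulCommutative (Q : Subgroup G) := by
      haveI : IsCyclic (Q : Subgroup G) := isCyclic_of_prime_card hQ
      exact ⟨⟨fun a b => IsCyclic.commGroup.mul_comm a b⟩⟩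
    obtain ⟨⟨y, hy⟩, hy1⟩ := exists_ne (1 : (Q : Subgroup G))
    exact hy1 (Subtype.ext (PSLSmall.eq_one_of_central_normalizer hG Q hy fun m hm =>
      (mem_centralizer_iff.mp (hk hm) y hy).symm))

/-- The classification. -/
theorem classification [IsSimpleGroup G] (hG : ¬ IsMulCommutative G) {q a b : ℕ} (hq : q.Prime)
    (hq2 : q ≠ 2) (hq3 : q ≠ 3) (hcard : Nat.card G = 9 * 2 ^ a * q ^ b)
    (h3 : 3 ≤ Nat.card {C : ConjClasses G // ∃ g ∈ C.carrier, g ≠ 1 ∧ orderOf g ∣ 9}) :
    (∃ (F : Type) (_ : Field F) (_ : Fintype F), Fintype.card F = 8 ∧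
        Nonempty (G ≃* Matrix.ProjectiveSpecialLinearGroup (Fin 2) F)) ∨
      Nonempty (G ≃* Matrix.ProjectiveSpecialLinearGroup (Fin 2) (ZMod 17)) := by
  classical
  haveI := Fintype.ofFinite G
  obtain ⟨M, hM⟩ := exists_isPModular 3 Nat.prime_three
  obtain ⟨C, -, -⟩ := exists_core hM hG hq hq2 hq3 hcard h3
  have hlow := two_le_a C
  rcases C.cases hG with ⟨h, hα, hd⟩ | ⟨h, hα, hd⟩ | ⟨h, hα, hd⟩
  · have ha := C.a_le hG (γ := 1) fun r hr hr1 =>
      C.card_centralizer_le hM hG (Or.inl (by omega)) (by rw [if_pos (by omega)]) hr hr1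
    rw [hα] at ha hlow
    have hG5 := C.card
    rw [h] at hG5
    exfalso
    rcases order_cases_five C.a (by omega) hlow with e | e <;> rw [e] at hG5
    · have := Sieve.Order1092.order_cases hG (by omega)
      omega
    · exact card_ne_360 C.R h3 hG5
  · have ha := C.a_le hG (γ := 1) fun r hr hr1 =>
      C.card_centralizer_le hM hG (Or.inl (by omega)) (by rw [if_pos (by omega)]) hr hr1
    rw [hα] at ha hlow
    have hG7 := C.card
    rw [h] at hG7
    rcases order_cases_seven C.a (by omega) hlow with e | e <;> rw [e] at hG7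
    · haveI : Fact (Nat.Prime 2) := ⟨Nat.prime_two⟩
      letI : Fintype (GaloisField 2 3) := Fintype.ofFinite _
      have hF : Fintype.card (GaloisField 2 3) = 8 := by
        rw [← Nat.card_eq_fintype_card, GaloisField.card 2 3 (by norm_num)]; norm_num
      exact Or.inl ⟨GaloisField 2 3, inferInstance, inferInstance, hF,
        Cfsg.Agent.S1011.result hG7 hF⟩
    · exact (Sieve.Order1092.not_1008 hG hG7).elim
  · have ha := C.a_le hG (γ := 5) fun r hr hr1 =>
      C.card_centralizer_le hM hG (Or.inr hd) (by rw [if_neg (by omega)]) hr hr1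
    rw [hα] at ha hlow
    have h4 := C.a_eq_four hG h hlow ha
    haveI : Fact (Nat.Prime 17) := ⟨by norm_num⟩
    have hG17 := C.card
    rw [h, h4] at hG17
    exact Or.inr (Cfsg.Agent.S1020.result (by rw [hG17]; norm_num) (ZMod.card 17))

end CfsgLib.NineTwoQ
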