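import Cfsg.Agent.PSLSmall.Five04
import Cfsg.Agent.TIThree.Basis
import Cfsg.Agent.Blocks.AbelianFrobenius.Principal

/-!
# Fusion in a Sylow 3-subgroup of order nine with at least three classes

The automizer is either `{1, -1}`, or the group of all sign changes with respect to two axes.
-/

set_option autoImplicit false
set_option linter.style.haveILetI false

namespace CfsgLib.NineTwoQ

open Subgroup CfsgLib.TIThree

universe u

variable {G : Type u} [Group G] [Finite G]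

/-- Only the centralizer of `R` in its normalizer fixes `r`. -/
def Free (R : Sylow 3 G) (r : G) : Prop :=
  ∀ n ∈ normalizer ((R : Subgroup G) : Set G), n * r * n⁻¹ = r →
    ∀ t ∈ (R : Subgroup G), n * t * n⁻¹ = t

/-- A subgroup of order three of `R` stable under the normalizer of `R`. -/
structure AxisSub (R : Sylow 3 G) (K : Subgroup G) : Prop where
  le : K ≤ (R : Subgroup G)
  card : Nat.card K = 3
  stable : ∀ n ∈ normalizer ((R : Subgroup G) : Set G), ∀ x ∈ K, n * x * n⁻¹ ∈ K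

omit [Finite G] in
theorem conj_mem_sylow {R : Sylow 3 G} {n : G} (hn : n ∈ normalizer ((R : Subgroup G) : Set G))
    {t : G} (ht : t ∈ (R : Subgroup G)) : n * t * n⁻¹ ∈ (R : Subgroup G) :=
  (mem_normalizer_iff.mp hn t).mp ht

theorem comm_of_card_nine {R : Sylow 3 G} (hR : Nat.card (R : Subgroup G) = 9) :
    ∀ s ∈ (R : Subgroup G), ∀ t ∈ (R : Subgroup G), s * t = t * s := fun s hs t ht => by
  haveI : Fact (Nat.Prime 3) := ⟨Nat.prime_three⟩
  exact congrArg Subtype.val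
    ((IsPGroup.isMulCommutative_of_card_eq_prime_sq (p := 3) (hR.trans (by norm_num))).is_comm.comm
      (⟨s, hs⟩ : (R : Subgroup G)) ⟨t, ht⟩)

/-- The automizer has order prime to three. -/
theorem exists_exponent {R : Sylow 3 G} (hR : Nat.card (R : Subgroup G) = 9)
    {n : G} (hn : n ∈ normalizer ((R : Subgroup G) : Set G)) :
    ∃ m : ℕ, ¬ 3 ∣ m ∧ ∀ t ∈ (R : Subgroup G), n ^ m * t * (n ^ m)⁻¹ = t := by
  haveI : Fact (Nat.Prime 3) := ⟨Nat.prime_three⟩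
  refine ⟨Nat.card (Blocks.AbelianFrobenius.autP R), ?_, fun t ht => ?_⟩
  · rw [Blocks.AbelianFrobenius.card_autP]
    intro h
    refine R.not_dvd_index (h.trans ?_)
    have hle : (R : Subgroup G) ≤ centralizer ((R : Subgroup G) : Set G) := fun s hs =>
      mem_centralizer_iff.mpr fun x hx => comm_of_card_nine hR x hx s hs
    exact (Subgroup.relIndex_dvd_of_le_left _ hle).trans
      (relIndex_dvd_index_of_le le_normalizer)
  · set f := ((R : Subgroup G).normalizerMonoidHom).rangeRestrict ⟨n, hn⟩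
    have h : f ^ Nat.card (Blocks.AbelianFrobenius.autP R) = 1 := pow_card_eq_one'
    rw [← map_pow] at h
    have h2 := congrArg (fun a : MulAut (R : Subgroup G) => ((a ⟨t, ht⟩ : (R : Subgroup G)) : G))
      (congrArg Subtype.val h)
    simp only [MonoidHom.coe_rangeRestrict, Blocks.AbelianFrobenius.normalizerMonoidHom_coe,
      OneMemClass.coe_one, MulAut.one_apply] at h2
    simpa using h2

/-- Conjugate elements of `R` are conjugate under the normalizer. -/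
theorem exists_normalizer_conj {R : Sylow 3 G} (hR : Nat.card (R : Subgroup G) = 9) {s t : G}
    (hs : s ∈ (R : Subgroup G)) (ht : t ∈ (R : Subgroup G)) (h : IsConj s t) :
    ∃ n ∈ normalizer ((R : Subgroup G) : Set G), n * s * n⁻¹ = t := by
  haveI : Fact (Nat.Prime 3) := ⟨Nat.prime_three⟩
  haveI : IsMulCommutative (R : Subgroup G) :=
    ⟨⟨fun a b => Subtype.ext (comm_of_card_nine hR _ a.2 _ b.2)⟩⟩
  obtain ⟨g, hg⟩ := isConj_iff.mp h
  obtain ⟨n, hn, he⟩ := R.conj_eq_normalizer_conj_of_mem s g⁻¹ hs (by rw [inv_inv, hg]; exact ht)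
  rw [inv_inv, hg] at he
  exact ⟨n⁻¹, inv_mem hn, by rw [inv_inv]; exact he.symm⟩

/-- Every nonidentity element of `R` is moved by the normalizer. -/
theorem exists_moved [IsSimpleGroup G] (hG : ¬ IsMulCommutative G) {R : Sylow 3 G}
    (hR : Nat.card (R : Subgroup G) = 9) {r : G} (hr : r ∈ (R : Subgroup G)) (hr1 : r ≠ 1) :
    ∃ n ∈ normalizer ((R : Subgroup G) : Set G), n * r * n⁻¹ ≠ r := by
  haveI : Fact (Nat.Prime 3) := ⟨Nat.prime_three⟩
  haveI : IsMulCommutative (R : Subgroup G) :=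
    ⟨⟨fun a b => Subtype.ext (comm_of_card_nine hR _ a.2 _ b.2)⟩⟩
  by_contra h
  push Not at h
  exact hr1 (PSLSmall.eq_one_of_central_normalizer hG R hr fun n hn =>
    mul_inv_eq_iff_eq_mul.mp (h n hn))

/-- Three classes of elements of order `3` or `9` are not covered by two elements. -/
theorem not_two_classes {R : Sylow 3 G}
    (h3 : 3 ≤ Nat.card {C : ConjClasses G // ∃ g ∈ C.carrier, g ≠ 1 ∧ orderOf g ∣ 9}) (r₁ r₂ : G) :
    ∃ r ∈ (R : Subgroup G), r ≠ 1 ∧ ¬ IsConj r r₁ ∧ ¬ IsConj r r₂ := by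
  classical
  haveI : Fact (Nat.Prime 3) := ⟨Nat.prime_three⟩
  by_contra hcon
  push Not at hcon
  have hsub : {C : ConjClasses G | ∃ g ∈ C.carrier, g ≠ 1 ∧ orderOf g ∣ 9} ⊆
      {ConjClasses.mk r₁, ConjClasses.mk r₂} := by
    rintro C ⟨g, hgC, hg1, hg9⟩
    obtain ⟨k, -, hk⟩ := (Nat.dvd_prime_pow Nat.prime_three).mp (show orderOf g ∣ 3 ^ 2 from hg9)
    obtain ⟨P, hP⟩ := (IsPGroup.of_card (n := k) (by rw [Nat.card_zpowers, hk]) :
      IsPGroup 3 (zpowers g)).exists_le_sylow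
    obtain ⟨x, hx⟩ := MulAction.exists_smul_eq G P R
    have hmem : x * g * x⁻¹ ∈ (R : Subgroup G) := by
      rw [← hx, Sylow.smul_def]
      exact ⟨g, hP (mem_zpowers g), rfl⟩
    have hC : C = ConjClasses.mk (x * g * x⁻¹) :=
      (ConjClasses.mem_carrier_iff_mk_eq.mp hgC).symm.trans
        (ConjClasses.mk_eq_mk_iff_isConj.mpr (isConj_iff.mpr ⟨x, rfl⟩))
    by_cases hc : IsConj (x * g * x⁻¹) r₁
    · exact Or.inl (hC.trans (ConjClasses.mk_eq_mk_iff_isConj.mpr hc))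
    · exact Or.inr (hC.trans (ConjClasses.mk_eq_mk_iff_isConj.mpr
        (hcon _ hmem (fun e => hg1 (conj_eq_one_iff.mp e)) hc)))
  have h2 := Set.ncard_le_ncard hsub (Set.toFinite _)
  have h4 := Set.ncard_insert_le (ConjClasses.mk r₁) {ConjClasses.mk r₂}
  rw [Set.ncard_singleton] at h4
  rw [← Nat.card_coe_set_eq] at h2
  change Nat.card {C : ConjClasses G // ∃ g ∈ C.carrier, g ≠ 1 ∧ orderOf g ∣ 9} ≤ _ at h2
  omega

/-! ### Linear maps of the plane over three elements -/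

/-- The linear map with the given images of the standard basis. -/
def lmap (u v w : Fin 3 × Fin 3) : Fin 3 × Fin 3 :=
  (w.1 * u.1 + w.2 * v.1, w.1 * u.2 + w.2 * v.2)

theorem lmap_eq : ∀ u v w : Fin 3 × Fin 3, lmap u v w = (w.1 : ℕ) • u + (w.2 : ℕ) • v := by
  decide +kernel

set_option maxHeartbeats 4000000 in
theorem iterate_fortyeight : ∀ u v : Fin 3 × Fin 3, (∀ w, lmap u v w = 0 → w = 0) →
    ∀ w, (lmap u v)^[48] w = w := by decide +kernel

set_option maxHeartbeats 4000000 in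
theorem exists_two_orbits : ∀ u v : Fin 3 × Fin 3, (∀ w, (lmap u v)^[16] w = w) →
    (∃ w, (lmap u v)^[2] w ≠ w) → ∃ c : Fin 3 × Fin 3, c ≠ 0 ∧ ∀ w : Fin 3 × Fin 3, w ≠ 0 →
      ∃ i : Fin 8, (lmap u v)^[(i : ℕ)] (1, 0) = w ∨ (lmap u v)^[(i : ℕ)] c = w := by
  decide +kernel

theorem sign_of_fixed : ∀ e₁ e₂ : Fin 3, ∀ v : Fin 3 × Fin 3, v.1 ≠ 0 → v.2 ≠ 0 →
    lmap (e₁, 0) (0, e₂) v = v → e₁ = 1 ∧ e₂ = 1 := by decide +kernel

theorem sign_transitive : ∀ e : Fin 3, e ≠ 0 → ∀ v w : Fin 3 × Fin 3, v.1 ≠ 0 → v.2 ≠ 0 →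
    w.1 ≠ 0 → w.2 ≠ 0 → w = v ∨ w = lmap (1, 0) (0, 2) v ∨ w = lmap (2, 0) (0, e) v ∨
      w = lmap (1, 0) (0, 2) (lmap (2, 0) (0, e) v) := by decide +kernel

theorem pow_mod_nine : ∀ k : Fin 9, (k : ℕ) ^ 2 % 9 = 1 → (k : ℕ) = 1 ∨ (k : ℕ) = 8 := by
  decide +kernel

theorem pow_six_mod_nine : ∀ k : Fin 9, (k : ℕ) % 3 ≠ 0 → (k : ℕ) ^ 6 % 9 = 1 := by
  decide +kernel

variable {R : Sylow 3 G}

theorem pt_nsmul (B : Basis9 (R : Subgroup G)) (k : ℕ) (u : Fin 3 × Fin 3) :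
    B.pt (k • u) = B.pt u ^ k := by
  induction k with
  | zero => rw [zero_smul, pow_zero, B.pt_zero]
  | succ k ih => rw [succ_nsmul, B.pt_add, ih, pow_succ]

/-- Conjugation in coordinates. -/
theorem conj_pt (B : Basis9 (R : Subgroup G)) {n : G} {u v : Fin 3 × Fin 3}
    (ha : n * B.a * n⁻¹ = B.pt u) (hb : n * B.b * n⁻¹ = B.pt v) (w : Fin 3 × Fin 3) :
    n * B.pt w * n⁻¹ = B.pt (lmap u v w) := by
  rw [lmap_eq, B.pt_add, pt_nsmul, pt_nsmul, ← ha, ← hb, conj_pow, conj_pow, Basis9.pt]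
  group

theorem conj_pt_iterate (B : Basis9 (R : Subgroup G)) {n : G} {u v : Fin 3 × Fin 3}
    (ha : n * B.a * n⁻¹ = B.pt u) (hb : n * B.b * n⁻¹ = B.pt v) (i : ℕ) (w : Fin 3 × Fin 3) :
    n ^ i * B.pt w * (n ^ i)⁻¹ = B.pt ((lmap u v)^[i] w) := by
  induction i with
  | zero => simp
  | succ i ih =>
    rw [Function.iterate_succ_apply', ← conj_pt B ha hb, ← ih, pow_succ']
    group

theorem exists_basis (hR : Nat.card (R : Subgroup G) = 9)
    (hexp : ∀ t ∈ (R : Subgroup G), t ^ 3 = 1) : Nonempty (Basis9 (R : Subgroup G)) := by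
  haveI : Fact (Nat.Prime 3) := ⟨Nat.prime_three⟩
  haveI : Nontrivial (R : Subgroup G) := Finite.one_lt_card_iff_nontrivial.mp (by omega)
  obtain ⟨⟨a, ha⟩, ha1⟩ := exists_ne (1 : (R : Subgroup G))
  have ha1' : a ≠ 1 := fun e => ha1 (Subtype.ext e)
  obtain ⟨b, hb, hb1⟩ : ∃ b ∈ (R : Subgroup G), b ∉ zpowers a := by
    by_contra hcon
    push Not at hcon
    have hle := Subgroup.card_le_of_le (show (R : Subgroup G) ≤ zpowers a from hcon)
    rw [hR, Nat.card_zpowers, orderOf_eq_prime (hexp a ha) ha1'] at hle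
    omega
  exact ⟨⟨a, b, ha, hb, ha1', hb1, hR, hexp, comm_of_card_nine hR⟩⟩

/-- The squares of the automizer are trivial. -/
theorem sq_trivial (hR : Nat.card (R : Subgroup G) = 9)
    (h3 : 3 ≤ Nat.card {C : ConjClasses G // ∃ g ∈ C.carrier, g ≠ 1 ∧ orderOf g ∣ 9})
    (hexp : ∀ t ∈ (R : Subgroup G), t ^ 3 = 1) {n : G}
    (hn : n ∈ normalizer ((R : Subgroup G) : Set G)) :
    ∀ t ∈ (R : Subgroup G), n * (n * t * n⁻¹) * n⁻¹ = t := by
  obtain ⟨B⟩ := exists_basis hR hexp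
  obtain ⟨u, hu⟩ := B.exists_pt (conj_mem_sylow hn B.ha)
  obtain ⟨v, hv⟩ := B.exists_pt (conj_mem_sylow hn B.hb)
  have hit := conj_pt_iterate B hu.symm hv.symm
  obtain ⟨m, hm, hfix⟩ := exists_exponent hR hn
  have hinj : ∀ w, lmap u v w = 0 → w = 0 := by
    intro w hw
    have h := conj_pt B hu.symm hv.symm w
    rw [hw, B.pt_zero, conj_eq_one_iff, ← B.pt_zero] at h
    exact B.pt_injective h
  have hper : ∀ w, (lmap u v)^[16] w = w := by
    intro w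
    have h1 : Function.IsPeriodicPt (lmap u v) 48 w := iterate_fortyeight u v hinj w
    have h2 : Function.IsPeriodicPt (lmap u v) m w :=
      B.pt_injective (by rw [← hit, hfix _ (B.pt_mem w)])
    have h3' := h1.gcd h2
    refine h3'.trans_dvd ?_
    have hcop : (Nat.gcd 48 m).Coprime 3 :=
      (Nat.Coprime.coprime_dvd_left (Nat.gcd_dvd_right 48 m)
        ((Nat.prime_three.coprime_iff_not_dvd.mpr hm).symm))
    exact hcop.dvd_of_dvd_mul_right (show Nat.gcd 48 m ∣ 16 * 3 from Nat.gcd_dvd_left 48 m)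
  by_cases hsq : ∀ w, (lmap u v)^[2] w = w
  · intro t ht
    obtain ⟨w, rfl⟩ := B.exists_pt ht
    have := hit 2 w
    rw [hsq, pow_two] at this
    refine Eq.trans ?_ this
    group
  push Not at hsq
  obtain ⟨c, -, hc⟩ := exists_two_orbits u v hper hsq
  obtain ⟨r, hr, hr1, hn1, hn2⟩ := not_two_classes (R := R) h3 B.a (B.pt c)
  obtain ⟨w, rfl⟩ := B.exists_pt hr
  obtain ⟨i, hi⟩ := hc w (fun e => hr1 (by rw [e, B.pt_zero]))
  exfalso
  rcases hi with hi | hi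
  · exact hn1 (isConj_iff.mpr ⟨n ^ (i : ℕ), by rw [← B.pt_a, hit, hi]⟩).symm
  · exact hn2 (isConj_iff.mpr ⟨n ^ (i : ℕ), by rw [hit, hi]⟩).symm

omit [Finite G] in
theorem eq_inv_or_eq (h9 : ∀ t ∈ (R : Subgroup G), t ^ 9 = 1) {g : G} (hg : g ∈ (R : Subgroup G))
    {k : ℕ} (hk : k ^ 2 % 9 = 1) (hk9 : k < 9) : g ^ k = g ∨ g ^ k = g⁻¹ := by
  rcases pow_mod_nine ⟨k, hk9⟩ hk with h | h <;> simp only at h <;> subst h
  · exact Or.inl (pow_one g)
  · refine Or.inr (eq_inv_of_mul_eq_one_left ?_)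
    rw [← pow_succ]
    exact h9 g hg

/-- A cyclic `R` is only inverted. -/
theorem pm_of_cyclic (hR : Nat.card (R : Subgroup G) = 9) {g : G} (hg : g ∈ (R : Subgroup G))
    (hg9 : orderOf g = 9) {n : G} (hn : n ∈ normalizer ((R : Subgroup G) : Set G)) :
    (∀ t ∈ (R : Subgroup G), n * t * n⁻¹ = t) ∨ ∀ t ∈ (R : Subgroup G), n * t * n⁻¹ = t⁻¹ := by
  have hz : zpowers g = (R : Subgroup G) :=
    eq_of_le_of_card_ge (zpowers_le.mpr hg) (by rw [Nat.card_zpowers, hg9, hR])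
  obtain ⟨k, hk⟩ : ∃ k : ℕ, g ^ k = n * g * n⁻¹ :=
    mem_powers_iff_mem_zpowers.mpr (hz ▸ conj_mem_sylow hn hg)
  rw [← pow_mod_orderOf, hg9] at hk
  have hk9 : k % 9 < 9 := Nat.mod_lt _ (by norm_num)
  set j := k % 9 with hj
  clear_value j
  have hit : ∀ i : ℕ, n ^ i * g * (n ^ i)⁻¹ = g ^ j ^ i := by
    intro i
    induction i with
    | zero => simp
    | succ i ih =>
      rw [pow_succ' n, pow_succ' j, pow_mul, hk, conj_pow, ← ih]
      group
  obtain ⟨m, hm, hfix⟩ := exists_exponent hR hn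
  have hjm : j ^ m % 9 = 1 := by
    have h := (hit m).symm.trans (hfix g hg)
    nth_rewrite 2 [← pow_one g] at h
    have := pow_eq_pow_iff_modEq.mp h
    rw [hg9] at this
    exact this
  have hj3 : j % 3 ≠ 0 := by
    intro h0
    have h1 : 3 ∣ j ^ m := dvd_pow (Nat.dvd_of_mod_eq_zero h0) (fun e => hm (e ▸ dvd_zero 3))
    omega
  have hj2 : j ^ 2 % 9 = 1 := by
    have h6 : j ^ 6 % 9 = 1 := pow_six_mod_nine ⟨j, hk9⟩ hj3
    have hco : Nat.Coprime 3 m := Nat.prime_three.coprime_iff_not_dvd.mpr hm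
    have e6 : (j : ZMod 9) ^ 6 = 1 := by
      have : ((j ^ 6 : ℕ) : ZMod 9) = ((1 : ℕ) : ZMod 9) :=
        (ZMod.natCast_eq_natCast_iff' _ _ _).mpr h6
      simpa using this
    have em : (j : ZMod 9) ^ m = 1 := by
      have : ((j ^ m : ℕ) : ZMod 9) = ((1 : ℕ) : ZMod 9) :=
        (ZMod.natCast_eq_natCast_iff' _ _ _).mpr hjm
      simpa using this
    have hg2 : Nat.gcd 6 m ∣ 2 := by
      have : (Nat.gcd 6 m).Coprime 3 :=
        Nat.Coprime.coprime_dvd_left (Nat.gcd_dvd_right 6 m) hco.symm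
      exact this.dvd_of_dvd_mul_right (show Nat.gcd 6 m ∣ 2 * 3 from Nat.gcd_dvd_left 6 m)
    obtain ⟨c, hc⟩ := hg2
    have e2 : (j : ZMod 9) ^ 2 = 1 := by
      rw [hc, pow_mul, pow_gcd_eq_one.mpr ⟨e6, em⟩, one_pow]
    have : ((j ^ 2 : ℕ) : ZMod 9) = ((1 : ℕ) : ZMod 9) := by push_cast; exact e2
    exact (ZMod.natCast_eq_natCast_iff' _ _ _).mp this
  have h9 : ∀ t ∈ (R : Subgroup G), t ^ 9 = 1 := fun t ht => by
    obtain ⟨i, rfl⟩ := mem_zpowers_iff.mp (hz ▸ ht)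
    rw [← zpow_natCast, ← zpow_mul, mul_comm, zpow_mul, zpow_natCast, ← hg9, pow_orderOf_eq_one,
      one_zpow]
  rcases eq_inv_or_eq h9 hg hj2 hk9 with e | e
  all_goals rw [hk] at e
  · refine Or.inl fun t ht => ?_
    obtain ⟨i, rfl⟩ := mem_zpowers_iff.mp (hz ▸ ht)
    rw [← conj_zpow, e]
  · refine Or.inr fun t ht => ?_
    obtain ⟨i, rfl⟩ := mem_zpowers_iff.mp (hz ▸ ht)
    rw [← conj_zpow, e, inv_zpow]

/-- The two possible configurations. -/
theorem exists_config [IsSimpleGroup G] (hG : ¬ IsMulCommutative G)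
    (hR : Nat.card (R : Subgroup G) = 9)
    (h3 : 3 ≤ Nat.card {C : ConjClasses G // ∃ g ∈ C.carrier, g ≠ 1 ∧ orderOf g ∣ 9}) :
    ∃ K₀ : Subgroup G, AxisSub R K₀ ∧ ((∀ r ∈ (R : Subgroup G), r ≠ 1 → Free R r) ∨
      ∃ K₁ : Subgroup G, AxisSub R K₁ ∧ K₀ ⊓ K₁ = ⊥ ∧
        (∀ r ∈ (R : Subgroup G), r ∉ K₀ → r ∉ K₁ → Free R r) ∧
        ∀ r ∈ (R : Subgroup G), ∀ r' ∈ (R : Subgroup G), r ∉ K₀ → r ∉ K₁ → r' ∉ K₀ → r' ∉ K₁ →
          IsConj r r') := by
  haveI : Fact (Nat.Prime 3) := ⟨Nat.prime_three⟩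
  set N := normalizer ((R : Subgroup G) : Set G) with hN
  by_cases hA : ∀ n ∈ N, (∀ t ∈ (R : Subgroup G), n * t * n⁻¹ = t) ∨
      ∀ t ∈ (R : Subgroup G), n * t * n⁻¹ = t⁻¹
  · obtain ⟨z, hz⟩ := exists_prime_orderOf_dvd_card' (G := (R : Subgroup G)) 3 (by rw [hR]; norm_num)
    refine ⟨zpowers (z : G), ⟨zpowers_le.mpr z.2, by rw [Nat.card_zpowers, orderOf_coe, hz],
      fun n hn x hx => ?_⟩, Or.inl fun r hr hr1 n hn hnr t ht => ?_⟩
    · have hxR := zpowers_le.mpr z.2 hx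
      rcases hA n hn with h | h
      · rw [h x hxR]; exact hx
      · rw [h x hxR]; exact inv_mem hx
    · rcases hA n hn with h | h
      · exact h t ht
      · exfalso
        have e := (h r hr).symm.trans hnr
        have h2 : r ^ 2 = 1 := by
          rw [pow_two]
          nth_rewrite 1 [← e]
          rw [inv_mul_cancel]
        have h9 : (⟨r, hr⟩ : (R : Subgroup G)) ^ 9 = 1 := by
          rw [← hR]; exact pow_card_eq_one'
        have h9' : r ^ 9 = 1 := congrArg Subtype.val h9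
        exact hr1 (by
          calc r = r ^ 9 * ((r ^ 2) ^ 4)⁻¹ := by group
            _ = 1 := by rw [h9', h2]; simp)
  push Not at hA
  obtain ⟨n, hn, ⟨t₁, ht₁, hid⟩, ⟨t₂, ht₂, hminus⟩⟩ := hA
  have hexp : ∀ t ∈ (R : Subgroup G), t ^ 3 = 1 := by
    intro t ht
    obtain ⟨k, hk2, hk⟩ := (Nat.dvd_prime_pow Nat.prime_three).mp
      (show orderOf (⟨t, ht⟩ : (R : Subgroup G)) ∣ 3 ^ 2 from (_root_.orderOf_dvd_natCard _).trans hR.dvd)
    rw [Subgroup.orderOf_mk] at hk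
    rcases (by omega : k ≤ 1 ∨ k = 2) with h | h
    · exact orderOf_dvd_iff_pow_eq_one.mp (hk ▸ (pow_dvd_pow 3 h))
    · rcases pm_of_cyclic hR ht (hk.trans (by rw [h]; norm_num)) hn with h' | h'
      · exact absurd (h' t₁ ht₁) hid
      · exact absurd (h' t₂ ht₂) hminus
  have hsq := fun {m : G} (hm : m ∈ N) => sq_trivial hR h3 hexp hm
  obtain ⟨B, hna, hnb, hfst, hsnd⟩ := exists_eigenbasis (R : Subgroup G) hR hexp
    (comm_of_card_nine hR) (fun t ht => conj_mem_sylow hn ht) (hsq hn)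
    ⟨t₁, ht₁, hid⟩ ⟨t₂, ht₂, hminus⟩
  have hcommute : ∀ {m : G}, m ∈ N → ∀ t ∈ (R : Subgroup G),
      n * (m * t * m⁻¹) * n⁻¹ = m * (n * t * n⁻¹) * m⁻¹ := by
    intro m hm t ht
    have h1 := hsq (mul_mem hn hm) t ht
    have h2 := congrArg (fun x => n * x * n⁻¹) h1
    have hmem : m * ((n * m) * t * (n * m)⁻¹) * m⁻¹ ∈ (R : Subgroup G) :=
      conj_mem_sylow hm (conj_mem_sylow (mul_mem hn hm) ht)
    have e1 : n * (n * m * (n * m * t * (n * m)⁻¹) * (n * m)⁻¹) * n⁻¹ =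
        n * (n * (m * ((n * m) * t * (n * m)⁻¹) * m⁻¹) * n⁻¹) * n⁻¹ := by group
    rw [e1, hsq hn _ hmem] at h2
    have h3' := congrArg (fun x => m * x * m⁻¹) h2
    have e2 : m * (m * (n * m * t * (n * m)⁻¹) * m⁻¹) * m⁻¹ = n * (m * t * m⁻¹) * n⁻¹ := by
      rw [hsq hm _ (conj_mem_sylow (mul_mem hn hm) ht)]
      group
    rw [e2] at h3'
    exact h3'
  -- the images of the two axes
  have hsign : ∀ {m : G}, m ∈ N → ∃ e₁ e₂ : Fin 3, e₁ ≠ 0 ∧ e₂ ≠ 0 ∧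
      m * B.a * m⁻¹ = B.pt (e₁, 0) ∧ m * B.b * m⁻¹ = B.pt (0, e₂) := by
    intro m hm
    have hb1 : B.b ≠ 1 := fun e => B.hb1 (e ▸ one_mem _)
    obtain ⟨u, hu, hu2, he⟩ := hfst _ (conj_mem_sylow hm B.ha)
      (fun e => B.ha1 (conj_eq_one_iff.mp e)) (by rw [hcommute hm _ B.ha, hna])
    obtain ⟨v, hv, hv1, he'⟩ := hsnd _ (conj_mem_sylow hm B.hb)
      (fun e => hb1 (conj_eq_one_iff.mp e)) (by rw [hcommute hm _ B.hb, hnb]; group)
    refine ⟨u.1, v.2, fun e => ?_, fun e => ?_, ?_, ?_⟩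
    · exact absurd hu (by rw [show u = (0, 0) from Prod.ext e hu2]; decide)
    · exact absurd hv (by rw [show v = (0, 0) from Prod.ext hv1 e]; decide)
    · rw [show (u.1, (0 : Fin 3)) = u from Prod.ext rfl hu2.symm]; exact he
    · rw [show ((0 : Fin 3), v.2) = v from Prod.ext hv1.symm rfl]; exact he'
  have hza : ∀ v : Fin 3 × Fin 3, B.pt v ∈ zpowers B.a ↔ v.2 = 0 := by
    intro v
    refine ⟨fun h => ?_, fun h => ?_⟩
    · obtain ⟨i, hi⟩ := mem_zpowers_iff.mp h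
      have e : n * B.pt v * n⁻¹ = B.pt v := by rw [← hi, ← conj_zpow, hna]
      rw [conj_pt B (u := (1, 0)) (v := (0, 2)) (by rw [B.pt_a, hna]) (by rw [B.pt_b', hnb])] at e
      exact (show ∀ v : Fin 3 × Fin 3, lmap (1, 0) (0, 2) v = v → v.2 = 0 by decide +kernel) v
        (B.pt_injective e)
    · rw [show v = (v.1, 0) from Prod.ext rfl h, Basis9.pt]
      simp only [Fin.val_zero, pow_zero, mul_one]
      exact pow_mem (mem_zpowers _) _
  have hzb : ∀ v : Fin 3 × Fin 3, B.pt v ∈ zpowers B.b ↔ v.1 = 0 := by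
    intro v
    refine ⟨fun h => ?_, fun h => ?_⟩
    · obtain ⟨i, hi⟩ := mem_zpowers_iff.mp h
      have e : n * B.pt v * n⁻¹ = (B.pt v)⁻¹ := by rw [← hi, ← conj_zpow, hnb, inv_zpow]
      rw [conj_pt B (u := (1, 0)) (v := (0, 2)) (by rw [B.pt_a, hna]) (by rw [B.pt_b', hnb]),
        ← B.pt_neg] at e
      exact (show ∀ v : Fin 3 × Fin 3, lmap (1, 0) (0, 2) v = -v → v.1 = 0 by decide +kernel) v
        (B.pt_injective e)
    · rw [show v = (0, v.2) from Prod.ext h rfl, Basis9.pt]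
      simp only [Fin.val_zero, pow_zero, one_mul]
      exact pow_mem (mem_zpowers _) _
  have haxis : ∀ c : G, c ∈ (R : Subgroup G) → c ≠ 1 →
      (∀ m ∈ N, ∃ i : ℕ, m * c * m⁻¹ = c ^ i) → AxisSub R (zpowers c) := by
    intro c hc hc1 hm
    refine ⟨zpowers_le.mpr hc, by rw [Nat.card_zpowers, orderOf_eq_prime (hexp c hc) hc1],
      fun m hmN x hx => ?_⟩
    obtain ⟨i, rfl⟩ := mem_zpowers_iff.mp hx
    obtain ⟨j, hj⟩ := hm m hmN
    rw [← conj_zpow, hj]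
    exact zpow_mem (pow_mem (mem_zpowers _) _) _
  refine ⟨zpowers B.b, haxis _ B.hb (fun e => B.hb1 (e ▸ one_mem _)) (fun m hm => ?_), Or.inr
    ⟨zpowers B.a, haxis _ B.ha B.ha1 (fun m hm => ?_), ?_, ?_, ?_⟩⟩
  · obtain ⟨-, e, -, -, -, h⟩ := hsign hm
    exact ⟨(e : ℕ), by rw [h]; simp [Basis9.pt]⟩
  · obtain ⟨e, -, -, -, h, -⟩ := hsign hm
    exact ⟨(e : ℕ), by rw [h]; simp [Basis9.pt]⟩
  · rw [eq_bot_iff]
    rintro x ⟨hx1, hx2⟩
    obtain ⟨v, rfl⟩ := B.exists_pt (zpowers_le.mpr B.hb hx1)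
    rw [show v = 0 from Prod.ext ((hzb v).mp hx1) ((hza v).mp hx2), B.pt_zero]
    exact one_mem _
  · intro r hr h1 h2 m hm hmr t ht
    obtain ⟨v, rfl⟩ := B.exists_pt hr
    obtain ⟨e₁, e₂, -, -, ha, hb⟩ := hsign hm
    rw [conj_pt B ha hb] at hmr
    obtain ⟨rfl, rfl⟩ := sign_of_fixed e₁ e₂ v (fun e => h1 ((hzb v).mpr e))
      (fun e => h2 ((hza v).mpr e)) (B.pt_injective hmr)
    obtain ⟨w, rfl⟩ := B.exists_pt ht
    rw [conj_pt B ha hb]
    congr 1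
    exact (show ∀ w : Fin 3 × Fin 3, lmap (1, 0) (0, 1) w = w by decide +kernel) w
  · intro r hr r' hr' h1 h2 h1' h2'
    obtain ⟨v, rfl⟩ := B.exists_pt hr
    obtain ⟨w, rfl⟩ := B.exists_pt hr'
    obtain ⟨m, hm, hma⟩ := exists_moved hG hR B.ha B.ha1
    obtain ⟨e₁, e₂, he₁, he₂, ha, hb⟩ := hsign hm
    have he : e₁ = 2 := by
      have h01 : e₁ ≠ 1 := fun e => hma (by rw [ha, e, B.pt_a])
      exact (show ∀ e : Fin 3, e ≠ 0 → e ≠ 1 → e = 2 by decide) e₁ he₁ h01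
    subst he
    have hn' := conj_pt B (n := n) (u := (1, 0)) (v := (0, 2)) (by rw [B.pt_a, hna])
      (by rw [B.pt_b', hnb])
    rcases sign_transitive e₂ he₂ v w (fun e => h1 ((hzb v).mpr e)) (fun e => h2 ((hza v).mpr e))
      (fun e => h1' ((hzb w).mpr e)) (fun e => h2' ((hza w).mpr e)) with h | h | h | h
    · rw [h]
    · exact isConj_iff.mpr ⟨n, by rw [h, hn']⟩
    · exact isConj_iff.mpr ⟨m, by rw [h, conj_pt B ha hb]⟩
    · exact isConj_iff.mpr ⟨n * m, by rw [h, ← hn', ← conj_pt B ha hb]; group⟩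

end CfsgLib.NineTwoQ
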