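import Cfsg.Agent.Blocks.Orth.Subsection
import Cfsg.Agent.Chars.Basic
import Mathlib

/-!
# Sections of 3-elements
-/

set_option autoImplicit false
set_option linter.style.haveILetI false

namespace CfsgLib.NineTwoQ

open Cfsg Subgroup CfsgLib.Blocks

universe u

variable {G : Type u} [Group G] [Finite G]

/-- The 3-part of an element. -/
noncomputable def p3 (g : G) : G := Classical.choose (exists_isPPart Nat.prime_three g)

theorem isPPart_p3 (g : G) : IsPPart 3 g (p3 g) :=
  Classical.choose_spec (exists_isPPart Nat.prime_three g)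

theorem p3_eq {g u : G} (h : IsPPart 3 g u) : p3 g = u :=
  isPPart_unique Nat.prime_three (isPPart_p3 g) h

theorem p3_conj (g x : G) : p3 (x * g * x⁻¹) = x * p3 g * x⁻¹ :=
  p3_eq (isPPart_conj (isPPart_p3 g) x)

theorem p3_mul {r u : G} (hr : ∃ k : ℕ, orderOf r = 3 ^ k) (hc : Commute r u)
    (hu : ¬ 3 ∣ orderOf u) : p3 (r * u) = r :=
  p3_eq ⟨u, rfl, hc, hr, hu⟩

theorem p3_of_regular {g : G} (h : ¬ 3 ∣ orderOf g) : p3 g = 1 :=
  p3_eq ⟨g, one_mul g, Commute.one_left g, ⟨0, by simp⟩, h⟩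

theorem p3_one : p3 (1 : G) = 1 := p3_of_regular (by simp)

theorem exists_orderOf_p3 (g : G) : ∃ k : ℕ, orderOf (p3 g) = 3 ^ k := by
  obtain ⟨-, -, -, h, -⟩ := isPPart_p3 g
  exact h

theorem commute_p3 {g x : G} (h : Commute x g) : Commute x (p3 g) := by
  obtain ⟨k, hk⟩ := exists_pow_eq_isPPart (G := G) Nat.prime_three
  rw [← hk g _ (isPPart_p3 g)]
  exact h.pow_right k

theorem card_conj_eq {r h : G} (hc : IsConj r h) :
    Nat.card {x : G // x * r * x⁻¹ = h} = Nat.card (centralizer ({r} : Set G)) := by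
  obtain ⟨a, rfl⟩ := isConj_iff.mp hc
  refine Nat.card_congr
    { toFun := fun x => ⟨a⁻¹ * x.1, mem_centralizer_singleton_iff.mpr ?_⟩
      invFun := fun c => ⟨a * c.1, ?_⟩
      left_inv := fun x => Subtype.ext (mul_inv_cancel_left a x.1)
      right_inv := fun c => Subtype.ext (inv_mul_cancel_left a c.1) }
  · calc a⁻¹ * x.1 * r = a⁻¹ * (x.1 * r * x.1⁻¹) * x.1 := by group
      _ = a⁻¹ * (a * r * a⁻¹) * x.1 := by rw [x.2]
      _ = r * (a⁻¹ * x.1) := by group
  · calc a * c.1 * r * (a * c.1)⁻¹ = a * (c.1 * r) * c.1⁻¹ * a⁻¹ := by group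
      _ = a * (r * c.1) * c.1⁻¹ * a⁻¹ := by rw [mem_centralizer_singleton_iff.mp c.2]
      _ = a * r * a⁻¹ := by group

section fintype

variable [Fintype G]

open scoped Classical in
/-- The elements whose 3-part is conjugate to `r`. -/
noncomputable def secS (r : G) : Finset G := Finset.univ.filter fun g => IsConj r (p3 g)

theorem mem_secS {r g : G} : g ∈ secS r ↔ IsConj r (p3 g) := by
  classical simp [secS]

open scoped Classical in
/-- The 3-regular elements centralizing `r`. -/
noncomputable def regC (r : G) : Finset G :=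
  Finset.univ.filter fun u => Commute r u ∧ ¬ 3 ∣ orderOf u

theorem mem_regC {r u : G} : u ∈ regC r ↔ Commute r u ∧ ¬ 3 ∣ orderOf u := by
  classical simp [regC]

/-- Summing a class function over a section. -/
theorem sum_sec {M : Type*} [CommRing M] {r : G} (hr : ∃ k : ℕ, orderOf r = 3 ^ k) (F : G → M)
    (hF : ∀ g x : G, F (x * g * x⁻¹) = F g) :
    (Nat.card (centralizer ({r} : Set G)) : M) * ∑ g ∈ secS r, F g =
      (Nat.card G : M) * ∑ u ∈ regC r, F (r * u) := by
  classical
  have h1 : (Nat.card (centralizer ({r} : Set G)) : M) * ∑ g ∈ secS r, F g =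
      ∑ g : G, ∑ x : G, if x * r * x⁻¹ = p3 g then F g else 0 := by
    rw [Finset.mul_sum]
    refine Eq.trans ?_ (Finset.sum_subset (Finset.subset_univ (secS r)) fun g _ hg => ?_)
    · refine Finset.sum_congr rfl fun g hg => ?_
      rw [← Finset.sum_filter, Finset.sum_const, nsmul_eq_mul]
      congr 2
      rw [← card_conj_eq (mem_secS.mp hg), Nat.card_eq_fintype_card, Fintype.card_subtype]
    · exact Finset.sum_eq_zero fun x _ => if_neg fun e => hg (mem_secS.mpr (isConj_iff.mpr ⟨x, e⟩))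
  rw [h1, Finset.sum_comm]
  have h2 : ∀ x : G, (∑ g : G, if x * r * x⁻¹ = p3 g then F g else 0) = ∑ u ∈ regC r, F (r * u) := by
    intro x
    rw [← Finset.sum_filter]
    refine (Finset.sum_bij (fun u _ => x * (r * u) * x⁻¹) (fun u hu => ?_) (fun u _ v _ e => ?_)
      (fun g hg => ?_) (fun u _ => (hF _ x).symm)).symm
    · obtain ⟨h, h'⟩ := mem_regC.mp hu
      rw [Finset.mem_filter, p3_conj, p3_mul hr h h']
      exact ⟨Finset.mem_univ _, rfl⟩
    · exact mul_left_cancel (mul_left_cancel (mul_right_cancel e))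
    · rw [Finset.mem_filter] at hg
      obtain ⟨w, hw, hcomm, -, hreg⟩ := isPPart_p3 g
      rw [← hg.2] at hw hcomm
      refine ⟨x⁻¹ * w * x, mem_regC.mpr ⟨?_, ?_⟩, ?_⟩
      · show r * (x⁻¹ * w * x) = x⁻¹ * w * x * r
        calc r * (x⁻¹ * w * x) = x⁻¹ * (x * r * x⁻¹ * w) * x := by group
          _ = x⁻¹ * (w * (x * r * x⁻¹)) * x := by rw [hcomm.eq]
          _ = x⁻¹ * w * x * r := by group
      · have := (isPRegular_conj_iff (p := 3) x⁻¹ w).mpr hreg
        rwa [inv_inv] at this
      · rw [← hw]; group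
  rw [Finset.sum_congr rfl fun x _ => h2 x, Finset.sum_const, Finset.card_univ, nsmul_eq_mul,
    Nat.card_eq_fintype_card (α := G)]

/-- The number of elements of a section. -/
theorem card_sec {r : G} (hr : ∃ k : ℕ, orderOf r = 3 ^ k) :
    Nat.card (centralizer ({r} : Set G)) * (secS r).card = Nat.card G * (regC r).card := by
  have h := sum_sec (M := ℤ) hr (fun _ => 1) (fun _ _ => rfl)
  simp only [Finset.sum_const, nsmul_eq_mul, mul_one] at h
  exact_mod_cast h

/-- Multiplying the regular elements by a central element of order three. -/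
theorem three_mul_card_regC_lt {r t : G} (hr3 : orderOf r = 3) (ht : ∃ k : ℕ, orderOf t = 3 ^ k)
    (hc : Commute r t) (htr : t ∉ zpowers r) :
    3 * (regC r).card < Nat.card (centralizer ({r} : Set G)) := by
  classical
  let f : Fin 3 × (regC r) → centralizer ({r} : Set G) := fun p =>
    ⟨r ^ (p.1 : ℕ) * (p.2 : G), mem_centralizer_singleton_iff.mpr
      (((Commute.refl r).pow_right _).mul_right (mem_regC.mp p.2.2).1).eq.symm⟩
  have h3 : ∀ i : ℕ, ∃ k : ℕ, orderOf (r ^ i) = 3 ^ k := fun i => by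
    obtain ⟨k, -, hk⟩ := (Nat.dvd_prime_pow Nat.prime_three).mp
      (show orderOf (r ^ i) ∣ 3 ^ 1 by rw [pow_one, ← hr3]; exact orderOf_pow_dvd i)
    exact ⟨k, hk⟩
  have hp : ∀ p, p3 ((f p : centralizer ({r} : Set G)) : G) = r ^ (p.1 : ℕ) := fun p =>
    p3_mul (h3 _) ((mem_regC.mp p.2.2).1.pow_left _) (mem_regC.mp p.2.2).2
  have hinj : Function.Injective f := by
    intro p p' e
    have e1 : r ^ (p.1 : ℕ) = r ^ (p'.1 : ℕ) := by rw [← hp p, e, hp p']
    have e2 : p.1 = p'.1 := by
      refine Fin.ext (pow_injOn_Iio_orderOf ?_ ?_ e1) <;> simp [hr3]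
    refine Prod.ext e2 (Subtype.ext ?_)
    have e3 := congrArg Subtype.val e
    simp only [f] at e3
    rw [e1] at e3
    exact mul_left_cancel e3
  have hns : ¬ Function.Surjective f := by
    intro hs
    obtain ⟨p, hp'⟩ := hs ⟨t, mem_centralizer_singleton_iff.mpr hc.eq.symm⟩
    apply htr
    have := hp p
    rw [hp'] at this
    rw [show t = p3 t from (p3_eq ⟨1, mul_one t, Commute.one_right t, ht, by simp⟩).symm, this]
    exact pow_mem (mem_zpowers r) _
  have := Fintype.card_lt_of_injective_not_surjective f hinj hns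
  rw [Fintype.card_prod, Fintype.card_fin, Fintype.card_coe] at this
  rwa [Nat.card_eq_fintype_card]

end fintype

end CfsgLib.NineTwoQ
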