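import Cfsg.Agent.NineTwoQ.Fusion
import Cfsg.Agent.NineTwoQ.Section
import Cfsg.Agent.Chars.Brauer.Characterization
import Cfsg.Agent.Chars.Exceptional.Inner
import Cfsg.Agent.Chars.Ito.TwoPrimeChar
import Cfsg.Agent.HerzogThree.Chars

/-!
# The generalized character of norm three supported on a union of 3-sections
-/

set_option autoImplicit false
set_option linter.style.haveILetI false

namespace CfsgLib.NineTwoQ

open Cfsg Subgroup CfsgLib.Chars
open scoped ComplexConjugate

universe u

variable {G : Type u} [Group G] [Finite G] {R : Sylow 3 G} {K₀ : Subgroup G}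

/-- The 3-part lies in a section over `R ∖ K₀`. -/
def InS (R : Sylow 3 G) (K₀ : Subgroup G) (g : G) : Prop :=
  ∃ r ∈ (R : Subgroup G), r ∉ K₀ ∧ IsConj r (p3 g)

open scoped Classical in
/-- Three times the indicator function of these sections. -/
noncomputable def gam (R : Sylow 3 G) (K₀ : Subgroup G) (g : G) : ℂ :=
  if InS R K₀ g then 3 else 0

theorem inS_conj (g x : G) : InS R K₀ (x * g * x⁻¹) ↔ InS R K₀ g := by
  simp only [InS, p3_conj]
  refine exists_congr fun r => and_congr_right fun _ => and_congr_right fun _ => ?_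
  exact ⟨fun h => h.trans (isConj_iff.mpr ⟨x⁻¹, by group⟩),
    fun h => h.trans (isConj_iff.mpr ⟨x, rfl⟩)⟩

theorem gam_conj (g x : G) : gam R K₀ (x * g * x⁻¹) = gam R K₀ g := by
  classical
  simp only [gam, inS_conj]

theorem gam_isClassFunction : IsClassFunction G (gam R K₀) := fun g x => gam_conj g x

theorem gam_of_regular {g : G} (h : ¬ 3 ∣ orderOf g) : gam R K₀ g = 0 := by
  classical
  rw [gam, if_neg]
  rintro ⟨r, -, hr, hc⟩
  rw [p3_of_regular h, isConj_one_left] at hc
  exact hr (hc ▸ one_mem K₀)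

theorem orderOf_pow_three (hR : Nat.card (R : Subgroup G) = 9) {r : G}
    (hr : r ∈ (R : Subgroup G)) : ∃ k : ℕ, orderOf r = 3 ^ k := by
  obtain ⟨k, -, hk⟩ := (Nat.dvd_prime_pow Nat.prime_three).mp
    (show orderOf r ∣ 3 ^ 2 by
      rw [← Subgroup.orderOf_mk r hr]
      exact (_root_.orderOf_dvd_natCard _).trans hR.dvd)
  exact ⟨k, hk⟩

theorem isConj_mem (hR : Nat.card (R : Subgroup G) = 9) (hK : AxisSub R K₀) {r s : G}
    (hr : r ∈ (R : Subgroup G)) (hs : s ∈ (R : Subgroup G)) (h : IsConj r s) (hs0 : s ∈ K₀) :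
    r ∈ K₀ := by
  obtain ⟨n, hn, e⟩ := exists_normalizer_conj hR hs hr h.symm
  exact e ▸ hK.stable n hn s hs0

/-- A linear character of `R` with kernel `K₀`. -/
theorem exists_lam (hR : Nat.card (R : Subgroup G) = 9) (hK : AxisSub R K₀) :
    ∃ l : (R : Subgroup G) →* ℂˣ, (∀ r : (R : Subgroup G), l r = 1 ↔ (r : G) ∈ K₀) ∧
      ∀ r, l r ^ 3 = 1 := by
  haveI : Fact (Nat.Prime 3) := ⟨Nat.prime_three⟩
  set K' := K₀.subgroupOf (R : Subgroup G) with hK'
  haveI : K'.Normal := ⟨fun x hx g => by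
    have e : g * x * g⁻¹ = x := Subtype.ext (by
      push_cast
      rw [comm_of_card_nine hR _ g.2 _ x.2, mul_inv_cancel_right])
    rw [e]; exact hx⟩
  have hc : Nat.card ((R : Subgroup G) ⧸ K') = 3 := by
    have h := K'.card_mul_index
    rw [Nat.card_congr (Subgroup.subgroupOfEquivOfLe hK.le).toEquiv, hK.card, hR] at h
    rw [← Subgroup.index_eq_card]
    omega
  haveI : IsSimpleGroup ((R : Subgroup G) ⧸ K') := isSimpleGroup_of_prime_card hc
  haveI : Nontrivial ((R : Subgroup G) ⧸ K') := IsSimpleGroup.toNontrivial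
  haveI : IsCyclic ((R : Subgroup G) ⧸ K') := isCyclic_of_prime_card hc
  obtain ⟨y, hy⟩ := exists_ne (1 : (R : Subgroup G) ⧸ K')
  have hcomm : commutator ((R : Subgroup G) ⧸ K') = ⊥ :=
    commutator_eq_bot (G := (R : Subgroup G) ⧸ K')
  obtain ⟨l, hl⟩ := Chars.exists_linChar_ne_one (g := y) (by rwa [hcomm, Subgroup.mem_bot])
  have hinj : Function.Injective l := by
    rw [← MonoidHom.ker_eq_bot_iff]
    rcases (MonoidHom.normal_ker l).eq_bot_or_eq_top with h | h
    · exact h
    · exact absurd (MonoidHom.mem_ker.mp (h ▸ Subgroup.mem_top y)) hl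
  refine ⟨l.comp (QuotientGroup.mk' K'), fun r => ?_, fun r => ?_⟩
  swap
  · have h := pow_card_eq_one' (x := QuotientGroup.mk' K' r)
    rw [hc] at h
    rw [MonoidHom.comp_apply, ← map_pow, h, map_one]
  rw [MonoidHom.comp_apply, ← map_one l, hinj.eq_iff, QuotientGroup.mk'_apply,
    QuotientGroup.eq_one_iff, hK', Subgroup.mem_subgroupOf]

open scoped Classical in
/-- The function on `R` is a generalized character. -/
theorem gen_local (hR : Nat.card (R : Subgroup G) = 9) (hK : AxisSub R K₀) :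
    IsGeneralizedCharacter (R : Subgroup G)
      (fun r : (R : Subgroup G) => if (r : G) ∈ K₀ then (0 : ℂ) else 3) := by
  classical
  obtain ⟨l, hl, hl3⟩ := exists_lam hR hK
  have hgen : IsGeneralizedCharacter (R : Subgroup G)
      ((fun _ => (1 : ℂ)) + (fun _ => (1 : ℂ)) - (fun r => (l r : ℂ)) - (fun r => (l⁻¹ r : ℂ))) :=
    Exceptional.gen_sub (Exceptional.gen_sub (Exceptional.gen_add
      (Exceptional.gen_of_irr isIrrCharacter_one) (Exceptional.gen_of_irr isIrrCharacter_one))
      (Exceptional.gen_of_irr (isIrrCharacter_monoidHom l)))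
      (Exceptional.gen_of_irr (isIrrCharacter_monoidHom l⁻¹))
  convert hgen using 1
  funext r
  simp only [Pi.add_apply, Pi.sub_apply]
  split_ifs with h
  · have e := (hl r).mpr h
    simp [e, MonoidHom.inv_apply]
  · have h1 : (l r : ℂ) ≠ 1 := fun e => h ((hl r).mp (Units.ext e))
    have h3 : (l r : ℂ) ^ 3 = 1 := by
      rw [← Units.val_pow_eq_pow_val, hl3, Units.val_one]
    have hne : (l r : ℂ) ≠ 0 := Units.ne_zero _
    have hsum : (l r : ℂ) ^ 2 + (l r : ℂ) + 1 = 0 := by
      have : ((l r : ℂ) - 1) * ((l r : ℂ) ^ 2 + (l r : ℂ) + 1) = 0 := by linear_combination h3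
      exact (mul_eq_zero.mp this).resolve_left (sub_ne_zero.mpr h1)
    rw [MonoidHom.inv_apply, Units.val_inv_eq_inv_val]
    field_simp
    linear_combination hsum

/-- The 3-part is a homomorphism on an elementary subgroup. -/
theorem exists_hom (hR : Nat.card (R : Subgroup G) = 9) {E : Subgroup G} {p : ℕ} (hp : p.Prime)
    (hE : IsElementary p E) : ∃ π : E →* G, ∀ e, π e = p3 (e : G) := by
  classical
  haveI : Fact (Nat.Prime 3) := ⟨Nat.prime_three⟩
  obtain ⟨x, hx, hxp, k, hk⟩ := hE
  have hle : zpowers x ≤ center E := zpowers_le.mpr hx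
  -- the index of the centre is prime to three
  have hidx : ¬ 3 ∣ (center E).index := by
    intro h3
    have h := h3.trans (Subgroup.index_dvd_of_le hle)
    rw [hk] at h
    obtain rfl : p = 3 := ((Nat.prime_dvd_prime_iff_eq Nat.prime_three hp).mp
      (Nat.prime_three.dvd_of_dvd_pow h)).symm
    obtain ⟨P⟩ : Nonempty (Sylow 3 E) := inferInstance
    refine P.not_dvd_index (h3.trans (Subgroup.index_dvd_of_le fun y hy => ?_))
    obtain ⟨Q, hQ⟩ := (P.2.map E.subtype).exists_le_sylow
    have hQc : Nat.card (Q : Subgroup G) = 9 := by rw [CfsgLib.SylowToolkit.card_sylow_subgroup_congr Q R, hR]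
    refine Subgroup.mem_center_iff.mpr fun z => ?_
    have hPc : (P : Subgroup E) ≤ centralizer ({y} : Set E) := fun w hw =>
      mem_centralizer_singleton_iff.mpr (Subtype.ext (comm_of_card_nine hQc _
        (hQ ⟨w, hw, rfl⟩) _ (hQ ⟨y, hy, rfl⟩)))
    have hxc : zpowers x ≤ centralizer ({y} : Set E) := zpowers_le.mpr
      (mem_centralizer_singleton_iff.mpr (mem_center_iff.mp hx y).symm)
    have h1 := Subgroup.index_dvd_of_le hPc
    have h2 := Subgroup.index_dvd_of_le hxc
    rw [hk] at h2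
    have hone : (centralizer ({y} : Set E)).index = 1 :=
      Nat.eq_one_of_dvd_coprimes
        ((Nat.prime_three.coprime_iff_not_dvd.mpr P.not_dvd_index).symm.pow_right k) h1 h2
    have hz := Subgroup.index_eq_one.mp hone ▸ Subgroup.mem_top z
    exact mem_centralizer_singleton_iff.mp hz
  obtain ⟨m, n, hn, hm⟩ := Nat.exists_eq_pow_mul_and_not_dvd (Nat.card_pos (α := G)).ne' 3 (by norm_num)
  have hco : (3 ^ m).Coprime (n * (center E).index) :=
    (Nat.prime_three.coprime_iff_not_dvd.mpr (fun h => (Nat.prime_three.dvd_mul.mp h).elim hn hidx)).pow_left m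
  obtain ⟨c, hc1, hc0⟩ := Nat.chineseRemainder hco 1 0
  have hpow : ∀ g : G, g ^ c = p3 g := by
    intro g
    obtain ⟨w, hw, hcomm, ⟨i, hi⟩, hwreg⟩ := isPPart_p3 g
    have hu : orderOf (p3 g) ∣ 3 ^ m := by
      rw [hi]
      refine Nat.Coprime.dvd_of_dvd_mul_right
        ((Nat.prime_three.coprime_iff_not_dvd.mpr hn).pow_left i) ?_
      rw [← hi, ← hm]
      exact _root_.orderOf_dvd_natCard _
    have hw' : orderOf w ∣ n := by
      refine Nat.Coprime.dvd_of_dvd_mul_left
        ((Nat.prime_three.coprime_iff_not_dvd.mpr hwreg).symm.pow_right m) ?_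
      rw [← hm]
      exact _root_.orderOf_dvd_natCard _
    conv_lhs => rw [← hw]
    rw [hcomm.mul_pow, orderOf_dvd_iff_pow_eq_one.mp
      ((hw'.trans (dvd_mul_right n _)).trans (Nat.modEq_zero_iff_dvd.mp hc0)), mul_one]
    exact (pow_eq_pow_iff_modEq.mpr (hc1.of_dvd hu)).trans (pow_one _)
  obtain ⟨d, hd⟩ : (center E).index ∣ c :=
    (dvd_mul_left _ n).trans (Nat.modEq_zero_iff_dvd.mp hc0)
  refine ⟨MonoidHom.mk' (fun e => (((MonoidHom.transferCenterPow E e) ^ d : center E) : E))
    (fun a b => ?_), fun e => ?_⟩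
  · have hc : Commute (MonoidHom.transferCenterPow E a) (MonoidHom.transferCenterPow E b) :=
      Subtype.ext (mem_center_iff.mp (MonoidHom.transferCenterPow E b).2 _)
    rw [map_mul, hc.mul_pow]
    rfl
  · simp only [MonoidHom.mk'_apply, SubgroupClass.coe_pow, MonoidHom.transferCenterPow_apply]
    rw [← pow_mul, ← hd, hpow]

theorem gam_gen [Fintype G] (hR : Nat.card (R : Subgroup G) = 9) (hK : AxisSub R K₀) :
    IsGeneralizedCharacter G (gam R K₀) := by
  classical
  haveI : Fact (Nat.Prime 3) := ⟨Nat.prime_three⟩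
  refine Brauer.isGeneralizedCharacter_of_elementary gam_isClassFunction fun E p hp hE => ?_
  obtain ⟨π, hπ⟩ := exists_hom hR hp hE
  have hP : IsPGroup 3 π.range := by
    rintro ⟨_, e, rfl⟩
    obtain ⟨k, hk⟩ := exists_orderOf_p3 (e : G)
    exact ⟨k, Subtype.ext (by
      push_cast
      rw [hπ, ← hk, pow_orderOf_eq_one])⟩
  obtain ⟨Q, hQ⟩ := hP.exists_le_sylow
  obtain ⟨x, hx⟩ := MulAction.exists_smul_eq G Q R
  have hmem : ∀ e : E, x * π e * x⁻¹ ∈ (R : Subgroup G) := fun e => by
    rw [← hx, Sylow.smul_def]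
    exact ⟨π e, hQ ⟨e, rfl⟩, rfl⟩
  let f : E →* (R : Subgroup G) :=
    ((MulAut.conj x).toMonoidHom.comp π).codRestrict (R : Subgroup G) hmem
  have h := Brauer.gen_comp (gen_local hR hK) f
  convert h using 1
  funext e
  have hf : (f e : G) = x * π e * x⁻¹ := rfl
  simp only [gam]
  rw [hf]
  have hiff : InS R K₀ (e : G) ↔ x * π e * x⁻¹ ∉ K₀ := by
    refine ⟨fun ⟨r, hr, hr0, hc⟩ h0 => hr0 ?_, fun h0 => ⟨_, hmem e, h0, ?_⟩⟩
    · exact isConj_mem hR hK hr (hmem e) (hc.trans (isConj_iff.mpr ⟨x, by rw [hπ]⟩)) h0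
    · exact (isConj_iff.mpr ⟨x, by rw [hπ]⟩).symm
  split_ifs with h1 h2 h2
  · exact absurd h2 (hiff.mp h1)
  · rfl
  · rfl
  · exact absurd (hiff.mpr h2) h1

section counting

variable [Fintype G]

open scoped Classical in
/-- The union of the sections. -/
noncomputable def setS (R : Sylow 3 G) (K₀ : Subgroup G) : Finset G :=
  Finset.univ.filter (InS R K₀)

theorem mem_setS {g : G} : g ∈ setS R K₀ ↔ InS R K₀ g := by
  classical simp [setS]

open scoped Classical in
/-- The elements of `R ∖ K₀`. -/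
noncomputable def setT (R : Sylow 3 G) (K₀ : Subgroup G) : Finset G :=
  Finset.univ.filter fun r => r ∈ (R : Subgroup G) ∧ r ∉ K₀

theorem mem_setT {r : G} : r ∈ setT R K₀ ↔ r ∈ (R : Subgroup G) ∧ r ∉ K₀ := by
  classical simp [setT]

theorem card_setT (hR : Nat.card (R : Subgroup G) = 9) (hK : AxisSub R K₀) :
    (setT R K₀).card = 6 := by
  classical
  have e : setT R K₀ = ((R : Subgroup G) : Set G).toFinset \ (K₀ : Set G).toFinset := by
    ext r
    simp only [mem_setT, Finset.mem_sdiff, Set.mem_toFinset, SetLike.mem_coe]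
  rw [e, Finset.card_sdiff_of_subset (fun r hr => by
    rw [Set.mem_toFinset] at hr ⊢
    exact hK.le hr), Set.toFinset_card, Set.toFinset_card, ← Nat.card_eq_fintype_card,
    ← Nat.card_eq_fintype_card]
  simp only [SetLike.coe_sort_coe]
  rw [hR, hK.card]

theorem two_mul_card_setS_le [IsSimpleGroup G] (hG : ¬ IsMulCommutative G)
    (hR : Nat.card (R : Subgroup G) = 9) (hK : AxisSub R K₀) :
    2 * (setS R K₀).card ≤ ∑ r ∈ setT R K₀, (secS r).card := by
  classical
  have e : ∑ r ∈ setT R K₀, (secS r).card =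
      ∑ g : G, ((setT R K₀).filter fun r => IsConj r (p3 g)).card := by
    simp only [secS, Finset.card_filter]
    rw [Finset.sum_comm]
  rw [e]
  refine le_trans ?_ (Finset.sum_le_sum_of_subset (Finset.subset_univ (setS R K₀)))
  rw [mul_comm, ← smul_eq_mul]
  refine Finset.card_nsmul_le_sum _ _ _ fun g hg => ?_
  obtain ⟨r, hr, hr0, hc⟩ := mem_setS.mp hg
  obtain ⟨n, hn, hne⟩ := exists_moved hG hR hr (fun e => hr0 (e ▸ one_mem K₀))
  refine Finset.one_lt_card.mpr ⟨r, ?_, n * r * n⁻¹, ?_, Ne.symm hne⟩ <;>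
    rw [Finset.mem_filter, mem_setT]
  · exact ⟨⟨hr, hr0⟩, hc⟩
  · refine ⟨⟨conj_mem_sylow hn hr, fun h => hr0 ?_⟩, (isConj_iff.mpr ⟨n, rfl⟩).symm.trans hc⟩
    have := hK.stable n⁻¹ (inv_mem hn) _ h
    simpa [mul_assoc] using this

theorem classInner_gam_one :
    classInner (gam R K₀) (oneChar G : G → ℂ) =
      3 * ((setS R K₀).card : ℂ) / (Nat.card G : ℂ) := by
  classical
  simp only [classInner, gam, oneChar_apply, map_one, mul_one]
  rw [← Finset.sum_filter, Finset.sum_const, nsmul_eq_mul, setS]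
  ring

theorem classInner_gam_self :
    classInner (gam R K₀) (gam R K₀) = 3 * classInner (gam R K₀) (oneChar G : G → ℂ) := by
  classical
  simp only [classInner, gam, oneChar_apply, map_one, mul_one, mul_left_comm (3 : ℂ)]
  rw [Finset.mul_sum (s := Finset.univ) (a := (3 : ℂ))]
  congr 1
  refine Finset.sum_congr rfl fun g _ => ?_
  split_ifs <;> simp [Complex.conj_ofNat]

/-- Two irreducible characters of consecutive degrees with `gam = 1 + χp - χm`. -/
structure Pair (R : Sylow 3 G) (K₀ : Subgroup G) where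
  /-- the smaller one -/
  χp : IrrCharacter G
  /-- the larger one -/
  χm : IrrCharacter G
  deg : charDegree (χm : G → ℂ) = charDegree (χp : G → ℂ) + 1
  one_lt : 1 < charDegree (χp : G → ℂ)
  expand : ∀ g, gam R K₀ g = 1 + (χp : G → ℂ) g - (χm : G → ℂ) g
  ratp : ∀ g, ∃ m : ℤ, (χp : G → ℂ) g = m
  ratm : ∀ g, ∃ m : ℤ, (χm : G → ℂ) g = m

/-- The sections cover a third of the group. -/
theorem card_setS [IsSimpleGroup G] (hG : ¬ IsMulCommutative G)
    (hR : Nat.card (R : Subgroup G) = 9) (hK : AxisSub R K₀)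
    (hbound : ∑ r ∈ setT R K₀, 3 * (secS r).card < 4 * Nat.card G) :
    3 * (setS R K₀).card = Nat.card G := by
  classical
  obtain ⟨m, hm⟩ := Exceptional.gen_inner_int (gam_gen hR hK)
    (Exceptional.gen_of_char (isCharacter_coe (oneChar G)))
  rw [classInner_gam_one, div_eq_iff natCard_ne_zero] at hm
  have hm' : (3 * (setS R K₀).card : ℤ) = m * Nat.card G := by exact_mod_cast hm
  have h2 := two_mul_card_setS_le hG hR hK
  have hlt : 3 * (setS R K₀).card < 2 * Nat.card G := by
    rw [← Finset.mul_sum] at hbound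
    omega
  have hpos : 0 < (setS R K₀).card := by
    obtain ⟨r, hr⟩ : (setT R K₀).Nonempty := Finset.card_pos.mp (by rw [card_setT hR hK]; norm_num)
    obtain ⟨h1, h1'⟩ := mem_setT.mp hr
    refine Finset.card_pos.mpr ⟨r, mem_setS.mpr ⟨r, h1, h1', ?_⟩⟩
    rw [show p3 r = r from p3_eq ⟨1, mul_one r, Commute.one_right r, orderOf_pow_three hR h1, by simp⟩]
  have hG0 : (0 : ℤ) < Nat.card G := by exact_mod_cast Nat.card_pos
  have hm0 : 0 < m := by
    by_contra hle
    push Not at hle
    have : m * (Nat.card G : ℤ) ≤ 0 := mul_nonpos_of_nonpos_of_nonneg hle hG0.le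
    omega
  have hm2 : m < 2 := by
    by_contra hge
    push Not at hge
    have : 2 * (Nat.card G : ℤ) ≤ m * Nat.card G := mul_le_mul_of_nonneg_right hge hG0.le
    omega
  obtain rfl : m = 1 := by omega
  rw [one_mul] at hm'
  exact_mod_cast hm'

theorem exists_pair [IsSimpleGroup G] (hG : ¬ IsMulCommutative G)
    (hR : Nat.card (R : Subgroup G) = 9) (hK : AxisSub R K₀)
    (hS : 3 * (setS R K₀).card = Nat.card G) : Nonempty (Pair R K₀) := by
  classical
  have hgen := gam_gen hR hK
  have hone : classInner (gam R K₀) (oneChar G : G → ℂ) = 1 := by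
    rw [classInner_gam_one, show (3 : ℂ) * ((setS R K₀).card : ℂ) = (Nat.card G : ℂ) by exact_mod_cast hS,
      div_self natCard_ne_zero]
  have hnorm := classInner_gam_self (R := R) (K₀ := K₀)
  rw [hone, mul_one, classInner_eq_sum gam_isClassFunction] at hnorm
  choose c hc using fun χ : IrrCharacter G =>
    Exceptional.gen_inner_int hgen (Exceptional.gen_of_char (isCharacter_coe χ))
  have hsq : ∑ χ : IrrCharacter G, c χ ^ 2 = 3 := by
    apply Int.cast_injective (α := ℂ)
    push_cast
    rw [← hnorm]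
    exact Finset.sum_congr rfl fun χ _ => by rw [hc, map_intCast, pow_two]
  have hc1 : c (oneChar G) = 1 := by exact_mod_cast (hc _).symm.trans hone
  rw [← Finset.add_sum_erase _ _ (Finset.mem_univ (oneChar G)), hc1] at hsq
  set U := (Finset.univ.erase (oneChar G)).filter fun χ => c χ ≠ 0 with hU
  have hU2 : ∑ χ ∈ U, c χ ^ 2 = 2 := by
    rw [hU, Finset.sum_subset (Finset.filter_subset _ _) fun χ hχ hn => by
      have : c χ = 0 := by by_contra h; exact hn (Finset.mem_filter.mpr ⟨hχ, h⟩)
      rw [this]; ring]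
    linarith
  have hge : ∀ χ ∈ U, 1 ≤ c χ ^ 2 := fun χ hχ => by
    have := (Finset.mem_filter.mp hχ).2
    have : 0 < c χ ^ 2 := by positivity
    omega
  have hval : ∀ χ ∈ U, c χ = 1 ∨ c χ = -1 := by
    intro χ hχ
    have h1 := Finset.single_le_sum (fun i hi => (zero_le_one.trans (hge i hi))) hχ
    rw [hU2] at h1
    have h2 : c χ < 2 := by nlinarith
    have h3 : -2 < c χ := by nlinarith
    have h4 := (Finset.mem_filter.mp hχ).2
    omega
  have hcard : U.card = 2 := by
    have h : ∑ χ ∈ U, c χ ^ 2 = U.card := by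
      rw [Finset.sum_congr rfl fun χ hχ => show c χ ^ 2 = 1 by rcases hval χ hχ with e | e <;> simp [e]]
      simp
    rw [hU2] at h
    omega
  obtain ⟨x, y, hxy, hUe⟩ := Finset.card_eq_two.mp hcard
  have hexp : ∀ g, gam R K₀ g = 1 + (c x : ℂ) * (x : G → ℂ) g + (c y : ℂ) * (y : G → ℂ) g := by
    intro g
    rw [eq_sum_classInner_mul gam_isClassFunction g, ← Finset.add_sum_erase _ _ (Finset.mem_univ (oneChar G)),
      hone, oneChar_apply, one_mul, add_assoc]
    congr 1
    rw [← Finset.sum_subset (s₁ := U) (Finset.filter_subset _ _) (fun χ hχ hn => by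
      have : c χ = 0 := by by_contra h; exact hn (Finset.mem_filter.mpr ⟨hχ, h⟩)
      rw [hc, this]; simp), hUe, Finset.sum_pair hxy, hc, hc]
  have hdeg : ∀ χ ∈ U, 1 < charDegree (χ : G → ℂ) := fun χ hχ =>
    HerzogThree.one_lt_charDegree hG fun e => (Finset.mem_erase.mp (Finset.mem_filter.mp hχ).1).1
      (Subtype.ext (e.trans Chars.oneChar_coe.symm))
  have hx : x ∈ U := by rw [hUe]; simp
  have hy : y ∈ U := by rw [hUe]; simp
  have h0 := hexp 1
  rw [gam_of_regular (by simp), ← coe_charDegree, ← coe_charDegree] at h0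
  have h0' : (0 : ℤ) = 1 + c x * charDegree (x : G → ℂ) + c y * charDegree (y : G → ℂ) := by
    exact_mod_cast h0
  have hdx := hdeg x hx
  have hdy := hdeg y hy
  suffices H : ∀ χp χm : IrrCharacter G, χp ≠ χm → 1 < charDegree (χp : G → ℂ) →
      (∀ g, gam R K₀ g = 1 + (χp : G → ℂ) g - (χm : G → ℂ) g) → Nonempty (Pair R K₀) by
    rcases hval x hx with ex | ex <;> rcases hval y hy with ey | ey <;> rw [ex, ey] at h0'
    · exfalso; omega
    · exact H x y hxy hdx fun g => by rw [hexp g, ex, ey]; push_cast; ring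
    · exact H y x hxy.symm hdy fun g => by rw [hexp g, ex, ey]; push_cast; ring
    · exfalso; omega
  intro χp χm hne h1 hexp
  have hd : charDegree (χm : G → ℂ) = charDegree (χp : G → ℂ) + 1 := by
    have h := hexp 1
    rw [gam_of_regular (by simp), ← coe_charDegree, ← coe_charDegree] at h
    have : ((charDegree (χm : G → ℂ) : ℕ) : ℂ) = ((charDegree (χp : G → ℂ) + 1 : ℕ) : ℂ) := by
      push_cast; linear_combination h
    exact_mod_cast this
  have hp1 : χp ≠ oneChar G := fun e => by
    rw [e, show charDegree (oneChar G : G → ℂ) = 1 from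
      charDegree_eq_of_map_one (by simp)] at h1
    omega
  have hm1 : χm ≠ oneChar G := fun e => by
    rw [e, show charDegree (oneChar G : G → ℂ) = 1 from
      charDegree_eq_of_map_one (by simp)] at hd
    omega
  have hfix : ∀ σ : ℂ →+* ℂ, (∀ g, σ ((χp : G → ℂ) g) = (χp : G → ℂ) g) ∧
      ∀ g, σ ((χm : G → ℂ) g) = (χm : G → ℂ) g := by
    intro σ
    set a : IrrCharacter G := ⟨_, isIrrCharacter_ringHom χp.2 σ⟩ with ha
    set b : IrrCharacter G := ⟨_, isIrrCharacter_ringHom χm.2 σ⟩ with hb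
    have hda : (a : G → ℂ) 1 = (χp : G → ℂ) 1 := by
      show σ _ = _
      rw [← coe_charDegree, map_natCast]
    have hdb : (b : G → ℂ) 1 = (χm : G → ℂ) 1 := by
      show σ _ = _
      rw [← coe_charDegree, map_natCast]
    have hdd : (χp : G → ℂ) 1 ≠ (χm : G → ℂ) 1 := by
      rw [← coe_charDegree, ← coe_charDegree, hd, Ne, Nat.cast_inj]
      omega
    have heq : (a : G → ℂ) - (b : G → ℂ) = (χp : G → ℂ) - (χm : G → ℂ) := by
      funext g
      show σ _ - σ _ = _
      have h := congrArg σ (hexp g)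
      have hg : σ (gam R K₀ g) = gam R K₀ g := by
        simp only [gam]
        split_ifs
        · exact map_ofNat σ 3
        · exact map_zero σ
      rw [hg, map_sub, map_add, map_one] at h
      simp only [Pi.sub_apply]
      linear_combination (hexp g) - h
    have hA : a = χp := by
      by_contra h
      have h' := congrArg (fun f => classInner f (χp : G → ℂ)) heq
      simp only [classInner_sub_left, classInner_irr, if_neg h, if_neg hne.symm] at h'
      rw [if_neg fun e => hdd (by rw [← hdb, e])] at h'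
      norm_num at h'
    have hB : b = χm := by
      rw [hA] at heq
      exact Subtype.ext (sub_right_injective heq)
    exact ⟨fun g => congrFun (congrArg Subtype.val hA) g, fun g => congrFun (congrArg Subtype.val hB) g⟩
  exact ⟨⟨χp, χm, hd, h1, hexp,
    Ito.exists_int_of_fixed (isCharacter_coe _) fun σ => (hfix σ).1,
    Ito.exists_int_of_fixed (isCharacter_coe _) fun σ => (hfix σ).2⟩⟩

end counting

end CfsgLib.NineTwoQ
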