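import Cfsg.Agent.NineTwoQ.Degrees
import Cfsg.Agent.Blocks.AbelianFrobenius.Main
import Cfsg.Agent.SylowToolkit.CentralInvolution

/-!
# The normalizer of a subgroup of order `q`, and `q ∈ {5, 7, 17}`
-/

set_option autoImplicit false
set_option linter.style.haveILetI false

namespace CfsgLib.NineTwoQ

open Cfsg Subgroup CfsgLib.Chars CfsgLib.Blocks
open scoped ComplexConjugate

universe u

variable {G : Type u} [Group G] [Fintype G] {M : Ideal AlgInt}

/-- An involution whose class has odd size. -/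
theorem exists_two_central {a m : ℕ} (ha : 0 < a) (hcard : Nat.card G = 2 ^ a * m) (hm : ¬ 2 ∣ m) :
    ∃ s : G, orderOf s = 2 ∧ ¬ 2 ∣ (centralizer ({s} : Set G)).index ∧
      ∃ S : Sylow 2 G, ∀ x ∈ (S : Subgroup G), Commute x s := by
  haveI : Fact (Nat.Prime 2) := ⟨Nat.prime_two⟩
  obtain ⟨S⟩ : Nonempty (Sylow 2 G) := inferInstance
  have hS : Nat.card (S : Subgroup G) = 2 ^ a := SylowToolkit.card_sylow_subgroup_eq hcard hm S
  haveI : Nontrivial (S : Subgroup G) := Finite.one_lt_card_iff_nontrivial.mp (by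
    rw [hS]; exact Nat.one_lt_pow ha.ne' one_lt_two)
  haveI := S.2.center_nontrivial
  obtain ⟨z, hz⟩ := exists_prime_orderOf_dvd_card' (G := center (S : Subgroup G)) 2 (by
    obtain ⟨k, hk⟩ := (S.2.to_subgroup (center (S : Subgroup G))).exists_card_eq
    rcases k with _ | k
    · have := Finite.one_lt_card (α := center (S : Subgroup G))
      rw [hk, pow_zero] at this
      exact absurd this (lt_irrefl 1)
    · rw [hk]; exact dvd_pow_self 2 k.succ_ne_zero)
  rw [← Subgroup.orderOf_coe, ← Subgroup.orderOf_coe] at hz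
  have hcom : ∀ x ∈ (S : Subgroup G), Commute x ((z : (S : Subgroup G)) : G) := fun x hx =>
    congrArg Subtype.val (mem_center_iff.mp z.2 ⟨x, hx⟩)
  refine ⟨_, hz, fun h => S.not_dvd_index (h.trans (Subgroup.index_dvd_of_le fun x hx => ?_)),
    S, hcom⟩
  exact mem_centralizer_singleton_iff.mpr (hcom x hx).eq

/-- The integer value of a character at a central involution is divisible by the two-part of its
degree. -/
theorem two_pow_dvd_value (χ : IrrCharacter G) {s : G}
    (hodd : ¬ 2 ∣ (centralizer ({s} : Set G)).index) {v : ℤ} (hv : (χ : G → ℂ) s = v) {x : ℕ}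
    (hx : 2 ^ x ∣ charDegree (χ : G → ℂ)) : (2 : ℤ) ^ x ∣ v := by
  have hint := isIntegral_centralChar χ s
  rw [centralChar, hv, ← coe_charDegree] at hint
  have hd : charDegree (χ : G → ℂ) ≠ 0 := (charDegree_pos χ).ne'
  have hdvd : charDegree (χ : G → ℂ) ∣ (centralizer ({s} : Set G)).index * v.natAbs := by
    refine dvd_of_isIntegral_div hd ?_
    rcases Int.natAbs_eq v with e | e
    · convert hint using 1
      rw [Nat.cast_mul, show ((v.natAbs : ℕ) : ℂ) = (v : ℂ) by rw [← Int.cast_natCast, ← e]]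
    · convert hint.neg using 1
      rw [Nat.cast_mul, show ((v.natAbs : ℕ) : ℂ) = -(v : ℂ) by
        rw [← Int.cast_natCast, ← Int.cast_neg]; congr 1; omega]
      ring
  have h2 : 2 ^ x ∣ v.natAbs :=
    (Nat.Coprime.pow_left x ((Nat.prime_two.coprime_iff_not_dvd).mpr hodd)).dvd_of_dvd_mul_left
      (hx.trans hdvd)
  exact Int.dvd_natAbs.mp (by exact_mod_cast h2)

/-- The data of the normalizer of a subgroup of order `q`. -/
theorem Core.exists_normalizer [IsSimpleGroup G] (C : Core G M) (hG : ¬ IsMulCommutative G)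
    [Fact C.q.Prime] (Q : Sylow C.q G) :
    Nat.card (Q : Subgroup G) = C.q ∧ centralizer ((Q : Subgroup G) : Set G) = (Q : Subgroup G) ∧
      AbelianFrobenius.Frob Q ∧
      Nat.card (Sylow C.q G) * Nat.card (AbelianFrobenius.autP Q) = 9 * 2 ^ C.a ∧
      Nat.card (AbelianFrobenius.autP Q) ∣ C.q - 1 ∧
      Nat.card (Sylow C.q G) % C.q = 1 ∧ 1 < Nat.card (Sylow C.q G) := by
  have h5 := C.q5
  have hqn : ¬ C.q ∣ 9 * 2 ^ C.a := by
    intro hd
    rcases C.hq.dvd_mul.mp hd with hd | hd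
    · have := (Nat.prime_dvd_prime_iff_eq C.hq Nat.prime_three).mp
        (C.hq.dvd_of_dvd_pow (n := 2) (by norm_num; exact hd))
      omega
    · have := (Nat.prime_dvd_prime_iff_eq C.hq Nat.prime_two).mp (C.hq.dvd_of_dvd_pow hd)
      omega
  have hQ : Nat.card (Q : Subgroup G) = C.q := by
    rw [SylowToolkit.card_sylow_subgroup_eq (k := 1) (m := 9 * 2 ^ C.a) (by rw [C.card]; ring) hqn Q,
      pow_one]
  have hord : ∀ y ∈ (Q : Subgroup G), y ≠ 1 → orderOf y = C.q ∧ zpowers y = (Q : Subgroup G) := by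
    intro y hy hy1
    have h := _root_.orderOf_dvd_natCard (⟨y, hy⟩ : (Q : Subgroup G))
    rw [Subgroup.orderOf_mk] at h
    rw [hQ, Nat.dvd_prime C.hq] at h
    have ho := h.resolve_left fun e => hy1 (orderOf_eq_one_iff.mp e)
    exact ⟨ho, eq_of_le_of_card_ge (zpowers_le.mpr hy) (by rw [Nat.card_zpowers, ho, hQ])⟩
  have hcomm : ∀ s ∈ (Q : Subgroup G), ∀ t ∈ (Q : Subgroup G), s * t = t * s := by
    intro s hs t ht
    haveI : IsCyclic (Q : Subgroup G) := isCyclic_of_prime_card hQ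
    exact congrArg Subtype.val
      (IsCyclic.commGroup.mul_comm (⟨s, hs⟩ : (Q : Subgroup G)) ⟨t, ht⟩)
  have hle : (Q : Subgroup G) ≤ centralizer ((Q : Subgroup G) : Set G) := fun s hs =>
    mem_centralizer_iff.mpr fun t ht => hcomm t ht s hs
  have hone : ∀ y ∈ (Q : Subgroup G), y ≠ 1 → centralizer ({y} : Set G) = (Q : Subgroup G) := by
    intro y hy hy1
    obtain ⟨ho, hz⟩ := hord y hy hy1
    refine le_antisymm (fun x hx => ?_) fun x hx =>
      mem_centralizer_singleton_iff.mpr (hcomm x hx y hy)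
    rw [← hz]
    exact C.selfCent y x ho (mem_centralizer_singleton_iff.mp hx)
  haveI : Nontrivial (Q : Subgroup G) := Finite.one_lt_card_iff_nontrivial.mp (by rw [hQ]; exact C.hq.one_lt)
  obtain ⟨⟨y, hy⟩, hy1⟩ := exists_ne (1 : (Q : Subgroup G))
  have hy1' : y ≠ 1 := fun e => hy1 (Subtype.ext e)
  have hcent : centralizer ((Q : Subgroup G) : Set G) = (Q : Subgroup G) := by
    refine le_antisymm (fun x hx => ?_) hle
    rw [← hone y hy hy1']
    exact mem_centralizer_singleton_iff.mpr (mem_centralizer_iff.mp hx y hy).symm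
  have hcq : C.q ∣ Nat.card G := by rw [C.card]; exact dvd_mul_left _ _
  refine ⟨hQ, hcent, fun z hz hz1 => ?_, ?_, ?_, SylowToolkit.card_sylow_mod,
    SylowToolkit.one_lt_card_sylow hG hcq⟩
  · rw [hone z hz hz1, hcent, inf_eq_left]
    exact le_normalizer
  · rw [AbelianFrobenius.card_autP, hcent]
    have h := SylowToolkit.card_normalizer_mul Q
    have h2 : Nat.card (Q : Subgroup G) * (Q : Subgroup G).relIndex (normalizer ((Q : Subgroup G) : Set G)) =
        Nat.card (normalizer ((Q : Subgroup G) : Set G)) := by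
      rw [← Nat.card_congr (Subgroup.subgroupOfEquivOfLe (le_normalizer (H := (Q : Subgroup G)))).toEquiv]
      exact Subgroup.card_mul_index _
    rw [hQ] at h2
    rw [← h2, C.card] at h
    refine Nat.eq_of_mul_eq_mul_left C.hq.pos ?_
    linarith
  · haveI : IsCyclic (Q : Subgroup G) := isCyclic_of_prime_card hQ
    haveI : Finite (MulAut (Q : Subgroup G)) := Finite.of_injective _ DFunLike.coe_injective
    have h := Subgroup.card_subgroup_dvd_card (AbelianFrobenius.autP Q)
    rwa [IsCyclic.card_mulAut, hQ, Nat.totient_prime C.hq] at h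

theorem four_dvd_two_pow {i : ℕ} (h : 2 ≤ i) : 4 ∣ 2 ^ i := by
  exact Nat.dvd_trans (by norm_num) (pow_dvd_pow 2 h)

theorem small_mersenne : ∀ α : Fin 7, 4 ≤ (α : ℕ) → ¬ 9 ∣ 2 ^ (α : ℕ) - 2 := by decide

/-- There is no `q = 2^α - 1` for which the number of Sylow subgroups is a power of two. -/
theorem Core.false_of_mersenne [IsSimpleGroup G] (C : Core G M) (hG : ¬ IsMulCommutative G)
    [Fact C.q.Prime] (Q : Sylow C.q G) (hα : 2 ^ C.α = C.q + 1) (hq : 9 < C.q) {x : ℕ}
    (hn : Nat.card (Sylow C.q G) = 2 ^ x) : False := by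
  classical
  obtain ⟨hQ, hcent, hfrob, hne, hdvd, -, hn1⟩ := C.exists_normalizer hG Q
  set e := Nat.card (AbelianFrobenius.autP Q) with he
  have hqodd : C.q % 2 = 1 := Nat.odd_iff.mp (C.hq.odd_of_ne_two (by omega))
  have hα4 : 4 ≤ C.α := by
    by_contra hlt
    have : 2 ^ C.α ≤ 2 ^ 3 := Nat.pow_le_pow_right (by norm_num) (by omega)
    omega
  have hx0 : 1 ≤ x := by
    rcases x with _ | x
    · rw [hn, pow_zero] at hn1; exact absurd hn1 (lt_irrefl 1)
    · omega
  have h9e : 9 ∣ e := by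
    rw [hn] at hne
    refine Nat.Coprime.dvd_of_dvd_mul_left (Nat.Coprime.pow_right x (by norm_num : Nat.Coprime 9 2)) ?_
    rw [hne]
    exact dvd_mul_right _ _
  have he18 : e ∣ 18 := by
    obtain ⟨k, hk⟩ : ∃ k, e = 9 * k := h9e
    obtain ⟨i, -, hi⟩ := (Nat.dvd_prime_pow Nat.prime_two).mp
      (show k ∣ 2 ^ C.a by
        refine ⟨2 ^ x, ?_⟩
        rw [hn, hk] at hne
        linarith)
    rcases (by omega : i ≤ 1 ∨ 2 ≤ i) with h | h
    · rw [hk, hi]
      exact Nat.mul_dvd_mul_left 9 (pow_dvd_pow 2 h)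
    · exfalso
      have h4 : 4 ∣ C.q - 1 := by
        rw [hk, hi] at hdvd
        exact ((four_dvd_two_pow h).trans (dvd_mul_left _ 9)).trans hdvd
      have h4' : 4 ∣ C.q + 1 := hα ▸ four_dvd_two_pow C.hα
      omega
  have heq : e ≤ 18 := Nat.le_of_dvd (by norm_num) he18
  have hq7 : 127 ≤ C.q := by
    by_contra hlt
    have hα6 : C.α < 7 := by
      by_contra hge
      have : 2 ^ 7 ≤ 2 ^ C.α := Nat.pow_le_pow_right (by norm_num) (by omega)
      omega
    refine small_mersenne ⟨C.α, hα6⟩ hα4 ?_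
    show 9 ∣ 2 ^ C.α - 2
    rw [hα, show C.q + 1 - 2 = C.q - 1 by omega]
    exact h9e.trans hdvd
  obtain ⟨M', hM'⟩ := exists_isPModular C.q C.hq
  haveI : IsMulCommutative (Q : Subgroup G) := by
    haveI : IsCyclic (Q : Subgroup G) := isCyclic_of_prime_card hQ
    exact ⟨⟨fun a b => IsCyclic.commGroup.mul_comm a b⟩⟩
  obtain ⟨d, δ, d₀, ζ, hδ, -, hζB, -, hone, hmem, hzval, -, hcnt, hsum, hrel⟩ :=
    AbelianFrobenius.exists_family (P := Q) hM' hfrob (by rw [← he, hQ]; omega)
  rw [← he, hQ] at hcnt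
  haveI : Fact (Nat.Prime 2) := ⟨Nat.prime_two⟩
  have ha : 0 < C.a := by
    have := two_le_a C
    have := C.hα
    omega
  obtain ⟨s, hs, hsodd, -⟩ := exists_two_central ha (m := 9 * C.q)
    (by rw [C.card]; ring) (by omega)
  have hsq : ¬ C.q ∣ orderOf s := by rw [hs]; intro h; have := Nat.le_of_dvd two_pos h; omega
  have hlin := fun l : G →* ℂˣ => PrimeGram.linear_trivial_of_simple hG l
  have hs2 : s * s = 1 := by rw [← pow_two, ← hs, pow_orderOf_eq_one]
  have hintval : ∀ χ : IrrCharacter G, ∃ v : ℤ, (χ : G → ℂ) s = v := by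
    intro χ
    obtain ⟨i, j, -, h, -⟩ := PrimeGram.exists_even_neg hlin hs2 (isCharacter_coe χ)
    exact ⟨(i : ℤ) - j, by rw [h]; push_cast; ring⟩
  choose v hv using hintval
  set T := (principalBlock M' G \ Set.range ζ).toFinite.toFinset with hT
  have hTm : ∀ χ, χ ∈ T ↔ χ ∈ principalBlock M' G ∧ χ ∉ Set.range ζ := fun χ => by
    rw [hT, Set.Finite.mem_toFinset, Set.mem_sdiff]
  have honeT : oneChar G ∈ T := (hTm _).mpr ⟨by
    have := isMaximal_of_isPModular hM'
    exact oneChar_mem_principalBlock, hone⟩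
  rw [finsum_mem_eq_finite_toFinset_sum _ (Set.toFinite _), ← hT] at hsum
  haveI : Nontrivial (Q : Subgroup G) := Finite.one_lt_card_iff_nontrivial.mp (by rw [hQ]; exact C.hq.one_lt)
  obtain ⟨y₀, hy₀⟩ := exists_ne (1 : (Q : Subgroup G))
  have hy₀' : (y₀ : G) ≠ 1 := fun h => hy₀ (Subtype.ext h)
  have hd1 : d (oneChar G) = 1 := by
    have h := ((hmem _ ((hTm _).mp honeT).1 ((hTm _).mp honeT).2).2) y₀ hy₀'
    rw [oneChar_apply] at h
    exact_mod_cast h.symm
  set r := Nat.card (AbelianFrobenius.Orb (AbelianFrobenius.autP Q)) with hr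
  have hr0 : 0 < r := Nat.pos_of_ne_zero fun h => by rw [h, zero_mul, zero_add] at hcnt; omega
  have hTsum : ∀ χ ∈ T, d χ ^ 2 ≤ (e : ℤ) + 1 := by
    intro χ hχ
    have h1 := Finset.single_le_sum (fun i _ => sq_nonneg (d i)) hχ
    have : (0 : ℤ) ≤ (r : ℤ) - 1 := by omega
    nlinarith [sq_nonneg (d₀ - δ), sq_nonneg d₀]
  have hbudget : ((r : ℤ) - 1) * d₀ ^ 2 + 1 ≤ (e : ℤ) + 1 := by
    have h1 := Finset.single_le_sum (fun i _ => sq_nonneg (d i)) honeT
    rw [hd1] at h1
    nlinarith [sq_nonneg (d₀ - δ)]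
  -- nontrivial members have degree divisible by sixteen
  have h16 : ∀ χ ∈ T, χ ≠ oneChar G → 16 ∣ charDegree (χ : G → ℂ) := by
    intro χ hχ hne1
    obtain ⟨hd0, hval⟩ := hmem χ ((hTm _).mp hχ).1 ((hTm _).mp hχ).2
    haveI := Fintype.ofFinite (Q : Subgroup G)
    obtain ⟨n, hn'⟩ := PrimeGram.exists_nat_sum_hom (isCharacter_coe χ) (Q : Subgroup G).subtype 1
    simp only [MonoidHom.one_apply, Units.val_one, map_one, mul_one, Subgroup.subtype_apply] at hn'
    rw [← Finset.add_sum_erase _ _ (Finset.mem_univ (1 : (Q : Subgroup G))), OneMemClass.coe_one,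
      ← coe_charDegree, Finset.sum_congr rfl fun y hy =>
        hval y fun e' => Finset.ne_of_mem_erase hy (Subtype.ext e'),
      Finset.sum_const, Finset.card_erase_of_mem (Finset.mem_univ _), Finset.card_univ,
      ← Nat.card_eq_fintype_card, hQ, nsmul_eq_mul, Nat.cast_sub C.hq.pos] at hn'
    have heq' : (charDegree (χ : G → ℂ) : ℤ) = C.q * ((n : ℤ) - d χ) + d χ := by
      have : ((charDegree (χ : G → ℂ) : ℤ) : ℂ) = ((C.q * ((n : ℤ) - d χ) + d χ : ℤ) : ℂ) := by
        push_cast at hn' ⊢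
        linear_combination hn'
      exact_mod_cast this
    set D := charDegree (χ : G → ℂ) with hD
    have h19 : d χ ^ 2 ≤ 19 := (hTsum χ hχ).trans (by omega)
    have hd5 : -5 < d χ ∧ d χ < 5 := by constructor <;> nlinarith
    have hqD : ¬ C.q ∣ D := by
      intro hdD
      have h1 : (C.q : ℤ) ∣ d χ := by
        have h2 : (C.q : ℤ) ∣ C.q * ((n : ℤ) - d χ) + d χ := heq' ▸ Int.natCast_dvd_natCast.mpr hdD
        exact (dvd_add_right (dvd_mul_right _ _)).mp h2
      exact hd0 (Int.eq_zero_of_dvd_of_natAbs_lt_natAbs h1 (by omega))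
    have hbig : C.q ≤ D + 5 := by
      by_contra hlt
      push Not at hlt
      have hk : ((n : ℤ) - d χ) = 0 := by
        rcases lt_trichotomy ((n : ℤ) - d χ) 0 with h | h | h
        · exfalso
          have : (C.q : ℤ) * ((n : ℤ) - d χ) ≤ -(C.q : ℤ) := by
            nlinarith [show (0 : ℤ) ≤ C.q from Nat.cast_nonneg _]
          omega
        · exact h
        · exfalso
          have : (C.q : ℤ) ≤ C.q * ((n : ℤ) - d χ) := by
            nlinarith [show (0 : ℤ) ≤ C.q from Nat.cast_nonneg _]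
          omega
      rw [hk, mul_zero, zero_add] at heq'
      refine hy₀' (PrimeGram.eq_one_of_value_eq_degree hne1 ?_)
      rw [hval y₀ hy₀', ← coe_charDegree, ← hD]
      exact_mod_cast heq'.symm
    obtain ⟨k, m, hk, hm, hDkm⟩ := Nat.dvd_mul.mp
      ((C.hq.coprime_iff_not_dvd.mpr hqD).symm.dvd_of_dvd_mul_right
        (by rw [← C.card]; exact charDegree_dvd_card χ))
    obtain ⟨i, -, rfl⟩ := (Nat.dvd_prime_pow Nat.prime_two).mp hm
    have hk9 := Nat.le_of_dvd (by norm_num) hk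
    have hi4 : 4 ≤ i := by
      by_contra hlt
      have : 2 ^ i ≤ 2 ^ 3 := Nat.pow_le_pow_right (by norm_num) (by omega)
      nlinarith
    rw [← hDkm]
    exact dvd_mul_of_dvd_right (Nat.dvd_trans (by norm_num) (pow_dvd_pow 2 hi4)) k
  haveI : Nonempty (AbelianFrobenius.Orb (AbelianFrobenius.autP Q)) :=
    (Nat.card_pos_iff.mp hr0).1
  obtain ⟨i₀⟩ := ‹Nonempty (AbelianFrobenius.Orb (AbelianFrobenius.autP Q))›
  set η := ζ i₀ with hη
  have hηne : η ≠ oneChar G := fun h => hone ⟨i₀, h⟩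
  set c₀ : ℤ := (r : ℤ) * d₀ - δ with hc₀
  -- the relation at `s` and at `1`
  have hrels := hrel i₀ s hsq
  have hrel1 := hrel i₀ 1 (by simpa using C.hq.ne_one)
  rw [finsum_mem_eq_finite_toFinset_sum _ (Set.toFinite _), ← hT] at hrels hrel1
  rw [hv, ← hη, Finset.sum_congr rfl fun χ _ => by rw [hv χ]] at hrels
  rw [← hη, ← coe_charDegree, Finset.sum_congr rfl fun χ _ => by rw [← coe_charDegree χ]] at hrel1
  have hsI : c₀ * v η + ∑ χ ∈ T, d χ * v χ = 0 := by
    have : ((c₀ * v η + ∑ χ ∈ T, d χ * v χ : ℤ) : ℂ) = ((0 : ℤ) : ℂ) := by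
      push_cast [hc₀]
      exact hrels
    exact_mod_cast this
  have h1I : c₀ * (charDegree (η : G → ℂ) : ℤ) + ∑ χ ∈ T, d χ * (charDegree (χ : G → ℂ) : ℤ) = 0 := by
    have : ((c₀ * (charDegree (η : G → ℂ) : ℤ) + ∑ χ ∈ T, d χ * (charDegree (χ : G → ℂ) : ℤ) : ℤ) : ℂ) =
        ((0 : ℤ) : ℂ) := by
      push_cast [hc₀]
      exact hrel1
    exact_mod_cast this
  rw [← Finset.add_sum_erase _ _ honeT, hd1, one_mul] at hsI h1I
  have hv1 : v (oneChar G) = 1 := by
    have h := hv (oneChar G)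
    rw [oneChar_apply] at h
    exact_mod_cast h.symm
  have hd11 : charDegree (oneChar G : G → ℂ) = 1 := charDegree_eq_of_map_one (by simp)
  rw [hv1] at hsI
  rw [hd11] at h1I
  have hes : (2 : ℤ) ∣ ∑ χ ∈ T.erase (oneChar G), d χ * v χ := Finset.dvd_sum fun χ hχ => by
    refine Dvd.dvd.mul_left ?_ _
    have := two_pow_dvd_value χ hsodd (hv χ) (x := 1) (by
      rw [pow_one]; exact dvd_trans (by norm_num) (h16 χ (Finset.mem_of_mem_erase hχ) (Finset.ne_of_mem_erase hχ)))
    simpa using this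
  have he1 : (16 : ℤ) ∣ ∑ χ ∈ T.erase (oneChar G), d χ * (charDegree (χ : G → ℂ) : ℤ) :=
    Finset.dvd_sum fun χ hχ => Dvd.dvd.mul_left (by
      exact_mod_cast Int.natCast_dvd_natCast.mpr
        (h16 χ (Finset.mem_of_mem_erase hχ) (Finset.ne_of_mem_erase hχ))) _
  obtain ⟨S₁, hS₁⟩ := hes
  obtain ⟨S₂, hS₂⟩ := he1
  rw [hS₁] at hsI
  rw [hS₂] at h1I
  have hprododd : (c₀ * v η) % 2 = 1 := by omega
  have hc₀odd : c₀ % 2 = 1 := by
    rcases (by omega : c₀ % 2 = 0 ∨ c₀ % 2 = 1) with h | h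
    · rw [Int.mul_emod, h] at hprododd; simp at hprododd
    · exact h
  have hvodd : v η % 2 = 1 := by
    rcases (by omega : v η % 2 = 0 ∨ v η % 2 = 1) with h | h
    · rw [Int.mul_emod, h] at hprododd; simp at hprododd
    · exact h
  -- the exceptional multiplicity vanishes
  have hd₀ : d₀ = 0 := by
    by_contra hd₀
    have hd2 : 1 ≤ d₀ ^ 2 := by
      have : 0 < d₀ ^ 2 := by positivity
      omega
    rcases (by omega : d₀ % 2 = 0 ∨ d₀ % 2 = 1) with hp | hp
    · have h4 : 4 ≤ d₀ ^ 2 := by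
        obtain ⟨c, hc⟩ := Int.dvd_of_emod_eq_zero hp
        have hc0 : c ≠ 0 := fun h => hd₀ (by rw [hc, h, mul_zero])
        have : 1 ≤ c ^ 2 := by
          have : 0 < c ^ 2 := by positivity
          omega
        rw [hc]; nlinarith
      have : ((r : ℤ) - 1) * 4 ≤ 18 := by nlinarith [show (0 : ℤ) ≤ (r : ℤ) - 1 by omega]
      have hr5 : r ≤ 5 := by omega
      have := Nat.mul_le_mul hr5 heq
      omega
    · have hreven : r % 2 = 0 := by
        rcases (Nat.mod_two_eq_zero_or_one r) with h | h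
        · exact h
        · exfalso
          have : ((r : ℤ) * d₀) % 2 = 1 := by
            rw [Int.mul_emod, hp, show ((r : ℤ) % 2) = 1 by omega]; rfl
          rcases hδ with rfl | rfl <;> omega
      have he9 : e = 9 := by
        obtain ⟨k, hk⟩ := h9e
        have : k = 1 ∨ k = 2 := by
          have hk0 : k ≠ 0 := fun h => by
            rw [hk, h, mul_zero, mul_zero] at hcnt
            omega
          omega
        rcases this with h | h
        · rw [hk, h]
        · exfalso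
          have h36 : 4 ∣ r * e := Nat.mul_dvd_mul (a := 2) (c := 2) (Nat.dvd_of_mod_eq_zero hreven)
            (Dvd.intro 9 (by omega))
          have h4' : 4 ∣ C.q + 1 :=
            hα ▸ four_dvd_two_pow C.hα
          omega
      have : (r : ℤ) - 1 ≤ 9 := by
        rw [he9] at hbudget
        have := mul_le_mul_of_nonneg_left hd2 (show (0 : ℤ) ≤ (r : ℤ) - 1 by omega)
        push_cast at hbudget
        linarith
      have hr10 : r ≤ 10 := by omega
      have := Nat.mul_le_mul hr10 he9.le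
      omega
  -- so the degree of `η` is one
  set X := charDegree (η : G → ℂ) with hX
  have hXq : ¬ C.q ∣ X := by
    intro h
    have hqn : ¬ C.q ∣ 9 * 2 ^ C.a := by
      intro hd
      rcases C.hq.dvd_mul.mp hd with hd | hd
      · have := Nat.le_of_dvd (by norm_num) hd; omega
      · have := (Nat.prime_dvd_prime_iff_eq C.hq Nat.prime_two).mp (C.hq.dvd_of_dvd_pow hd)
        omega
    have hvan : ∀ y : (Q : Subgroup G), (y : G) ≠ 1 → (η : G → ℂ) y = 0 := fun y hy =>
      Chars.Brauer.eq_zero_of_defect_zero C.hq η (a := 1) (m := 9 * 2 ^ C.a)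
        (by rw [C.card]; ring) hqn (by rw [pow_one]; exact h) (by
          have hh := _root_.orderOf_dvd_natCard y
          rw [hQ, Nat.dvd_prime C.hq, Subgroup.orderOf_mk] at hh
          rw [hh.resolve_left fun e' => hy (orderOf_eq_one_iff.mp e')])
    haveI := Fintype.ofFinite (AbelianFrobenius.autP Q)
    haveI := Fintype.ofFinite (Q : Subgroup G)
    set l := AbelianFrobenius.Orb.rep (AbelianFrobenius.autP Q) i₀ with hl
    have hl1 : l ≠ 1 := AbelianFrobenius.Orb.rep_ne_one _ _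
    have hsum0 : ∑ y : (Q : Subgroup G), ∑ᶠ a : AbelianFrobenius.autP Q,
        ((l ((a : MulAut (Q : Subgroup G)) y) : ℂˣ) : ℂ) = 0 := by
      simp only [finsum_eq_sum_of_fintype]
      rw [Finset.sum_comm]
      refine Finset.sum_eq_zero fun a _ => ?_
      refine (Equiv.sum_comp ((a : MulAut (Q : Subgroup G)).toEquiv) fun y => ((l y : ℂˣ) : ℂ)).trans ?_
      obtain ⟨y₁, hy₁⟩ : ∃ y₁, l y₁ ≠ 1 := by
        by_contra hcon
        push Not at hcon
        exact hl1 (MonoidHom.ext hcon)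
      have h := Equiv.sum_comp (Equiv.mulLeft y₁) fun y : (Q : Subgroup G) => ((l y : ℂˣ) : ℂ)
      simp only [Equiv.coe_mulLeft, map_mul, Units.val_mul, ← Finset.mul_sum] at h
      have h' : (((l y₁ : ℂˣ) : ℂ) - 1) * ∑ y : (Q : Subgroup G), ((l y : ℂˣ) : ℂ) = 0 := by
        rw [sub_mul, one_mul, h, sub_self]
      exact (mul_eq_zero.mp h').resolve_left (sub_ne_zero.mpr fun h'' => hy₁ (Units.ext h''))
    rw [← Finset.add_sum_erase _ _ (Finset.mem_univ (1 : (Q : Subgroup G)))] at hsum0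
    have hterm : ∀ y ∈ (Finset.univ : Finset (Q : Subgroup G)).erase 1,
        ∑ᶠ a : AbelianFrobenius.autP Q, ((l ((a : MulAut (Q : Subgroup G)) y) : ℂˣ) : ℂ) = 0 := by
      intro y hy
      have h0 := hzval i₀ y fun h' => Finset.ne_of_mem_erase hy (Subtype.ext h')
      rw [hvan y fun h' => Finset.ne_of_mem_erase hy (Subtype.ext h'), hd₀, Int.cast_zero, zero_add] at h0
      rcases hδ with rfl | rfl <;> simpa using h0.symm
    rw [Finset.sum_eq_zero hterm, add_zero] at hsum0
    simp only [map_one, Units.val_one, finsum_eq_sum_of_fintype, Finset.sum_const, Finset.card_univ,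
      nsmul_eq_mul, mul_one, Nat.cast_eq_zero] at hsum0
    exact absurd hsum0 Fintype.card_ne_zero
  have hXodd : ¬ 2 ∣ X := fun h => by
    have := two_pow_dvd_value η hsodd (hv η) (x := 1) (by rw [pow_one]; exact h)
    omega
  have hX9 : X ∣ 9 :=
    (((Nat.prime_two.coprime_iff_not_dvd.mpr hXodd).symm.pow_right C.a)).dvd_of_dvd_mul_right
      ((C.hq.coprime_iff_not_dvd.mpr hXq).symm.dvd_of_dvd_mul_right
        (by rw [← C.card]; exact charDegree_dvd_card η))
  have hX1 : 1 < X := HerzogThree.one_lt_charDegree hG fun h => hηne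
    (Subtype.ext (h.trans oneChar_coe.symm))
  have hX39 : X = 3 ∨ X = 9 := by
    obtain ⟨k, hk2, hk⟩ := (Nat.dvd_prime_pow Nat.prime_three).mp (show X ∣ 3 ^ 2 from hX9)
    interval_cases k <;> simp_all
  rw [hd₀] at hc₀
  simp only [mul_zero, zero_sub] at hc₀
  rw [hc₀] at h1I
  rcases hδ with rfl | rfl <;> rcases hX39 with h | h <;> rw [h] at h1I <;> push_cast at h1I <;> omega

theorem pow_mod_order {R : Type*} [CommRing R] {a : R} {α : ℕ} (h : a ^ α = 1) (x : ℕ) :
    a ^ x = a ^ (x % α) := by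
  conv_lhs => rw [← Nat.div_add_mod x α, pow_add, pow_mul, h, one_pow, one_mul]

/-- A power of two congruent to a small number. -/
theorem eq_of_dvd_sub {q c m α : ℕ} (h : (q : ℤ) ∣ (2 : ℤ) ^ m - c) (hc : 0 < c) (hcq : c < q)
    (hm : m < α) (hα : 2 ^ α ≤ q + 1) : 2 ^ m = c := by
  have h2 : 2 * 2 ^ m ≤ 2 ^ α := by
    rw [← pow_succ']; exact Nat.pow_le_pow_right (by norm_num) hm
  have h1 : 1 ≤ 2 ^ m := Nat.one_le_two_pow
  have h3 : ((2 : ℤ) ^ m - c).natAbs < (q : ℤ).natAbs := by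
    have e : (2 : ℤ) ^ m = ((2 ^ m : ℕ) : ℤ) := by push_cast; rfl
    rw [e]
    omega
  have := Int.eq_zero_of_dvd_of_natAbs_lt_natAbs h h3
  have : ((2 ^ m : ℕ) : ℤ) = c := by push_cast; linarith
  exact_mod_cast this

theorem fermat_small : ∀ q < 18, ∀ α < 5, 2 ≤ α → q = 2 ^ α + 1 → 5 ≤ q → q = 5 ∨ q = 9 ∨ q = 17 := by
  intro q _ α hα h2 h _
  interval_cases α <;> omega

theorem mersenne_small : ∀ α < 4, 2 ≤ α → ∀ q, 2 ^ α = q + 1 → 5 ≤ q → q = 7 ∧ α = 3 := by
  intro α hα h2 q h h5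
  interval_cases α <;> omega

/-- The possible primes. -/
theorem Core.cases [IsSimpleGroup G] (C : Core G M) (hG : ¬ IsMulCommutative G) :
    (C.q = 5 ∧ C.α = 2 ∧ charDegree (C.P.χp : G → ℂ) = 4) ∨
      (C.q = 7 ∧ C.α = 3 ∧ charDegree (C.P.χp : G → ℂ) = 7) ∨
      (C.q = 17 ∧ C.α = 4 ∧ charDegree (C.P.χp : G → ℂ) = 16) := by
  classical
  haveI : Fact C.q.Prime := ⟨C.hq⟩
  obtain ⟨Q⟩ : Nonempty (Sylow C.q G) := inferInstance
  obtain ⟨hQ, -, -, hne, hdvd, hmod, hn1⟩ := C.exists_normalizer hG Q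
  set n := Nat.card (Sylow C.q G) with hn
  set e := Nat.card (AbelianFrobenius.autP Q)
  obtain ⟨c, m, hc, hm, hcm⟩ := Nat.dvd_mul.mp (Dvd.intro e hne)
  obtain ⟨x, -, rfl⟩ := (Nat.dvd_prime_pow Nat.prime_two).mp hm
  have hc9 := Nat.le_of_dvd (by norm_num) hc
  have hc0 : 0 < c := Nat.pos_of_ne_zero fun h => by rw [h] at hc; norm_num at hc
  have hzmod : (c : ZMod C.q) * (2 : ZMod C.q) ^ x = 1 := by
    have h : ((n % C.q : ℕ) : ZMod C.q) = ((1 : ℕ) : ZMod C.q) := by rw [hmod]
    rw [ZMod.natCast_mod, ← hcm] at h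
    simpa using h
  have hdeg := C.P.deg
  rcases C.deg with ⟨hp, hm'⟩ | ⟨hp, hm'⟩
  · -- `q = 2^α + 1`
    rw [hp, hm'] at hdeg
    have hαq : C.q = 2 ^ C.α + 1 := hdeg
    by_cases hsmall : C.α < 5
    · have hq18 : C.q < 18 := by
        have : 2 ^ C.α ≤ 2 ^ 4 := Nat.pow_le_pow_right (by norm_num) (by omega)
        omega
      rcases fermat_small C.q hq18 C.α hsmall C.hα hαq C.q5 with h | h | h
      · have hα2 : C.α = 2 := Nat.pow_right_injective le_rfl (show 2 ^ C.α = 2 ^ 2 by omega)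
        exact Or.inl ⟨h, hα2, by rw [hp, hα2]; norm_num⟩
      · exact absurd (h ▸ C.hq) (by norm_num)
      · have hα4 : C.α = 4 := Nat.pow_right_injective le_rfl (show 2 ^ C.α = 2 ^ 4 by omega)
        exact Or.inr (Or.inr ⟨h, hα4, by rw [hp, hα4]; norm_num⟩)
    exfalso
    push Not at hsmall
    have h32 : 2 ^ 5 ≤ 2 ^ C.α := Nat.pow_le_pow_right (by norm_num) hsmall
    have hc' : c = 9 := by
      have h3 : ¬ 3 ∣ e := fun h => by
        have hd := h.trans hdvd
        rw [hαq, Nat.add_sub_cancel] at hd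
        have := (Nat.prime_dvd_prime_iff_eq Nat.prime_three Nat.prime_two).mp
          (Nat.prime_three.dvd_of_dvd_pow hd)
        omega
      have h9 : 9 ∣ c * 2 ^ x * e := by rw [hcm, hne]; exact dvd_mul_right _ _
      have hco : Nat.Coprime 9 (2 ^ x * e) := Nat.Coprime.mul_right
        (Nat.Coprime.pow_right x (by norm_num))
        ((Nat.prime_three.coprime_iff_not_dvd.mpr h3).pow_left 2)
      rw [mul_assoc] at h9
      exact Nat.dvd_antisymm hc (hco.dvd_of_dvd_mul_right h9)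
    subst hc'
    have hneg : (2 : ZMod C.q) ^ C.α = -1 := by
      have h : ((2 ^ C.α + 1 : ℕ) : ZMod C.q) = 0 := by rw [← hαq, ZMod.natCast_self]
      push_cast at h
      linear_combination h
    have hx : (2 : ZMod C.q) ^ x = (2 : ZMod C.q) ^ (x % C.α) ∨
        (2 : ZMod C.q) ^ x = -(2 : ZMod C.q) ^ (x % C.α) := by
      have h : (2 : ZMod C.q) ^ x = (-1) ^ (x / C.α) * (2 : ZMod C.q) ^ (x % C.α) := by
        conv_lhs => rw [← Nat.div_add_mod x C.α, pow_add, pow_mul, hneg]
      rcases neg_one_pow_eq_or (ZMod C.q) (x / C.α) with e' | e' <;> rw [e'] at h <;>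
        simp only [one_mul, neg_one_mul] at h
      · exact Or.inl h
      · exact Or.inr h
    set j := x % C.α with hj
    have hjlt : j < C.α := Nat.mod_lt _ (by omega)
    push_cast at hzmod
    rcases Nat.eq_zero_or_pos j with hj0 | hjpos
    · rw [hj0, pow_zero] at hx
      rcases hx with e' | e' <;> rw [e'] at hzmod
      · have h : ((8 : ℕ) : ZMod C.q) = 0 := by push_cast; linear_combination hzmod
        have := Nat.le_of_dvd (by norm_num) ((ZMod.natCast_eq_zero_iff _ _).mp h)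
        omega
      · have h : ((10 : ℕ) : ZMod C.q) = 0 := by push_cast; linear_combination (-1 : ZMod C.q) * hzmod
        have := Nat.le_of_dvd (by norm_num) ((ZMod.natCast_eq_zero_iff _ _).mp h)
        omega
    · have hsplit : (2 : ZMod C.q) ^ (C.α - j) * (2 : ZMod C.q) ^ j = -1 := by
        rw [← pow_add, Nat.sub_add_cancel hjlt.le, hneg]
      have hlt' : 2 * 2 ^ (C.α - j) ≤ 2 ^ C.α := by
        rw [← pow_succ']; exact Nat.pow_le_pow_right (by norm_num) (by omega)
      rcases hx with e' | e' <;> rw [e'] at hzmod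
      · have h : ((9 + 2 ^ (C.α - j) : ℕ) : ZMod C.q) = 0 := by
          push_cast
          linear_combination -(2 : ZMod C.q) ^ (C.α - j) * hzmod + (9 : ZMod C.q) * hsplit
        have := Nat.le_of_dvd (by positivity) ((ZMod.natCast_eq_zero_iff _ _).mp h)
        omega
      · have h : (((2 : ℤ) ^ (C.α - j) - (9 : ℕ) : ℤ) : ZMod C.q) = 0 := by
          push_cast
          linear_combination -(2 : ZMod C.q) ^ (C.α - j) * hzmod - (9 : ZMod C.q) * hsplit
        have := eq_of_dvd_sub (α := C.α) ((ZMod.intCast_zmod_eq_zero_iff_dvd _ _).mp h) (by norm_num)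
          (by omega) (by omega) (by omega)
        have hpar : 2 ∣ 2 ^ (C.α - j) := dvd_pow_self 2 (by omega)
        omega
  · -- `q = 2^α - 1`
    rw [hp, hm'] at hdeg
    by_cases hsmall : C.α < 4
    · obtain ⟨h1, h2⟩ := mersenne_small C.α hsmall C.hα C.q hdeg C.q5
      exact Or.inr (Or.inl ⟨h1, h2, hp.trans h1⟩)
    exfalso
    push Not at hsmall
    have h16 : 2 ^ 4 ≤ 2 ^ C.α := Nat.pow_le_pow_right (by norm_num) hsmall
    have hone : (2 : ZMod C.q) ^ C.α = 1 := by
      have h : ((2 ^ C.α : ℕ) : ZMod C.q) = ((C.q + 1 : ℕ) : ZMod C.q) := by rw [hdeg]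
      push_cast at h
      rwa [ZMod.natCast_self, zero_add] at h
    rw [pow_mod_order hone] at hzmod
    set j := x % C.α with hj
    have hjlt : j < C.α := Nat.mod_lt _ (by omega)
    have hinv : (2 : ZMod C.q) ^ ((C.α - j) % C.α) * (2 : ZMod C.q) ^ j = 1 := by
      rw [← pow_mod_order hone, ← pow_add, Nat.sub_add_cancel hjlt.le, hone]
    have h : (((2 : ℤ) ^ ((C.α - j) % C.α) - c : ℤ) : ZMod C.q) = 0 := by
      push_cast
      linear_combination (c : ZMod C.q) * hinv - (2 : ZMod C.q) ^ ((C.α - j) % C.α) * hzmod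
    have hval := eq_of_dvd_sub (α := C.α) ((ZMod.intCast_zmod_eq_zero_iff_dvd _ _).mp h) hc0
      (by omega) (Nat.mod_lt _ (by omega)) (by omega)
    obtain ⟨k, hk2, hk⟩ := (Nat.dvd_prime_pow Nat.prime_three).mp (show c ∣ 3 ^ 2 from hc)
    have hc1 : c = 1 := by
      rcases Nat.eq_zero_or_pos k with hk0 | hkpos
      · rw [hk, hk0, pow_zero]
      · exfalso
        have h2 : 3 ∣ 2 ^ ((C.α - j) % C.α) := by rw [hval, hk]; exact dvd_pow_self 3 hkpos.ne'
        have := (Nat.prime_dvd_prime_iff_eq Nat.prime_three Nat.prime_two).mp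
          (Nat.prime_three.dvd_of_dvd_pow h2)
        omega
    rw [hc1, one_mul] at hcm
    exact C.false_of_mersenne hG Q hdeg (by omega) (x := x) hcm.symm

end CfsgLib.NineTwoQ
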